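import Cfsg.Agent.MinSimple.Geo

/-!
# THEOREM C (#15545, helper610), `q = 2`, the level of `N = N_G(E)/C_G(E)`: (R), (P1), (F), (F'), (3), (4), (5)

Interface: helper732 (#16261, #16454).  `N` acts faithfully on the elementary abelian 2-group `A = ⊕ C_l`
(`C_l = π_l A`), the Sylow 2-subgroup `T` of `N` permutes the `C_l` faithfully and transitively (`σ`), `z_l ∈ C_l` is the
only nonzero vector of `C_l` fixed by the stabiliser of `C_l` in `T`.
-/

set_option autoImplicit false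

namespace Cfsg.Agent.Omega.ThmC.TwoN

open Subgroup

/-- the data (helper732) -/
structure NDat {N : Type*} [Group N] (T : Sylow 2 N) {A : Type*} [AddCommGroup A] [DistribMulAction N A] {ι : Type*}
    [Fintype ι] (π : ι → A →+ A) (σ : N → ι → ι) (z : ι → A) : Prop where
  two : ∀ a : A, a + a = 0
  faith : ∀ n : N, (∀ a : A, n • a = a) → n = 1
  idem : ∀ l a, π l (π l a) = π l a
  orth : ∀ l m, l ≠ m → ∀ a, π l (π m a) = 0
  sum : ∀ a, ∑ l, π l a = a
  perm : ∀ s ∈ (T : Subgroup N), ∀ l a, s • π l a = π (σ s l) (s • a)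
  ker : ∀ s ∈ (T : Subgroup N), (∀ l, σ s l = l) → s = 1
  trans : ∀ l m, ∃ s ∈ (T : Subgroup N), σ s l = m
  zm : ∀ l, π l (z l) = z l
  z0 : ∀ l, z l ≠ 0
  zfix : ∀ l a, π l a = a → (∀ s ∈ (T : Subgroup N), σ s l = l → s • a = a) → a = 0 ∨ a = z l

section defs

variable {N : Type*} [Group N] {A : Type*} [AddCommGroup A] [DistribMulAction N A] {ι : Type*}

/-- `a ↦ n • a + a` -/
def dm (A : Type*) [AddCommGroup A] [DistribMulAction N A] (n : N) : A →+ A where
  toFun a := n • a + a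
  map_zero' := by rw [smul_zero, add_zero]
  map_add' a b := by rw [smul_add]; abel

theorem dm_apply (n : N) (a : A) : dm A n a = n • a + a := rfl

/-- `I n = [A, n]` -/
def I (A : Type*) [AddCommGroup A] [DistribMulAction N A] (n : N) : AddSubgroup A := (dm A n).range

theorem mem_I {n : N} {a : A} : a ∈ I A n ↔ ∃ b, n • b + b = a := Iff.rfl

/-- `C_l = π_l A` -/
def Cc (π : ι → A →+ A) (l : ι) : AddSubgroup A where
  carrier := {a | π l a = a}
  zero_mem' := map_zero _
  add_mem' {a b} ha hb := by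
    change π l (a + b) = a + b
    rw [map_add]
    exact congrArg₂ _ ha hb
  neg_mem' {a} ha := by
    change π l (-a) = -a
    rw [map_neg]
    exact congrArg _ ha

theorem mem_Cc {π : ι → A →+ A} {l : ι} {a : A} : a ∈ Cc π l ↔ π l a = a := Iff.rfl

/-- `n` is trivial on `C_l`, `l ≠ x, y`, and normalises `C_x + C_y` -/
structure Sup (π : ι → A →+ A) (n : N) (x y : ι) : Prop where
  triv : ∀ l, l ≠ x → l ≠ y → ∀ a : A, n • π l a = π l a
  inv : ∀ l, l ≠ x → l ≠ y → ∀ a : A, π l (n • a) = π l a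

/-- `n ∈ T` is the transposition `(x y)` -/
structure Tr (T : Subgroup N) (π : ι → A →+ A) (σ : N → ι → ι) (n : N) (x y : ι) : Prop where
  mem : n ∈ T
  ne : x ≠ y
  xy : σ n x = y
  yx : σ n y = x
  triv : ∀ l, l ≠ x → l ≠ y → ∀ a : A, n • π l a = π l a

theorem Sup.symm {π : ι → A →+ A} {n : N} {x y : ι} (h : Sup π n x y) : Sup π n y x :=
  ⟨fun l h1 h2 => h.triv l h2 h1, fun l h1 h2 => h.inv l h2 h1⟩

theorem Sup.mul {π : ι → A →+ A} {n n' : N} {x y : ι} (h : Sup π n x y) (h' : Sup π n' x y) : Sup π (n * n') x y :=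
  ⟨fun l h1 h2 a => by rw [mul_smul, h'.triv l h1 h2, h.triv l h1 h2],
    fun l h1 h2 a => by rw [mul_smul, h.inv l h1 h2, h'.inv l h1 h2]⟩

theorem Sup.one {π : ι → A →+ A} {x y : ι} : Sup π (1 : N) x y :=
  ⟨fun l _ _ a => one_smul _ _, fun l _ _ a => by rw [one_smul]⟩

theorem Sup.pow {π : ι → A →+ A} {n : N} {x y : ι} (h : Sup π n x y) (k : ℕ) : Sup π (n ^ k) x y := by
  induction k with
  | zero => rw [pow_zero]; exact Sup.one
  | succ k ih => rw [pow_succ]; exact ih.mul h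

theorem Tr.symm {T : Subgroup N} {π : ι → A →+ A} {σ : N → ι → ι} {n : N} {x y : ι} (h : Tr T π σ n x y) :
    Tr T π σ n y x :=
  ⟨h.mem, h.ne.symm, h.yx, h.xy, fun l h1 h2 => h.triv l h2 h1⟩

theorem mem_I_conj {n : N} (g : N) {a : A} : g • a ∈ I A (g * n * g⁻¹) ↔ a ∈ I A n := by
  constructor
  · rintro ⟨b, hb⟩
    refine ⟨g⁻¹ • b, ?_⟩
    rw [dm_apply] at hb ⊢
    rw [← smul_left_cancel_iff g, smul_add, ← hb, smul_inv_smul, ← mul_smul, ← mul_smul, mul_assoc]
  · rintro ⟨b, rfl⟩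
    refine ⟨g • b, ?_⟩
    rw [dm_apply, dm_apply, smul_add, mul_smul, mul_smul, inv_smul_smul]

theorem card_I_conj (n g : N) : Nat.card (I A (g * n * g⁻¹)) = Nat.card (I A n) := by
  have h : ∀ a : I A (g * n * g⁻¹), g⁻¹ • (a : A) ∈ I A n := fun a => by
    rw [← mem_I_conj g, smul_inv_smul]; exact a.2
  let e : I A n ≃ I A (g * n * g⁻¹) :=
    { toFun := fun a => ⟨g • (a : A), (mem_I_conj g).2 a.2⟩
      invFun := fun a => ⟨g⁻¹ • (a : A), h a⟩
      left_inv := fun a => Subtype.ext (inv_smul_smul g (a : A))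
      right_inv := fun a => Subtype.ext (smul_inv_smul g (a : A)) }
  exact (Nat.card_congr e).symm

/-- a nonzero invariant subgroup contains a nonzero fixed vector of a 2-group -/
theorem exists_fixed [Finite A] (h2 : ∀ a : A, a + a = 0) {T : Subgroup N} (hT : IsPGroup 2 T) {B : AddSubgroup A}
    (hB : ∀ s ∈ T, ∀ b ∈ B, s • b ∈ B) (hne : B ≠ ⊥) : ∃ b ∈ B, b ≠ 0 ∧ ∀ s ∈ T, s • b = b := by
  have : Fact (Nat.Prime 2) := ⟨Nat.prime_two⟩
  let act : MulAction T B :=
    { smul := fun s b => ⟨(s : N) • (b : A), hB s s.2 b b.2⟩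
      one_smul := fun b => Subtype.ext (by change ((1 : T) : N) • (b : A) = b; rw [Subgroup.coe_one, one_smul])
      mul_smul := fun s s' b => Subtype.ext (by
        change ((s * s' : T) : N) • (b : A) = (s : N) • (s' : N) • (b : A); rw [Subgroup.coe_mul, mul_smul]) }
  have hd : 2 ∣ Nat.card B := by
    obtain ⟨b, hb0⟩ := AddSubgroup.ne_bot_iff_exists_ne_zero.1 hne
    have h1 : addOrderOf b = 2 := addOrderOf_eq_prime (by
      apply Subtype.ext
      rw [two_nsmul, AddSubgroup.coe_add, h2]; rfl) hb0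
    rw [← h1]
    exact addOrderOf_dvd_natCard b
  have h0 : (0 : B) ∈ MulAction.fixedPoints T B := fun s => Subtype.ext (by
    change (s : N) • ((0 : B) : A) = 0
    rw [AddSubgroup.coe_zero, smul_zero])
  obtain ⟨b, hb, hb0⟩ := hT.exists_fixed_point_of_prime_dvd_card_of_fixed_point B hd h0
  refine ⟨b, b.2, fun e => hb0 (Subtype.ext (by rw [e]; rfl)), fun s hs => ?_⟩
  exact congrArg Subtype.val (hb ⟨s, hs⟩)

/-- a 2-subgroup is conjugate into the Sylow group -/
theorem exists_conj [Finite N] (T : Sylow 2 N) {F : Subgroup N} (hF : IsPGroup 2 F) :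
    ∃ g : N, ∀ n ∈ F, g * n * g⁻¹ ∈ (T : Subgroup N) := by
  have : Fact (Nat.Prime 2) := ⟨Nat.prime_two⟩
  obtain ⟨R, hR⟩ := hF.exists_le_sylow
  obtain ⟨g, hg⟩ := MulAction.exists_smul_eq N R T
  refine ⟨g, fun n hn => ?_⟩
  have h2 : (MulAut.conj g) n ∈ ((g • R : Sylow 2 N) : Subgroup N) := by
    rw [Sylow.smul_def]
    exact Subgroup.smul_mem_pointwise_smul _ (MulAut.conj g) _ (hR hn)
  rw [hg] at h2
  exact h2

end defs

section tools

variable {N : Type*} [Group N] {T : Sylow 2 N} {A : Type*} [AddCommGroup A] [DistribMulAction N A] {ι : Type*}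
  [Fintype ι] {π : ι → A →+ A} {σ : N → ι → ι} {z : ι → A}

variable (D : NDat T π σ z)

include D

theorem ext {a b : A} (h : ∀ l, π l a = π l b) : a = b := by
  rw [← D.sum a, ← D.sum b]
  exact Finset.sum_congr rfl fun l _ => h l

theorem pi_ne {l m : ι} (h : l ≠ m) {a : A} (ha : π m a = a) : π l a = 0 := by
  rw [← ha, D.orth l m h]

theorem eq_zero {l m : ι} (h : l ≠ m) {a : A} (ha : π l a = a) (hb : π m a = a) : a = 0 := by
  rw [← ha]; exact pi_ne D h hb

theorem idx {l m : ι} {a : A} (h0 : a ≠ 0) (ha : π l a = a) (hb : π m a = a) : l = m := by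
  by_contra h
  exact h0 (eq_zero D h ha hb)

theorem smul_mem {s : N} (hs : s ∈ (T : Subgroup N)) {l : ι} {a : A} (ha : π l a = a) : π (σ s l) (s • a) = s • a := by
  rw [← D.perm s hs, ha]

theorem σ_eq {s : N} (hs : s ∈ (T : Subgroup N)) {l m : ι} (h : π m (s • z l) = s • z l) : σ s l = m := by
  refine idx D (a := s • z l) (fun e => D.z0 l ?_) (smul_mem D hs (D.zm l)) h
  rw [← smul_zero s, smul_left_cancel_iff] at e
  exact e

theorem σ_mul {s s' : N} (hs : s ∈ (T : Subgroup N)) (hs' : s' ∈ (T : Subgroup N)) (l : ι) :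
    σ (s * s') l = σ s (σ s' l) := by
  apply σ_eq D (mul_mem hs hs')
  rw [mul_smul]
  exact smul_mem D hs (smul_mem D hs' (D.zm l))

theorem σ_one (l : ι) : σ 1 l = l := by
  apply σ_eq D (one_mem _)
  rw [one_smul]; exact D.zm l

theorem σ_inj {s : N} (hs : s ∈ (T : Subgroup N)) {l m : ι} (h : σ s l = σ s m) : l = m := by
  rw [← σ_one D l, ← σ_one D m, ← inv_mul_cancel s, σ_mul D (inv_mem hs) hs, σ_mul D (inv_mem hs) hs, h]

/-- the stabiliser of `l` in `T` -/
def st (l : ι) : Subgroup N where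
  carrier := {s | s ∈ (T : Subgroup N) ∧ σ s l = l}
  one_mem' := ⟨one_mem _, σ_one D l⟩
  mul_mem' {a b} ha hb := ⟨mul_mem ha.1 hb.1, by rw [σ_mul D ha.1 hb.1, hb.2, ha.2]⟩
  inv_mem' {a} ha := ⟨inv_mem ha.1, σ_inj D ha.1 (by
    rw [← σ_mul D ha.1 (inv_mem ha.1), mul_inv_cancel, σ_one D]; exact ha.2.symm)⟩

theorem mem_st {l : ι} {s : N} : s ∈ st D l ↔ s ∈ (T : Subgroup N) ∧ σ s l = l := Iff.rfl

theorem st_le (l : ι) : st D l ≤ (T : Subgroup N) := fun _ h => h.1

theorem st_two (l : ι) : IsPGroup 2 (st D l) := T.isPGroup'.to_le (st_le D l)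

theorem zl_fix [Finite A] {s : N} {l : ι} (hs : s ∈ (T : Subgroup N)) (h : σ s l = l) : s • z l = z l := by
  obtain ⟨b, hb, hb0, hb1⟩ := exists_fixed (B := Cc π l) D.two (st_two D l) (fun s hs b hb => by
      have := smul_mem D hs.1 hb
      rw [hs.2] at this
      exact this) (fun e => D.z0 l (by
      have : z l ∈ Cc π l := D.zm l
      rwa [e, AddSubgroup.mem_bot] at this))
  rcases D.zfix l b hb fun s hs h => hb1 s ⟨hs, h⟩ with h1 | h1
  · exact absurd h1 hb0
  · rw [← h1]; exact hb1 s ⟨hs, h⟩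

theorem zmap [Finite A] {s : N} (hs : s ∈ (T : Subgroup N)) (l : ι) : s • z l = z (σ s l) := by
  rcases D.zfix (σ s l) (s • z l) (smul_mem D hs (D.zm l)) fun r hr hr1 => by
    have h2 : σ (s⁻¹ * r * s) l = l := by
      rw [σ_mul D (mul_mem (inv_mem hs) hr) hs, σ_mul D (inv_mem hs) hr, hr1, ← σ_mul D (inv_mem hs) hs,
        inv_mul_cancel, σ_one D]
    have h3 := zl_fix D (mul_mem (mul_mem (inv_mem hs) hr) hs) h2
    rw [mul_smul, mul_smul, inv_smul_eq_iff] at h3
    exact h3 with h | h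
  · exact absurd h ((smul_ne_zero_iff_ne s).2 (D.z0 l))
  · exact h

/-- all `C_l` have the same order -/
theorem card_eq [Finite A] (l m : ι) : Nat.card (Cc π l) = Nat.card (Cc π m) := by
  have key : ∀ l m, Nat.card (Cc π l) ≤ Nat.card (Cc π m) := fun l m => by
    obtain ⟨s, hs, h⟩ := D.trans l m
    refine Nat.card_le_card_of_injective (fun a : Cc π l => (⟨s • (a : A), ?_⟩ : Cc π m)) fun a b hab => ?_
    · rw [← h]; exact smul_mem D hs a.2
    · exact Subtype.ext (smul_left_cancel s (congrArg Subtype.val hab))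
  exact le_antisymm (key l m) (key m l)

theorem sum_two {x y : ι} (hxy : x ≠ y) (f : A →+ A) (h : ∀ l, l ≠ x → l ≠ y → ∀ a, f (π l a) = 0) (a : A) :
    f a = f (π x a) + f (π y a) := by
  conv_lhs => rw [← D.sum a, map_sum]
  exact Finset.sum_eq_add x y hxy (fun l _ hl => h l hl.1 hl.2 a) (fun h => absurd (Finset.mem_univ _) h)
    (fun h => absurd (Finset.mem_univ _) h)

theorem smul_eq_iff {n : N} {a : A} : n • a = a ↔ dm A n a = 0 := by
  rw [dm_apply]
  constructor
  · intro h; rw [h, D.two]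
  · intro h
    calc n • a = n • a + (a + a) := by rw [D.two, add_zero]
      _ = (n • a + a) + a := by abel
      _ = a := by rw [h, zero_add]

/-- the image of an involution is fixed -/
theorem I_fix {n : N} (hn : ∀ a : A, n • n • a = a) {a : A} (ha : a ∈ I A n) : n • a = a := by
  obtain ⟨b, rfl⟩ := ha
  rw [dm_apply, smul_add, hn, add_comm]

theorem Tr.fix {s : N} {x y : ι} (h : Tr (T : Subgroup N) π σ s x y) {l : ι} (h1 : l ≠ x) (h2 : l ≠ y) :
    σ s l = l := by
  apply σ_eq D h.mem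
  have h3 := h.triv l h1 h2 (z l)
  rw [D.zm] at h3
  rw [h3, D.zm]

theorem Tr.sup {s : N} {x y : ι} (h : Tr (T : Subgroup N) π σ s x y) : Sup π s x y := by
  refine ⟨h.triv, fun l h1 h2 a => ?_⟩
  have h3 := D.perm s h.mem l a
  rw [Tr.fix D h h1 h2] at h3
  rw [← h3]; exact h.triv l h1 h2 a

theorem Tr.sq {s : N} {x y : ι} (h : Tr (T : Subgroup N) π σ s x y) : s * s = 1 := by
  apply D.ker _ (mul_mem h.mem h.mem)
  intro l
  rw [σ_mul D h.mem h.mem]
  by_cases h1 : l = x
  · rw [h1, h.xy, h.yx]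
  by_cases h2 : l = y
  · rw [h2, h.yx, h.xy]
  rw [Tr.fix D h h1 h2, Tr.fix D h h1 h2]

theorem Tr.eq {s s' : N} {x y : ι} (h : Tr (T : Subgroup N) π σ s x y) (h' : Tr (T : Subgroup N) π σ s' x y) :
    s = s' := by
  have h1 : s * s' = 1 := by
    apply D.ker _ (mul_mem h.mem h'.mem)
    intro l
    rw [σ_mul D h.mem h'.mem]
    by_cases h1 : l = x
    · rw [h1, h'.xy, h.yx]
    by_cases h2 : l = y
    · rw [h2, h'.yx, h.xy]
    rw [Tr.fix D h' h1 h2, Tr.fix D h h1 h2]
  rw [← Tr.sq D h'] at h1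
  exact mul_right_cancel h1

theorem Tr.ne_one {s : N} {x y : ι} (h : Tr (T : Subgroup N) π σ s x y) : s ≠ 1 := by
  rintro rfl
  exact h.ne (by rw [← h.xy, σ_one D])

/-- two transpositions of a 2-group which move `x` are equal -/
theorem Tr.unique [Finite N] {s s' : N} {x y y' : ι} (h : Tr (T : Subgroup N) π σ s x y)
    (h' : Tr (T : Subgroup N) π σ s' x y') : y = y' := by
  by_contra hne
  have hw : s * s' ∈ (T : Subgroup N) := mul_mem h.mem h'.mem
  have h3 : (s * s') ^ 3 = 1 := by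
    apply D.ker _ (pow_mem hw 3)
    intro l
    have e : (s * s') ^ 3 = (s * s') * ((s * s') * (s * s')) := by
      rw [pow_succ, pow_two, mul_assoc]
    rw [e, σ_mul D hw (mul_mem hw hw), σ_mul D hw hw, σ_mul D h.mem h'.mem]
    have e1 : ∀ l, σ (s * s') l = σ s (σ s' l) := fun l => σ_mul D h.mem h'.mem l
    rw [e1, e1]
    by_cases l1 : l = x
    · rw [l1, h'.xy, Tr.fix D h h'.ne.symm (Ne.symm hne), h'.yx, h.xy, Tr.fix D h' h.ne.symm hne, h.yx]
    by_cases l2 : l = y
    · rw [l2, Tr.fix D h' h.ne.symm hne, h.yx, h'.xy, Tr.fix D h h'.ne.symm (Ne.symm hne), h'.yx, h.xy]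
    by_cases l3 : l = y'
    · rw [l3, h'.yx, h.xy, Tr.fix D h' h.ne.symm hne, h.yx, h'.xy, Tr.fix D h h'.ne.symm (Ne.symm hne)]
    rw [Tr.fix D h' l1 l3, Tr.fix D h l1 l2, Tr.fix D h' l1 l3, Tr.fix D h l1 l2, Tr.fix D h' l1 l3, Tr.fix D h l1 l2]
  have h4 : s * s' = 1 := by
    obtain ⟨k, hk⟩ := T.isPGroup' ⟨_, hw⟩
    have hk' : (s * s') ^ 2 ^ k = 1 := by simpa using congrArg Subtype.val hk
    have h5 : orderOf (s * s') ∣ Nat.gcd 3 (2 ^ k) :=
      Nat.dvd_gcd (orderOf_dvd_of_pow_eq_one h3) (orderOf_dvd_of_pow_eq_one hk')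
    have h6 : Nat.gcd 3 (2 ^ k) = 1 := Nat.Coprime.pow_right k (by decide)
    rw [h6, Nat.dvd_one, orderOf_eq_one_iff] at h5
    exact h5
  rw [← Tr.sq D h'] at h4
  have h5 := mul_right_cancel h4
  rw [h5] at h
  exact hne (h.xy.symm.trans h'.xy)

/-- (P1) -/
theorem eq_one [Finite N] {n : N} (hn : ∃ k : ℕ, n ^ 2 ^ k = 1) (h : ∀ l a, n • π l a = π l (n • a)) : n = 1 := by
  let M : Subgroup N :=
    { carrier := {n | ∃ τ : Equiv.Perm ι, ∀ l a, n • π l a = π (τ l) (n • a)}
      one_mem' := ⟨1, fun l a => by rw [one_smul, one_smul]; rfl⟩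
      mul_mem' := by
        rintro a b ⟨τ, hτ⟩ ⟨τ', hτ'⟩
        refine ⟨τ * τ', fun l c => ?_⟩
        rw [mul_smul, hτ', hτ, mul_smul]; rfl
      inv_mem' := by
        rintro a ⟨τ, hτ⟩
        refine ⟨τ⁻¹, fun l c => ?_⟩
        rw [inv_smul_eq_iff, hτ, smul_inv_smul]
        exact congrArg (fun m => π m c) (τ.apply_symm_apply l).symm }
  have hTM : (T : Subgroup N) ≤ M := fun s hs =>
    ⟨Equiv.ofBijective (σ s) (Finite.injective_iff_bijective.1 fun _ _ => σ_inj D hs), fun l a => D.perm s hs l a⟩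
  have hnM : n ∈ M := ⟨1, fun l a => h l a⟩
  have h2 : IsPGroup 2 ((zpowers n).subgroupOf M) := by
    have h3 : IsPGroup 2 (zpowers n) := by
      intro x
      obtain ⟨x, hx⟩ := x
      obtain ⟨j, rfl⟩ := mem_zpowers_iff.1 hx
      obtain ⟨k, hk⟩ := hn
      refine ⟨k, Subtype.ext ?_⟩
      change (n ^ j) ^ 2 ^ k = 1
      rw [← zpow_natCast, ← zpow_mul, mul_comm, zpow_mul, zpow_natCast, hk, one_zpow]
    exact h3.comap_of_injective M.subtype M.subtype_injective
  obtain ⟨g, hg⟩ := exists_conj (T.subtype hTM) h2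
  have h4 : (g : N) * n * (g : N)⁻¹ ∈ (T : Subgroup N) := by
    have h5 := hg ⟨n, hnM⟩ (mem_subgroupOf.2 (mem_zpowers n))
    exact mem_subgroupOf.1 h5
  obtain ⟨τ, hτ⟩ := g.2
  have h6 : (g : N) * n * (g : N)⁻¹ = 1 := by
    apply D.ker _ h4
    intro l
    apply σ_eq D h4
    have hτ' : ∀ l a, (g : N)⁻¹ • π l a = π (τ⁻¹ l) ((g : N)⁻¹ • a) := fun l a => by
      rw [inv_smul_eq_iff, hτ, smul_inv_smul]
      exact congrArg (fun m => π m a) (τ.apply_symm_apply l).symm
    conv_lhs => rw [mul_smul, mul_smul]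
    conv_rhs => rw [← D.zm l, mul_smul, mul_smul, hτ', h, hτ]
    exact congrArg (fun m => π m ((g : N) • n • (g : N)⁻¹ • z l)) (τ.apply_symm_apply l).symm
  have h7 : n = (g : N)⁻¹ * ((g : N) * n * (g : N)⁻¹) * (g : N) := by group
  rw [h7, h6]; group

/-- (i) a small involution of `T` is a transposition -/
theorem exists_tr [Finite A] {s : N} (hs : s ∈ (T : Subgroup N)) (s2 : s * s = 1) (s1 : s ≠ 1) (l : ι)
    (hI : Nat.card (I A s) ≤ Nat.card (Cc π l)) : ∃ x y, Tr (T : Subgroup N) π σ s x y := by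
  obtain ⟨x, hx⟩ : ∃ x, σ s x ≠ x := by
    by_contra h
    push Not at h
    exact s1 (D.ker s hs h)
  have hxx : σ s (σ s x) = x := by rw [← σ_mul D hs hs, s2, σ_one D]
  rw [card_eq D l x] at hI
  have hinj : Function.Injective fun v : Cc π x => (⟨dm A s v, ⟨v, rfl⟩⟩ : I A s) := by
    intro v w hvw
    have h1 : dm A s ((v : A) - w) = 0 := by
      rw [map_sub, sub_eq_zero]; exact congrArg Subtype.val hvw
    rw [← smul_eq_iff D] at h1
    have h2 : π x ((v : A) - w) = v - w := (v - w).2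
    have h3 := smul_mem D hs h2
    rw [h1] at h3
    exact Subtype.ext (sub_eq_zero.1 (eq_zero D hx h3 h2))
  have hsurj : Function.Surjective fun v : Cc π x => (⟨dm A s v, ⟨v, rfl⟩⟩ : I A s) :=
    ((Nat.bijective_iff_injective_and_card _).2 ⟨hinj, le_antisymm (Nat.card_le_card_of_injective _ hinj) hI⟩).2
  refine ⟨x, σ s x, hs, hx.symm, rfl, hxx, fun m m1 m2 a => ?_⟩
  obtain ⟨v, hv⟩ := hsurj ⟨dm A s (π m a), ⟨_, rfl⟩⟩
  have hv' : dm A s (v : A) = dm A s (π m a) := congrArg Subtype.val hv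
  have h1 : π x (dm A s (v : A)) = v := by
    rw [dm_apply, map_add, pi_ne D hx.symm (smul_mem D hs v.2), zero_add]
    exact v.2
  have h2 : π x (dm A s (π m a)) = 0 := by
    rw [dm_apply, map_add, D.orth x m m1.symm, add_zero]
    refine pi_ne D (m := σ s m) (fun e => m2 ?_) (smul_mem D hs (D.idem m a))
    exact σ_inj D hs (by rw [← e, hxx])
  rw [smul_eq_iff D, ← hv', ← h1, hv', h2, map_zero]

/-- (R) -/
theorem le_card_I [Finite N] [Finite A] {F : Subgroup N} (hF : IsPGroup 2 F) {t : N} (ht : t ∈ F) (t1 : t ≠ 1)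
    (l : ι) : Nat.card (Cc π l) ≤ Nat.card (I A t) := by
  obtain ⟨g, hg⟩ := exists_conj T hF
  have hs := hg t ht
  rw [← card_I_conj t g]
  have s1 : g * t * g⁻¹ ≠ 1 := fun e => t1 (by
    have : t = g⁻¹ * (g * t * g⁻¹) * g := by group
    rw [this, e]; group)
  set s := g * t * g⁻¹
  obtain ⟨x, hx⟩ : ∃ x, σ s x ≠ x := by
    by_contra h
    push Not at h
    exact s1 (D.ker s hs h)
  rw [card_eq D l x]
  refine Nat.card_le_card_of_injective (fun v : Cc π x => (⟨dm A s v, ⟨v, rfl⟩⟩ : I A s)) ?_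
  intro v w hvw
  have h1 : dm A s ((v : A) - w) = 0 := by
    rw [map_sub, sub_eq_zero]; exact congrArg Subtype.val hvw
  rw [← smul_eq_iff D] at h1
  have h2 : π x ((v : A) - w) = v - w := (v - w).2
  have h3 := smul_mem D hs h2
  rw [h1] at h3
  exact Subtype.ext (sub_eq_zero.1 (eq_zero D hx h3 h2))

theorem Sup.dm_eq {t : N} {x y : ι} (hxy : x ≠ y) (h : Sup π t x y) (a : A) :
    dm A t a = dm A t (π x a + π y a) := by
  rw [map_add]
  exact sum_two D hxy (dm A t) (fun l h1 h2 a => (smul_eq_iff D).1 (h.triv l h1 h2 a)) a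

/-- `[A, t] ≤ C_x + C_y` -/
theorem Sup.pi_dm {t : N} {x y : ι} (h : Sup π t x y) {l : ι} (h1 : l ≠ x) (h2 : l ≠ y) {a : A}
    (ha : a ∈ I A t) : π l a = 0 := by
  obtain ⟨b, rfl⟩ := ha
  rw [dm_apply, map_add, h.inv l h1 h2, D.two]

theorem sum_of {x y : ι} (hxy : x ≠ y) {a : A} (h : ∀ l, l ≠ x → l ≠ y → π l a = 0) : π x a + π y a = a := by
  have h1 := D.sum a
  rw [Finset.sum_eq_add x y hxy (fun l _ hl => h l hl.1 hl.2) (fun h => absurd (Finset.mem_univ _) h)
    (fun h => absurd (Finset.mem_univ _) h)] at h1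
  exact h1

theorem pi_of {x y : ι} {a : A} (h : π x a + π y a = a) {l : ι} (h1 : l ≠ x) (h2 : l ≠ y) : π l a = 0 := by
  rw [← h, map_add, D.orth l x h1, D.orth l y h2, add_zero]

/-- an involution supported on `C_x + C_y` has rank `dim C_x` and `[A,t]` is its centraliser in `C_x + C_y` -/
theorem Sup.main [Finite N] [Finite A] {F : Subgroup N} (hF : IsPGroup 2 F) {t : N} (ht : t ∈ F) (t1 : t ≠ 1)
    (t2 : ∀ a : A, t • t • a = a) {x y : ι} (hxy : x ≠ y) (h : Sup π t x y) :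
    Nat.card (I A t) = Nat.card (Cc π x) ∧ ∀ a, π x a + π y a = a → t • a = a → a ∈ I A t := by
  let X : AddSubgroup A :=
    { carrier := {a | π x a + π y a = a}
      zero_mem' := by change π x 0 + π y 0 = 0; simp
      add_mem' := fun {a b} ha hb => by
        change π x (a + b) + π y (a + b) = a + b
        change π x a + π y a = a at ha
        change π x b + π y b = b at hb
        rw [map_add, map_add, add_add_add_comm, ha, hb]
      neg_mem' := fun {a} ha => by
        change π x (-a) + π y (-a) = -a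
        change π x a + π y a = a at ha
        rw [map_neg, map_neg, ← neg_add, ha] }
  have hX : ∀ a : A, π x a + π y a ∈ X := fun a => by
    change π x (π x a + π y a) + π y (π x a + π y a) = π x a + π y a
    rw [map_add, map_add, D.idem, D.idem, D.orth x y hxy, D.orth y x hxy.symm, add_zero, zero_add]
  have hXI : ∀ a ∈ I A t, a ∈ X := fun a ha => sum_of D hxy fun l h1 h2 => Sup.pi_dm D h h1 h2 ha
  let f : X →+ A := (dm A t).comp X.subtype
  have hr : f.range = I A t := by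
    ext a
    constructor
    · rintro ⟨b, rfl⟩; exact ⟨b, rfl⟩
    · rintro ⟨b, rfl⟩; exact ⟨⟨_, hX b⟩, (Sup.dm_eq D hxy h b).symm⟩
  have hcard : Nat.card X = Nat.card (I A t) * Nat.card f.ker := by
    rw [AddSubgroup.card_eq_card_quotient_mul_card_addSubgroup f.ker, ← hr]
    exact congrArg (· * _) (Nat.card_congr (QuotientAddGroup.quotientKerEquivRange f).toEquiv)
  have hXc : Nat.card X ≤ Nat.card (Cc π x) * Nat.card (Cc π x) := by
    conv_rhs => rw [card_eq D x y]
    rw [← card_eq D x y]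
    conv_rhs => rhs; rw [card_eq D x y]
    rw [← Nat.card_prod]
    refine Nat.card_le_card_of_injective
      (fun a : X => ((⟨π x a, D.idem x a⟩ : Cc π x), (⟨π y a, D.idem y a⟩ : Cc π y))) ?_
    intro a b hab
    have h1 : π x a = π x b := congrArg Subtype.val (congrArg Prod.fst hab)
    have h2 : π y a = π y b := congrArg Subtype.val (congrArg Prod.snd hab)
    apply Subtype.ext
    have ha : π x a + π y a = a := a.2
    have hb : π x b + π y b = b := b.2
    rw [← ha, ← hb, h1, h2]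
  have hle : Nat.card (I A t) ≤ Nat.card f.ker := by
    refine Nat.card_le_card_of_injective (fun a : I A t => (⟨⟨a, hXI a a.2⟩, ?_⟩ : f.ker)) ?_
    · rw [AddMonoidHom.mem_ker]
      exact (smul_eq_iff D).1 (I_fix D t2 a.2)
    · intro a b hab
      exact Subtype.ext (congrArg (fun a : f.ker => ((a : X) : A)) hab)
  have hR := le_card_I D hF ht t1 x
  have hpos : 0 < Nat.card (Cc π x) := Nat.card_pos
  have hk : Nat.card f.ker ≤ Nat.card (Cc π x) := by
    refine Nat.le_of_mul_le_mul_left ?_ hpos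
    calc Nat.card (Cc π x) * Nat.card f.ker ≤ Nat.card (I A t) * Nat.card f.ker := Nat.mul_le_mul_right _ hR
      _ ≤ _ := hcard ▸ hXc
  refine ⟨le_antisymm (hle.trans hk) hR, fun a ha hta => ?_⟩
  have hinj : Function.Injective (fun a : I A t =>
      (⟨⟨a, hXI a a.2⟩, by rw [AddMonoidHom.mem_ker]; exact (smul_eq_iff D).1 (I_fix D t2 a.2)⟩ : f.ker)) :=
    fun a b hab => Subtype.ext (congrArg (fun a : f.ker => ((a : X) : A)) hab)
  have hsurj := ((Nat.bijective_iff_injective_and_card _).2 ⟨hinj, le_antisymm hle (hk.trans hR)⟩).2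
  obtain ⟨b, hb⟩ := hsurj ⟨⟨a, ha⟩, by rw [AddMonoidHom.mem_ker]; exact (smul_eq_iff D).1 hta⟩
  have h1 : (b : A) = a := congrArg (fun a : f.ker => ((a : X) : A)) hb
  rw [← h1]; exact b.2

theorem Tr.comm {s s' : N} {x y x' y' : ι} (h : Tr (T : Subgroup N) π σ s x y)
    (h' : Tr (T : Subgroup N) π σ s' x' y') (h1 : x ≠ x') (h2 : x ≠ y') (h3 : y ≠ x') (h4 : y ≠ y') :
    s * s' = s' * s := by
  have key : ∀ {s s' : N} {x y x' y' : ι}, Tr (T : Subgroup N) π σ s x y → Tr (T : Subgroup N) π σ s' x' y' →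
      x ≠ x' → x ≠ y' → y ≠ x' → y ≠ y' → ∀ l, l ≠ x → l ≠ y → ∀ a, s • s' • π l a = s' • s • π l a := by
    intro s s' x y x' y' h h' h1 h2 h3 h4 l l1 l2 a
    rw [h.triv l l1 l2, D.perm s' h'.mem, h.triv _ (fun e => l1 ?_) (fun e => l2 ?_)]
    · exact σ_inj D h'.mem (e.trans (Tr.fix D h' h1 h2).symm)
    · exact σ_inj D h'.mem (e.trans (Tr.fix D h' h3 h4).symm)
  have h5 : ∀ a : A, s • s' • a = s' • s • a := by
    intro a
    have h6 : ∀ l, s • s' • π l a = s' • s • π l a := fun l => by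
      by_cases l1 : l = x
      · exact (key h' h h1.symm h3.symm h2.symm h4.symm l (l1 ▸ h1) (l1 ▸ h2) a).symm
      by_cases l2 : l = y
      · exact (key h' h h1.symm h3.symm h2.symm h4.symm l (l2 ▸ h3) (l2 ▸ h4) a).symm
      exact key h h' h1 h2 h3 h4 l l1 l2 a
    rw [← D.sum a]
    simp only [Finset.smul_sum]
    exact Finset.sum_congr rfl fun l _ => h6 l
  have h6 : (s' * s)⁻¹ * (s * s') = 1 := by
    apply D.faith
    intro a
    rw [mul_smul, inv_smul_eq_iff, mul_smul, mul_smul, h5]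
  exact (inv_mul_eq_one.1 h6).symm

/-- (F) -/
theorem comm_disj [Finite N] [Finite A] {F : Subgroup N} (hF : IsPGroup 2 F) {t t' : N} (ht : t ∈ F) (ht' : t' ∈ F)
    (t1 : t ≠ 1) (t1' : t' ≠ 1) (t2 : ∀ a : A, t • t • a = a) (t2' : ∀ a : A, t' • t' • a = a) (l : ι)
    (hI : Nat.card (I A t) ≤ Nat.card (Cc π l)) (hI' : Nat.card (I A t') ≤ Nat.card (Cc π l)) (hne : t ≠ t') :
    t * t' = t' * t ∧ ∀ a, a ∈ I A t → a ∈ I A t' → a = 0 := by
  obtain ⟨g, hg⟩ := exists_conj T hF
  have cinj : ∀ {a b : N}, g * a * g⁻¹ = g * b * g⁻¹ → a = b := fun {a b} e => mul_left_cancel (mul_right_cancel e)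
  have sq : ∀ {a : N}, (∀ b : A, a • a • b = b) → (g * a * g⁻¹) * (g * a * g⁻¹) = 1 := fun {a} h => by
    have : a * a = 1 := D.faith _ fun b => by rw [mul_smul]; exact h b
    calc (g * a * g⁻¹) * (g * a * g⁻¹) = g * (a * a) * g⁻¹ := by group
      _ = 1 := by rw [this]; group
  have ne1 : ∀ {a : N}, a ≠ 1 → g * a * g⁻¹ ≠ 1 := fun {a} h e => h (cinj (by rw [e]; group))
  obtain ⟨x, y, h⟩ := exists_tr D (hg t ht) (sq t2) (ne1 t1) l (by rw [card_I_conj]; exact hI)
  obtain ⟨x', y', h'⟩ := exists_tr D (hg t' ht') (sq t2') (ne1 t1') l (by rw [card_I_conj]; exact hI')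
  have key : ∀ {x y y' : ι}, Tr (T : Subgroup N) π σ (g * t * g⁻¹) x y → Tr (T : Subgroup N) π σ (g * t' * g⁻¹) x y' →
      False := fun {x y y'} h h' => by
    obtain rfl := Tr.unique D h h'
    exact hne (cinj (Tr.eq D h h'))
  have n1 : x ≠ x' := fun e => key h (e ▸ h')
  have n2 : x ≠ y' := fun e => key h (e ▸ h'.symm)
  have n3 : y ≠ x' := fun e => key h.symm (e ▸ h')
  have n4 : y ≠ y' := fun e => key h.symm (e ▸ h'.symm)
  constructor
  · apply cinj
    have h5 := Tr.comm D h h' n1 n2 n3 n4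
    calc g * (t * t') * g⁻¹ = (g * t * g⁻¹) * (g * t' * g⁻¹) := by group
      _ = (g * t' * g⁻¹) * (g * t * g⁻¹) := h5
      _ = g * (t' * t) * g⁻¹ := by group
  · intro a ha ha'
    have h6 : g • a = 0 := by
      apply ext D
      intro m
      rw [map_zero]
      by_cases m1 : m = x
      · exact Sup.pi_dm D (Tr.sup D h') (m1 ▸ n1) (m1 ▸ n2) ((mem_I_conj g).2 ha')
      by_cases m2 : m = y
      · exact Sup.pi_dm D (Tr.sup D h') (m2 ▸ n3) (m2 ▸ n4) ((mem_I_conj g).2 ha')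
      exact Sup.pi_dm D (Tr.sup D h) m1 m2 ((mem_I_conj g).2 ha)
    rwa [smul_eq_zero_iff_eq] at h6

theorem exists_mem_I {t : N} (t1 : t ≠ 1) : ∃ a ∈ I A t, a ≠ 0 := by
  by_contra h
  push Not at h
  refine t1 (D.faith t fun a => ?_)
  rw [smul_eq_iff D]
  exact h _ ⟨a, rfl⟩

/-- (F') -/
theorem eq_of_sup [Finite N] [Finite A] {F : Subgroup N} (hF : IsPGroup 2 F) {t t' : N} (ht : t ∈ F) (ht' : t' ∈ F)
    (t1 : t ≠ 1) (t1' : t' ≠ 1) (t2 : ∀ a : A, t • t • a = a) (t2' : ∀ a : A, t' • t' • a = a) {x y : ι}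
    (hxy : x ≠ y) (h : Sup π t x y) (h' : Sup π t' x y) : t = t' := by
  by_contra hne
  obtain ⟨c1, m1⟩ := Sup.main D hF ht t1 t2 hxy h
  obtain ⟨c1', m1'⟩ := Sup.main D hF ht' t1' t2' hxy h'
  obtain ⟨hc, hd⟩ := comm_disj D hF ht ht' t1 t1' t2 t2' x c1.le c1'.le hne
  obtain ⟨b, hb, hb0, hb1⟩ := exists_fixed (B := I A t) D.two (hF.to_le ((zpowers_le).2 ht'))
    (fun s hs b hb => by
      obtain ⟨j, rfl⟩ := mem_zpowers_iff.1 hs
      obtain ⟨a, rfl⟩ := hb
      have hcj : t' ^ j * t = t * t' ^ j := (Commute.zpow_left (show Commute t' t from hc.symm) j)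
      refine ⟨t' ^ j • a, ?_⟩
      rw [dm_apply, dm_apply, smul_add, ← mul_smul, ← mul_smul, hcj])
    (fun e => by
      obtain ⟨a, ha, ha0⟩ := exists_mem_I D t1
      rw [e, AddSubgroup.mem_bot] at ha
      exact ha0 ha)
  refine hb0 (hd b hb (m1' b (sum_of D hxy fun l l1 l2 => Sup.pi_dm D h l1 l2 hb) ?_))
  exact hb1 t' (mem_zpowers t')

/-- conjugate of a supported element by an element of `T` -/
theorem Sup.conj {t s : N} (hs : s ∈ (T : Subgroup N)) {x y : ι} (h : Sup π t x y) :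
    Sup π (s * t * s⁻¹) (σ s x) (σ s y) := by
  have hi : ∀ l a, s⁻¹ • π l a = π (σ s⁻¹ l) (s⁻¹ • a) := fun l a => D.perm _ (inv_mem hs) l a
  have hr : ∀ l, σ s (σ s⁻¹ l) = l := fun l => by
    rw [← σ_mul D hs (inv_mem hs), mul_inv_cancel, σ_one D]
  have hx : ∀ l, l ≠ σ s x → σ s⁻¹ l ≠ x := fun l h e => h (by rw [← e, hr])
  have hy : ∀ l, l ≠ σ s y → σ s⁻¹ l ≠ y := fun l h e => h (by rw [← e, hr])
  constructor
  · intro l l1 l2 a
    rw [mul_smul, mul_smul, hi, h.triv _ (hx l l1) (hy l l2), D.perm s hs, hr, smul_inv_smul]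
  · intro l l1 l2 a
    have h3 : ∀ b, π l (s • b) = s • π (σ s⁻¹ l) b := fun b => by
      rw [D.perm s hs, hr]
    rw [mul_smul, mul_smul, h3, h.inv _ (hx l l1) (hy l l2), ← h3, smul_inv_smul]

theorem Tr.conj {s r : N} (hr : r ∈ (T : Subgroup N)) {x y : ι} (h : Tr (T : Subgroup N) π σ s x y) :
    Tr (T : Subgroup N) π σ (r * s * r⁻¹) (σ r x) (σ r y) := by
  have hm : r * s * r⁻¹ ∈ (T : Subgroup N) := mul_mem (mul_mem hr h.mem) (inv_mem hr)
  have e : ∀ l, σ (r * s * r⁻¹) (σ r l) = σ r (σ s l) := fun l => by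
    rw [← σ_mul D hm hr, ← σ_mul D hr h.mem]
    congr 1; group
  exact ⟨hm, fun e => h.ne (σ_inj D hr e), by rw [e, h.xy], by rw [e, h.yx], (Sup.conj D hr (Tr.sup D h)).triv⟩

end tools

theorem isPGroup_pair {N : Type*} [Group N] {t c : N} (ht : t * t = 1) (hc : c * c = 1) (h : t * c = c * t) :
    IsPGroup 2 (zpowers t ⊔ zpowers c : Subgroup N) := by
  have key : ∀ {a : N}, a * a = 1 → IsPGroup 2 (zpowers a) := fun {a} ha => by
    intro x
    obtain ⟨x, hx⟩ := x
    obtain ⟨j, rfl⟩ := mem_zpowers_iff.1 hx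
    refine ⟨1, Subtype.ext ?_⟩
    change (a ^ j) ^ 2 ^ 1 = 1
    rw [pow_one, pow_two, ← (Commute.refl a).mul_zpow, ha, one_zpow]
  refine IsPGroup.to_sup_of_normal_right' (key ht) (key hc) ?_
  rw [zpowers_le]
  have h3 : t ∈ centralizer ((zpowers c : Subgroup N) : Set N) := by
    rw [mem_centralizer_iff]
    intro x hx
    obtain ⟨j, rfl⟩ := mem_zpowers_iff.1 hx
    exact (Commute.zpow_left (show Commute c t from h.symm) j)
  exact centralizer_le_normalizer _ h3

section main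

variable {N : Type*} [Group N] [Finite N] {T : Sylow 2 N} {A : Type*} [AddCommGroup A] [Finite A]
  [DistribMulAction N A] {ι : Type*} [Fintype ι] {π : ι → A →+ A} {σ : N → ι → ι} {z : ι → A}

/-- the transpositions of `T` -/
structure Par (T : Sylow 2 N) (π : ι → A →+ A) (σ : N → ι → ι) (star : ι → ι) (τ : ι → N) : Prop where
  tr : ∀ l, Tr (T : Subgroup N) π σ (τ l) l (star l)

variable (D : NDat T π σ z) {star : ι → ι} {τ : ι → N}

include D

theorem exists_par {s : N} {x y : ι} (h : Tr (T : Subgroup N) π σ s x y) : ∃ star τ, Par T π σ star τ := by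
  have h1 : ∀ l, ∃ m s, Tr (T : Subgroup N) π σ s l m := fun l => by
    obtain ⟨r, hr, rfl⟩ := D.trans x l
    exact ⟨_, _, Tr.conj D hr h⟩
  choose star τ h2 using h1
  exact ⟨star, τ, ⟨h2⟩⟩

theorem Par.star_eq (P : Par T π σ star τ) {s : N} {l m : ι} (h : Tr (T : Subgroup N) π σ s l m) : m = star l :=
  Tr.unique D h (P.tr l)

theorem Par.star_ne (P : Par T π σ star τ) (l : ι) : star l ≠ l := (P.tr l).ne.symm

theorem Par.star_star (P : Par T π σ star τ) (l : ι) : star (star l) = l :=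
  (Par.star_eq D P (P.tr l).symm).symm

theorem Par.map (P : Par T π σ star τ) {s : N} (hs : s ∈ (T : Subgroup N)) (l : ι) :
    σ s (star l) = star (σ s l) := Par.star_eq D P (Tr.conj D hs (P.tr l))

theorem Par.conj (P : Par T π σ star τ) {s : N} (hs : s ∈ (T : Subgroup N)) (l : ι) :
    s * τ l * s⁻¹ = τ (σ s l) := by
  have h := Tr.conj D hs (P.tr l)
  rw [Par.map D P hs] at h
  exact Tr.eq D h (P.tr _)

theorem conj_ne_one {s t : N} (t1 : t ≠ 1) : s * t * s⁻¹ ≠ 1 := fun e => t1 (by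
  have : t = s⁻¹ * (s * t * s⁻¹) * s := by group
  rw [this, e]; group)

theorem conj_sq {s t : N} (t2 : ∀ a : A, t • t • a = a) (a : A) : (s * t * s⁻¹) • (s * t * s⁻¹) • a = a := by
  rw [mul_smul, mul_smul, mul_smul, mul_smul, inv_smul_smul, t2, smul_inv_smul]

theorem sum_single_left {x y : ι} (hxy : x ≠ y) {a : A} (ha : π x a = a) : π x a + π y a = a := by
  rw [ha, pi_ne D hxy.symm ha, add_zero]

theorem sum_single_right {x y : ι} (hxy : x ≠ y) {a : A} (ha : π y a = a) : π x a + π y a = a := by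
  rw [ha, pi_ne D hxy ha, zero_add]

/-- an involution supported on `C_x + C_y` is not supported on `C_x + C_y'` -/
theorem not_sup {F : Subgroup N} (hF : IsPGroup 2 F) {t : N} (ht : t ∈ F) (t1 : t ≠ 1)
    (t2 : ∀ a : A, t • t • a = a) {x y y' : ι} (hxy : x ≠ y) (hyy : y ≠ y') (h : Sup π t x y) (h' : Sup π t x y') :
    False := by
  have h1 := (Sup.main D hF ht t1 t2 hxy h).2 (z y) (sum_single_right D hxy (D.zm y)) (by
    have := h'.triv y hxy.symm hyy (z y)
    rwa [D.zm] at this)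
  have h2 := Sup.pi_dm D h' hxy.symm hyy h1
  rw [D.zm] at h2
  exact D.z0 y h2

variable {o : ι} {R W : Subgroup N}

/-- (3) -/
theorem three (P : Par T π σ star τ) (hR : IsPGroup 2 R) (hTR : ∀ s ∈ (T : Subgroup N), σ s o = o → s ∈ R)
    (hz : ∀ r ∈ R, r • z o = z o) {t : N} (ht : t ∈ R) (t1 : t ≠ 1)
    (t2 : ∀ a : A, t • t • a = a) {q : ι} (hq : o ≠ q) (h : Sup π t o q) : star o = q := by
  by_contra hne
  have hs := P.tr q
  have h1 : star q ≠ o := fun e => hne (by rw [← e, Par.star_star D P])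
  have hso : σ (τ q) o = o := Tr.fix D hs hq h1.symm
  have hsR := hTR _ hs.mem hso
  have h' := Sup.conj D hs.mem h
  rw [hso, hs.xy] at h'
  have ht' : τ q * t * (τ q)⁻¹ ∈ R := mul_mem (mul_mem hsR ht) (inv_mem hsR)
  have m := Sup.main D hR ht t1 t2 hq h
  have m' := Sup.main D hR ht' (conj_ne_one D t1) (conj_sq D t2) h1.symm h'
  have hne' : t ≠ τ q * t * (τ q)⁻¹ := fun e => by
    rw [← e] at h'
    exact not_sup D hR ht t1 t2 hq hs.ne h h'
  obtain ⟨-, hd⟩ := comm_disj D hR ht ht' t1 (conj_ne_one D t1) t2 (conj_sq D t2) o m.1.le m'.1.le hne'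
  exact D.z0 o (hd (z o) (m.2 _ (sum_single_left D hq (D.zm o)) (hz t ht))
    (m'.2 _ (sum_single_left D h1.symm (D.zm o)) (hz _ ht')))

/-- (4), first part -/
theorem four_aux (P : Par T π σ star τ) (hR : IsPGroup 2 R) (hTR : ∀ s ∈ (T : Subgroup N), σ s o = o → s ∈ R)
    {t : N} (ht : t ∈ R) (t1 : t ≠ 1) (t2 : ∀ a : A, t • t • a = a) {p q : ι} (hpq : p ≠ q) (h : Sup π t p q)
    (hpo : p ≠ o) (hps : star p ≠ o) (hqp : q ≠ star p) {i : A} (hi : i ∈ I A t) : π q i = 0 := by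
  have hs := P.tr p
  have hso : σ (τ p) o = o := Tr.fix D hs hpo.symm hps.symm
  have hsR := hTR _ hs.mem hso
  have hsq : σ (τ p) q = q := Tr.fix D hs hpq.symm hqp
  have h' := Sup.conj D hs.mem h
  rw [hs.xy, hsq] at h'
  have ht' : τ p * t * (τ p)⁻¹ ∈ R := mul_mem (mul_mem hsR ht) (inv_mem hsR)
  have m := Sup.main D hR ht t1 t2 hpq h
  have m' := Sup.main D hR ht' (conj_ne_one D t1) (conj_sq D t2) hqp.symm h'
  have hne' : t ≠ τ p * t * (τ p)⁻¹ := fun e => by
    rw [← e] at h'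
    exact not_sup D hR ht t1 t2 hpq.symm hs.ne h.symm h'.symm
  obtain ⟨hc, hd⟩ := comm_disj D hR ht ht' t1 (conj_ne_one D t1) t2 (conj_sq D t2) p m.1.le
    (m'.1.trans (card_eq D _ _)).le hne'
  set t' := τ p * t * (τ p)⁻¹
  have hti : t' • i = i := by
    rw [smul_eq_iff D]
    refine hd _ ?_ ⟨i, rfl⟩
    obtain ⟨b, rfl⟩ := hi
    refine ⟨t' • b + b, ?_⟩
    rw [dm_apply, dm_apply, dm_apply, smul_add, smul_add, ← mul_smul, ← mul_smul, hc]
    abel
  have hii := sum_of D hpq fun l l1 l2 => Sup.pi_dm D h l1 l2 hi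
  have htc : t' • π q i = π q i := by
    have h1 : t' • π p i = π p i := h'.triv p (Par.star_ne D P p).symm hpq i
    rw [← hii, smul_add, h1] at hti
    exact add_left_cancel hti
  have hsc : τ p • π q i = π q i := hs.triv q hpq.symm hqp i
  have hsc' : (τ p)⁻¹ • π q i = π q i := by rw [inv_smul_eq_iff, hsc]
  have htc' : t • π q i = π q i := by
    have h1 : t' • π q i = τ p • t • (τ p)⁻¹ • π q i := by rw [mul_smul, mul_smul]
    rw [h1, hsc'] at htc
    exact smul_left_cancel (τ p) (htc.trans hsc.symm)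
  exact hd _ (m.2 _ (sum_single_right D hpq (D.idem q i)) htc')
    (m'.2 _ (sum_single_right D hqp.symm (D.idem q i)) htc)

/-- (4) -/
theorem four (P : Par T π σ star τ) (hR : IsPGroup 2 R) (hTR : ∀ s ∈ (T : Subgroup N), σ s o = o → s ∈ R)
    {t : N} (ht : t ∈ R) (t1 : t ≠ 1) (t2 : ∀ a : A, t • t • a = a) {p q : ι} (hpq : p ≠ q) (h : Sup π t p q)
    (hpo : p ≠ o) (hqo : q ≠ o) {a : A} (a0 : a ≠ 0) (ha : π p a = a ∨ π q a = a) (hta : t • a = a) : False := by
  by_cases hqp : q = star p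
  · -- `t` is the transposition
    have hs := P.tr p
    rw [← hqp] at hs
    have hso : σ (τ p) o = o := Tr.fix D hs hpo.symm hqo.symm
    have e : t = τ p := eq_of_sup D hR ht (hTR _ hs.mem hso) t1 (Tr.ne_one D hs) t2
      (fun b => by rw [← mul_smul, Tr.sq D hs, one_smul]) hpq h (Tr.sup D hs)
    rw [e] at hta
    rcases ha with ha | ha
    · have h1 := smul_mem D hs.mem ha
      rw [hs.xy, hta] at h1
      exact a0 (eq_zero D hpq ha h1)
    · have h1 := smul_mem D hs.mem ha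
      rw [hs.yx, hta] at h1
      exact a0 (eq_zero D hpq h1 ha)
  have hpq' : p ≠ star q := fun e => hqp (by rw [e, Par.star_star D P])
  -- one of `p`, `q` is the partner of `o`
  have key : ∀ {p q : ι}, p ≠ q → Sup π t p q → p ≠ o → q ≠ o → q ≠ star p → star p ≠ o → q = star o → False := by
    intro p q hpq h hpo hqo hqp hps hqs
    have hI : ∀ i ∈ I A t, π p i = i := fun i hi => by
      have h1 := sum_of D hpq fun l l1 l2 => Sup.pi_dm D h l1 l2 hi
      rw [four_aux D P hR hTR ht t1 t2 hpq h hpo hps hqp hi, add_zero] at h1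
      exact h1
    obtain ⟨mc, m⟩ := Sup.main D hR ht t1 t2 hpq h
    have hle : I A t ≤ Cc π p := fun i hi => hI i hi
    have hIp : ∀ c, π p c = c → c ∈ I A t := fun c hc => by
      have h1 : I A t = Cc π p := AddSubgroup.eq_of_le_of_card_ge hle mc.ge
      rw [h1]; exact hc
    have hs := P.tr o
    rw [← hqs] at hs
    have h' := Sup.conj D hs.mem h
    rw [Tr.fix D hs hpo hpq, hs.yx] at h'
    have hsp : ∀ c, π p c = c → τ o • c = c := fun c hc => by
      have := hs.triv p hpo hpq c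
      rwa [hc] at this
    have hsp' : ∀ c, π p c = c → (τ o)⁻¹ • c = c := fun c hc => by rw [inv_smul_eq_iff, hsp c hc]
    set t' := τ o * t * (τ o)⁻¹
    have hIp' : ∀ c, π p c = c → c ∈ I A t' := fun c hc => by
      rw [← hsp c hc]; exact (mem_I_conj (τ o)).2 (hIp c hc)
    have hI' : ∀ c ∈ I A t', π p c = c := fun c hc => by
      have h1 : (τ o)⁻¹ • c ∈ I A t := by rwa [← mem_I_conj (τ o), smul_inv_smul]
      have h2 := hI _ h1
      have h3 := hsp _ h2
      rw [smul_inv_smul] at h3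
      rw [← h3] at h2
      exact h2
    have t2' : ∀ a : A, t' • t' • a = a := conj_sq D t2
    have tt : ∀ {t : N}, (∀ a : A, t • t • a = a) → t * t = 1 := fun {t} h => D.faith _ fun a => by
      rw [mul_smul]; exact h a
    have hcomm : t * t' = t' * t := by
      have h1 : ∀ a : A, t • t' • a = t' • t • a := fun a => by
        have h2 : ∀ b : A, t • b = b + dm A t b := fun b => by
          rw [dm_apply, add_comm, add_assoc, D.two, add_zero]
        have h3 : ∀ b : A, t' • b = b + dm A t' b := fun b => by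
          rw [dm_apply, add_comm, add_assoc, D.two, add_zero]
        rw [h3 a, smul_add, I_fix D t2 (hIp _ (hI' _ ⟨a, rfl⟩)), h2 a, smul_add,
          I_fix D t2' (hIp' _ (hI _ ⟨a, rfl⟩)), h3 a]
        abel
      have h6 : (t' * t)⁻¹ * (t * t') = 1 := by
        apply D.faith
        intro a
        rw [mul_smul, inv_smul_eq_iff, mul_smul t t' a, mul_smul t' t a, h1]
      exact (inv_mul_eq_one.1 h6).symm
    have hF := isPGroup_pair (tt t2) (tt t2') hcomm
    have hne : t ≠ t' := fun e => by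
      rw [← e] at h'
      exact not_sup D hR ht t1 t2 hpq hqo h h'
    have mc' : Nat.card (I A t') = Nat.card (I A t) := card_I_conj t (τ o)
    obtain ⟨-, hd⟩ := comm_disj D hF (mem_sup_left (mem_zpowers t)) (mem_sup_right (mem_zpowers t')) t1
      (conj_ne_one D t1) t2 t2' p mc.le (mc'.trans mc).le hne
    exact D.z0 p (hd _ (hIp _ (D.zm p)) (hIp' _ (D.zm p)))
  by_cases hps : star p = o
  · have hqs : star q ≠ o := fun e => hpq (by rw [← Par.star_star D P p, hps, ← e, Par.star_star D P])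
    exact key hpq.symm h.symm hqo hpo hpq' hqs (by rw [← hps, Par.star_star D P])
  by_cases hqs : star q = o
  · exact key hpq h hpo hqo hqp hps (by rw [← hqs, Par.star_star D P])
  obtain ⟨i, hi, hi0⟩ := exists_mem_I D t1
  refine hi0 (ext D fun l => ?_)
  rw [map_zero]
  by_cases l1 : l = p
  · rw [l1]; exact four_aux D P hR hTR ht t1 t2 hpq.symm h.symm hqo hqs hpq' hi
  by_cases l2 : l = q
  · rw [l2]; exact four_aux D P hR hTR ht t1 t2 hpq h hpo hps hqp hi
  exact Sup.pi_dm D h l1 l2 hi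

/-- a `T_o`-fixed vector of `C_o + C_{star o}` -/
theorem fixed_cases (P : Par T π σ star τ) {a : A} (ha : π o a + π (star o) a = a)
    (hf : ∀ s ∈ (T : Subgroup N), σ s o = o → s • a = a) :
    a = 0 ∨ a = z o ∨ a = z (star o) ∨ a = z o + z (star o) := by
  have h1 : π o a = 0 ∨ π o a = z o := D.zfix o _ (D.idem o a) fun s hs hso => by
    rw [D.perm s hs, hso, hf s hs hso]
  have h2 : π (star o) a = 0 ∨ π (star o) a = z (star o) := D.zfix _ _ (D.idem _ a) fun s hs hso => by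
    have h3 : σ s o = o := by
      have := Par.map D P hs (star o)
      rw [hso, Par.star_star D P] at this
      exact this
    rw [D.perm s hs, hso, hf s hs h3]
  rcases h1 with h1 | h1 <;> rcases h2 with h2 | h2 <;> rw [h1, h2] at ha
  · left; rw [← ha, add_zero]
  · right; right; left; rw [← ha, zero_add]
  · right; left; rw [← ha, add_zero]
  · right; right; right; exact ha.symm

/-- (5) -/
theorem five (P : Par T π σ star τ) (hR : IsPGroup 2 R) (hTR : ∀ s ∈ (T : Subgroup N), σ s o = o → s ∈ R)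
    (hz : ∀ r ∈ R, r • z o = z o) {t : N} (ht : t ∈ R) (t1 : t ≠ 1)
    (t2 : ∀ a : A, t • t • a = a) (h : Sup π t o (star o)) :
    (∀ a, π o a + π (star o) a = a → a + (t * τ o) • a + (t * τ o) • (t * τ o) • a = 0) ∧
    (∀ s ∈ (T : Subgroup N), σ s o = o → s * (t * τ o) = (t * τ o) * s) ∧
    τ o * (t * τ o) * τ o = (t * τ o)⁻¹ ∧
    (t * τ o) • z o = z o + z (star o) ∧ (t * τ o) • z (star o) = z o := by
  have hs := P.tr o
  have hne : o ≠ star o := hs.ne
  have tt : t * t = 1 := D.faith _ fun a => by rw [mul_smul]; exact t2 a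
  have ττ : τ o * τ o = 1 := Tr.sq D hs
  have τ1 : τ o ≠ 1 := Tr.ne_one D hs
  have τ2 : ∀ a : A, τ o • τ o • a = a := fun a => by rw [← mul_smul, ττ, one_smul]
  have hτ : Sup π (τ o) o (star o) := Tr.sup D hs
  have ti : t⁻¹ = t := inv_eq_of_mul_eq_one_left tt
  have τi : (τ o)⁻¹ = τ o := inv_eq_of_mul_eq_one_left ττ
  have yi : (t * τ o)⁻¹ = τ o * t := by rw [mul_inv_rev, ti, τi]
  -- `T_o` centralises `y`
  have hσ : ∀ s ∈ (T : Subgroup N), σ s o = o → σ s (star o) = star o := fun s hs hso => by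
    rw [Par.map D P hs, hso]
  have hst : ∀ s ∈ (T : Subgroup N), σ s o = o → s * t * s⁻¹ = t := fun s hs hso => by
    have h' := Sup.conj D hs h
    rw [hσ s hs hso, hso] at h'
    have hsR := hTR s hs hso
    exact (eq_of_sup D hR ht (mul_mem (mul_mem hsR ht) (inv_mem hsR)) t1 (conj_ne_one D t1) t2 (conj_sq D t2) hne h
      h').symm
  have hsτ : ∀ s ∈ (T : Subgroup N), σ s o = o → s * τ o * s⁻¹ = τ o := fun s hs hso => by
    rw [Par.conj D P hs, hso]
  have hsy : ∀ s ∈ (T : Subgroup N), σ s o = o → s * (t * τ o) = (t * τ o) * s := fun s hs hso => by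
    have h1 : s * t = t * s := mul_inv_eq_iff_eq_mul.1 (hst s hs hso)
    have h2 : s * τ o = τ o * s := mul_inv_eq_iff_eq_mul.1 (hsτ s hs hso)
    rw [← mul_assoc, h1, mul_assoc, h2, mul_assoc]
  have hzo : t • z o = z o := hz t ht
  have hτo : τ o • z o = z (star o) := by rw [zmap D hs.mem, hs.xy]
  have hτq : τ o • z (star o) = z o := by rw [zmap D hs.mem, hs.yx]
  have hzne : z o ≠ z (star o) := fun e => D.z0 o (eq_zero D hne (D.zm o) (by rw [e]; exact D.zm _))
  -- `y` has odd order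
  have hncomm : t * τ o ≠ τ o * t := fun hc => by
    have hF := isPGroup_pair tt ττ hc
    have e := eq_of_sup D hF (mem_sup_left (mem_zpowers t)) (mem_sup_right (mem_zpowers (τ o))) t1 τ1 t2 τ2 hne h hτ
    rw [e, hτo] at hzo
    exact hzne hzo.symm
  have hodd : Odd (orderOf (t * τ o)) := by
    rw [← Nat.not_even_iff_odd]
    rintro ⟨k, hk⟩
    have hpos : 0 < orderOf (t * τ o) := orderOf_pos _
    have hc1 : (t * τ o) ^ k ≠ 1 := pow_ne_one_of_lt_orderOf (by omega) (by omega)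
    have hcc : (t * τ o) ^ k * (t * τ o) ^ k = 1 := by rw [← pow_add, ← hk, pow_orderOf_eq_one]
    have hty : t * (t * τ o) * t⁻¹ = (t * τ o)⁻¹ := by
      rw [yi, ti, ← mul_assoc, tt, one_mul]
    have htc : t * (t * τ o) ^ k = (t * τ o) ^ k * t := by
      have h1 : t * (t * τ o) ^ k * t⁻¹ = (t * τ o) ^ k := by
        rw [← conj_pow, hty, inv_pow]
        exact inv_eq_of_mul_eq_one_left hcc
      exact mul_inv_eq_iff_eq_mul.1 h1
    have hcy : (t * τ o) ^ k * (t * τ o) = (t * τ o) * (t * τ o) ^ k := by rw [← pow_succ, ← pow_succ']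
    have hsup : Sup π ((t * τ o) ^ k) o (star o) := (h.mul hτ).pow k
    set c := (t * τ o) ^ k
    have hct : c ≠ t := fun e => by
      rw [e, mul_assoc t (τ o) t] at hcy
      exact hncomm (mul_left_cancel hcy)
    have hF := isPGroup_pair tt hcc htc
    have h3 : t * c ∈ (zpowers t ⊔ zpowers c : Subgroup N) :=
      mul_mem (mem_sup_left (mem_zpowers t)) (mem_sup_right (mem_zpowers c))
    have h4 : t * c ≠ 1 := fun e => hct (by
      rw [← inv_eq_of_mul_eq_one_right e, ti])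
    have h5 : ∀ a : A, (t * c) • (t * c) • a = a := fun a => by
      have h6 : t * c * (t * c) = 1 := by
        calc t * c * (t * c) = t * (c * t) * c := by group
          _ = (t * t) * (c * c) := by rw [← htc]; group
          _ = 1 := by rw [tt, hcc, one_mul]
      rw [← mul_smul, h6, one_smul]
    have e := eq_of_sup D hF (mem_sup_left (mem_zpowers t)) h3 t1 h4 t2 h5 hne h (h.mul hsup)
    exact hc1 (by rw [left_eq_mul] at e; exact e)
  obtain ⟨k, hk⟩ := hodd
  have ym : (t * τ o) ^ (2 * k + 1) = 1 := by rw [← hk, pow_orderOf_eq_one]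
  have oddfix : ∀ {w : N}, w ^ (2 * k + 1) = 1 → ∀ {a : A}, w • w • a = a → w • a = a := fun {w} hw {a} ha => by
    have h1 : ∀ j : ℕ, (w * w) ^ j • a = a := fun j => by
      induction j with
      | zero => rw [pow_zero, one_smul]
      | succ j ih => rw [pow_succ, mul_smul, mul_smul, ha, ih]
    have h2 : w ^ (2 * k + 1) = w * (w * w) ^ k := by rw [pow_succ', pow_mul, pow_two]
    have h3 := one_smul N a
    rw [← hw, h2, mul_smul, h1] at h3
    exact h3
  -- the action on `z o`, `z (star o)`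
  have hX : ∀ {n : N}, Sup π n o (star o) → ∀ {a : A}, π o a + π (star o) a = a →
      π o (n • a) + π (star o) (n • a) = n • a := fun {n} hn {a} ha =>
    sum_of D hne fun l l1 l2 => by rw [hn.inv l l1 l2, pi_of D ha l1 l2]
  have htq : t • z (star o) = z o + z (star o) := by
    have h1 := fixed_cases D P (a := t • z (star o)) (hX h (sum_single_right D hne (D.zm _))) fun s hs hso => by
      have h2 : s * t = t * s := mul_inv_eq_iff_eq_mul.1 (hst s hs hso)
      rw [← mul_smul, h2, mul_smul, zl_fix D hs (hσ s hs hso)]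
    rcases h1 with h1 | h1 | h1 | h1
    · exact absurd h1 ((smul_ne_zero_iff_ne t).2 (D.z0 _))
    · rw [← hzo] at h1
      exact absurd (smul_left_cancel t h1).symm hzne
    · have h2 : (t * τ o) • z o = z (star o) := by rw [mul_smul, hτo, h1]
      have h3 : (t * τ o) • z (star o) = z o := by rw [mul_smul, hτq, hzo]
      have h4 := oddfix ym (a := z o) (by rw [h2, h3])
      rw [h2] at h4
      exact absurd h4.symm hzne
    · exact h1
  have hy : Sup π (t * τ o) o (star o) := h.mul hτ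
  have y1 : (t * τ o) • z o = z o + z (star o) := by rw [mul_smul, hτo, htq]
  have y2 : (t * τ o) • z (star o) = z o := by rw [mul_smul, hτq, hzo]
  have y3 : (t * τ o) • (z o + z (star o)) = z (star o) := by
    rw [smul_add, y1, y2, add_comm (z o) (z (star o)), add_assoc, D.two, add_zero]
  have hst2 : ∀ s ∈ st D o, ∀ a : A, s • (t * τ o) • a = (t * τ o) • s • a := fun s hs a => by
    rw [← mul_smul, hsy s hs.1 hs.2, mul_smul]
  -- `y³ = 1`
  have hw : ∀ a : A, (t * τ o) • (t * τ o) • (t * τ o) • a = a := by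
    have hwe : ∀ a : A, ((t * τ o) ^ 3) • a = (t * τ o) • (t * τ o) • (t * τ o) • a := fun a => by
      rw [← mul_smul, ← mul_smul, pow_succ, pow_two]
    have hI : I A ((t * τ o) ^ 3) = ⊥ := by
      by_contra hIne
      obtain ⟨b, hb, hb0, hb1⟩ := exists_fixed D.two (st_two D o) (fun s hs b hb => by
        obtain ⟨a, rfl⟩ := hb
        refine ⟨s • a, ?_⟩
        rw [dm_apply, dm_apply, smul_add, hwe, hwe, hst2 s hs, hst2 s hs, hst2 s hs]) hIne
      have hbX := sum_of D hne fun l l1 l2 => Sup.pi_dm D (hy.pow 3) l1 l2 hb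
      have hwb : (t * τ o) ^ 3 • b = b := by
        rw [hwe]
        rcases fixed_cases D P hbX fun s hs hso => hb1 s ⟨hs, hso⟩ with h1 | h1 | h1 | h1
        · exact absurd h1 hb0
        · rw [h1, y1, y3, y2]
        · rw [h1, y2, y1, y3]
        · rw [h1, y3, y2, y1]
      obtain ⟨a, rfl⟩ := hb
      rw [dm_apply] at hwb hb0
      have h2 : (t * τ o) ^ 3 • (t * τ o) ^ 3 • a = a := by
        rw [smul_add] at hwb
        have h3 := congrArg (· + (t * τ o) ^ 3 • a) hwb
        rw [add_assoc, D.two, add_zero] at h3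
        rw [h3, add_comm, ← add_assoc, D.two, zero_add]
      have h3 := oddfix (w := (t * τ o) ^ 3) (by rw [← pow_mul, mul_comm, pow_mul, ym, one_pow]) h2
      exact hb0 (by rw [h3, D.two])
    intro a
    rw [← hwe, smul_eq_iff D]
    have h1 : dm A ((t * τ o) ^ 3) a ∈ I A ((t * τ o) ^ 3) := ⟨a, rfl⟩
    rw [hI] at h1
    exact h1
  refine ⟨fun a ha => ?_, hsy, ?_, y1, y2⟩
  · let B : AddSubgroup A :=
      { carrier := {b | (π o b + π (star o) b = b) ∧ (t * τ o) • b = b}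
        zero_mem' := ⟨by rw [map_zero, map_zero, add_zero], smul_zero _⟩
        add_mem' := fun {a b} ha hb => ⟨by
          rw [map_add, map_add, add_add_add_comm, ha.1, hb.1], by rw [smul_add, ha.2, hb.2]⟩
        neg_mem' := fun {a} ha => ⟨by rw [map_neg, map_neg, ← neg_add, ha.1], by rw [smul_neg, ha.2]⟩ }
    have hB : B = ⊥ := by
      by_contra hBne
      obtain ⟨b, hb, hb0, hb1⟩ := exists_fixed D.two (st_two D o) (fun s hs b hb => by
        refine ⟨?_, ?_⟩
        · have h1 : π o (s • b) = s • π o b := by rw [D.perm s hs.1, hs.2]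
          have h2 : π (star o) (s • b) = s • π (star o) b := by rw [D.perm s hs.1, hσ s hs.1 hs.2]
          rw [h1, h2, ← smul_add, hb.1]
        · rw [← hst2 s hs, hb.2]) hBne
      have hb2 := hb.2
      rcases fixed_cases D P hb.1 fun s hs hso => hb1 s ⟨hs, hso⟩ with h1 | h1 | h1 | h1
      · exact hb0 h1
      · rw [h1, y1, add_eq_left] at hb2
        exact D.z0 _ hb2
      · rw [h1, y2] at hb2
        exact hzne hb2
      · rw [h1, y3, right_eq_add] at hb2
        exact D.z0 _ hb2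
    have hm : a + (t * τ o) • a + (t * τ o) • (t * τ o) • a ∈ B := by
      refine ⟨sum_of D hne fun l l1 l2 => ?_, ?_⟩
      · rw [map_add, map_add, hy.inv l l1 l2, hy.inv l l1 l2, hy.inv l l1 l2, pi_of D ha l1 l2, add_zero, add_zero]
      · rw [smul_add, smul_add, hw, add_comm _ a, ← add_assoc]
    rw [hB] at hm
    exact hm
  · rw [yi]
    calc τ o * (t * τ o) * τ o = τ o * t * (τ o * τ o) := by group
      _ = τ o * t := by rw [ττ, mul_one]

/-- (3), (4), (5) together, in the form of helper732 -/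
theorem main (o : ι) (R W : Subgroup N) (hR : IsPGroup 2 R)
    (hTR : ∀ s ∈ (T : Subgroup N), σ s o = o → s ∈ R) (hWR : W ≤ R)
    (_hTW : ∀ s ∈ (T : Subgroup N), σ s o = o → ∀ w ∈ W, s * w * s⁻¹ ∈ W) (hz : ∀ r ∈ R, r • z o = z o)
    (t : N) (ht : t ∈ W) (ht1 : t ≠ 1) (ht2 : ∀ a : A, t • t • a = a) (p q : ι) (hpq : p ≠ q)
    (hs1 : ∀ l, l ≠ p → l ≠ q → ∀ a, t • π l a = π l a) (hs2 : ∀ l, l ≠ p → l ≠ q → ∀ a, π l (t • a) = π l a)
    (alt : p = o ∨ (p ≠ o ∧ q ≠ o ∧ ∃ a : A, a ≠ 0 ∧ (π p a = a ∨ π q a = a) ∧ t • a = a)) :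
    ∃ (star : ι → ι) (τ : N), p = o ∧ star o = q ∧ (∀ l, star l ≠ l) ∧ (∀ l, star (star l) = l) ∧
      (∀ s ∈ (T : Subgroup N), ∀ l, σ s (star l) = star (σ s l)) ∧ τ ∈ (T : Subgroup N) ∧ σ τ o = star o ∧
      τ * τ = 1 ∧ (∀ l, l ≠ o → l ≠ star o → ∀ a, τ • π l a = π l a) ∧
      (∀ l, l ≠ o → l ≠ star o → ∀ a, (t * τ) • π l a = π l a) ∧
      (∀ l, l ≠ o → l ≠ star o → ∀ a, π l ((t * τ) • a) = π l a) ∧
      (∀ a, π o a + π (star o) a = a → a + (t * τ) • a + (t * τ) • (t * τ) • a = 0) ∧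
      (∀ s ∈ (T : Subgroup N), σ s o = o → s * (t * τ) = (t * τ) * s) ∧
      τ * (t * τ) * τ = (t * τ)⁻¹ ∧ (t * τ) • z o = z o + z (star o) ∧ (t * τ) • z (star o) = z o := by
  have h : Sup π t p q := ⟨hs1, hs2⟩
  have htR := hWR ht
  -- `T` contains a transposition
  obtain ⟨star, τ, P⟩ : ∃ star τ, Par T π σ star τ := by
    obtain ⟨g, hg⟩ := exists_conj T hR
    have m := Sup.main D hR htR ht1 ht2 hpq h
    have sq : (g * t * g⁻¹) * (g * t * g⁻¹) = 1 := D.faith _ fun b => by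
      rw [mul_smul]; exact conj_sq D ht2 b
    obtain ⟨x, y, h'⟩ := exists_tr D (hg t htR) sq (conj_ne_one D ht1) p (by rw [card_I_conj]; exact m.1.le)
    exact exists_par D h'
  rcases alt with rfl | ⟨hpo, hqo, a, a0, ha, hta⟩
  · have hq : star p = q := three D P hR hTR hz htR ht1 ht2 hpq h
    rw [← hq] at h
    obtain ⟨f1, f2, f3, f4, f5⟩ := five D P hR hTR hz htR ht1 ht2 h
    have hs := P.tr p
    have hy : Sup π (t * τ p) p (star p) := h.mul (Tr.sup D hs)
    exact ⟨star, τ p, rfl, hq, Par.star_ne D P, Par.star_star D P, fun s hs l => Par.map D P hs l, hs.mem, hs.xy,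
      Tr.sq D hs, hs.triv, hy.triv, hy.inv, f1, f2, f3, f4, f5⟩
  · exact (four D P hR hTR htR ht1 ht2 hpq h hpo hqo a0 ha hta).elim

end main

end Cfsg.Agent.Omega.ThmC.TwoN
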