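import Cfsg.Agent.Omega.MinPar
import Cfsg.Agent.Omega.IITwo.Count

/-!
# THEOREM C, `q = 2`: Sylow tools

`exists_conj_le`, `sylow_normal` (Sylow's theorem for `S ∩ C`, `C` normal in `N ≥ S`),
`exists_fixed_norm` (normalisers grow).
-/

set_option autoImplicit false

namespace Cfsg.Agent.Omega.ThmC

open Subgroup

universe u

variable {G : Type u} [Group G]

theorem exists_conj_le [Finite G] (S : Sylow 2 G) {N Y : Subgroup G} (hSN : (S : Subgroup G) ≤ N)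
    (hY : IsPGroup 2 Y) (hYN : Y ≤ N) : ∃ g ∈ N, ∀ y ∈ Y, g * y * g⁻¹ ∈ (S : Subgroup G) := by
  haveI : Fact (Nat.Prime 2) := ⟨Nat.prime_two⟩
  have hY' : IsPGroup 2 (Y.subgroupOf N) := hY.comap_of_injective N.subtype N.subtype_injective
  obtain ⟨R, hR⟩ := hY'.exists_le_sylow
  obtain ⟨g, hg⟩ := MulAction.exists_smul_eq N R (S.subtype hSN)
  refine ⟨g, g.2, fun y hy => ?_⟩
  have h1 : (⟨y, hYN hy⟩ : N) ∈ R := hR hy
  have h2 : g * ⟨y, hYN hy⟩ * g⁻¹ ∈ (g • R : Sylow 2 N) := by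
    rw [Sylow.smul_def]
    exact Subgroup.smul_mem_pointwise_smul _ (MulAut.conj g) _ h1
  rw [hg] at h2
  exact h2

theorem sylow_normal [Finite G] (S : Sylow 2 G) {N C Y : Subgroup G} (hSN : (S : Subgroup G) ≤ N)
    (hCN : C ≤ N) (hN : N ≤ normalizer (C : Set G)) (hY : IsPGroup 2 Y) (hYC : Y ≤ C) :
    ∃ c ∈ C, ∀ y ∈ Y, c * y * c⁻¹ ∈ (S : Subgroup G) ⊓ C := by
  haveI : Fact (Nat.Prime 2) := ⟨Nat.prime_two⟩
  have h0 : IsPGroup 2 ↥((S : Subgroup G) ⊓ C) := S.2.to_le inf_le_left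
  have h0' : IsPGroup 2 (((S : Subgroup G) ⊓ C).subgroupOf C) :=
    h0.comap_of_injective C.subtype C.subtype_injective
  obtain ⟨R, hR⟩ := h0'.exists_le_sylow
  obtain ⟨g, hg, hg2⟩ := exists_conj_le S hSN (R.2.map C.subtype)
    ((map_subtype_le _).trans hCN)
  have h1 : ((R : Subgroup C).map C.subtype).map (MulAut.conj g).toMonoidHom ≤ (S : Subgroup G) ⊓ C := by
    rintro _ ⟨y, hy, rfl⟩
    refine ⟨hg2 y hy, ?_⟩
    exact (mem_normalizer_iff.mp (hN hg) y).mp (map_subtype_le _ hy)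
  have h2 : Nat.card R ≤ Nat.card ↥((S : Subgroup G) ⊓ C) := by
    have := card_le_of_le h1
    rwa [card_map_of_injective (MulAut.conj g).injective,
      card_map_of_injective C.subtype_injective] at this
  have h3 : ((S : Subgroup G) ⊓ C).subgroupOf C = R := by
    refine eq_of_le_of_card_ge hR ?_
    rw [Nat.card_congr (subgroupOfEquivOfLe (inf_le_right : (S : Subgroup G) ⊓ C ≤ C)).toEquiv]
    exact h2
  have hY' : IsPGroup 2 (Y.subgroupOf C) := hY.comap_of_injective C.subtype C.subtype_injective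
  obtain ⟨R2, hR2⟩ := hY'.exists_le_sylow
  obtain ⟨c, hc⟩ := MulAction.exists_smul_eq C R2 R
  refine ⟨c, c.2, fun y hy => ?_⟩
  have h4 : (⟨y, hYC hy⟩ : C) ∈ R2 := hR2 hy
  have h5 : c * ⟨y, hYC hy⟩ * c⁻¹ ∈ (c • R2 : Sylow 2 C) := by
    rw [Sylow.smul_def]
    exact Subgroup.smul_mem_pointwise_smul _ (MulAut.conj c) _ h4
  rw [hc] at h5
  have h6 : c * ⟨y, hYC hy⟩ * c⁻¹ ∈ ((S : Subgroup G) ⊓ C).subgroupOf C := by rw [h3]; exact h5
  exact h6

/-- a 2-subgroup `Y ≤ C` normalised by `S ∩ C` lies in `S ∩ C`. -/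
theorem le_of_normalized [Finite G] (S : Sylow 2 G) {N C Y : Subgroup G} (hSN : (S : Subgroup G) ≤ N)
    (hCN : C ≤ N) (hN : N ≤ normalizer (C : Set G)) (hY : IsPGroup 2 Y) (hYC : Y ≤ C)
    (hn : (S : Subgroup G) ⊓ C ≤ normalizer (Y : Set G)) : Y ≤ S := by
  have h2 : IsPGroup 2 ↥((S : Subgroup G) ⊓ C ⊔ Y) :=
    (S.2.to_le inf_le_left : IsPGroup 2 ↥((S : Subgroup G) ⊓ C)).to_sup_of_normal_right' hY hn
  obtain ⟨c, hc, hc2⟩ := sylow_normal S hSN hCN hN h2 (sup_le inf_le_right hYC)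
  have h3 : ((S : Subgroup G) ⊓ C ⊔ Y).map (MulAut.conj c).toMonoidHom ≤ (S : Subgroup G) ⊓ C := by
    rintro _ ⟨y, hy, rfl⟩
    exact hc2 y hy
  have h4 := card_le_of_le h3
  rw [card_map_of_injective (MulAut.conj c).injective] at h4
  have h5 : (S : Subgroup G) ⊓ C = (S : Subgroup G) ⊓ C ⊔ Y := eq_of_le_of_card_ge le_sup_left h4
  exact (le_sup_right.trans h5.ge).trans inf_le_left

/-- normalisers grow: `B < A`, `A` a 2-group normalised by .. : there is `n ∈ A ∖ B` normalising `B`. -/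
theorem exists_normalizer [Finite G] {A B : Subgroup G} (hA : IsPGroup 2 A) (hBA : B ≤ A) (hne : ¬ A ≤ B) :
    ∃ n ∈ A, n ∉ B ∧ n ∈ normalizer (B : Set G) := by
  haveI : Fact (Nat.Prime 2) := ⟨Nat.prime_two⟩
  haveI : Group.IsNilpotent A := hA.isNilpotent
  have h1 : B.subgroupOf A < ⊤ := by
    rw [lt_top_iff_ne_top]
    intro h
    exact hne (subgroupOf_eq_top.mp h)
  have h2 := normalizerCondition_of_isNilpotent (G := A) _ h1
  obtain ⟨n, hn, hn2⟩ := SetLike.exists_of_lt h2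
  refine ⟨n, n.2, hn2, ?_⟩
  rw [mem_normalizer_iff]
  intro b
  have h3 := mem_normalizer_iff.mp hn
  constructor
  · intro hb
    exact (h3 ⟨b, hBA hb⟩).mp hb
  · intro hb
    have hb2 : b ∈ A := by
      have := mul_mem (mul_mem (inv_mem n.2) (hBA hb)) n.2
      have h4 : (n : G)⁻¹ * (n * b * (n : G)⁻¹) * n = b := by group
      rwa [h4] at this
    exact (h3 ⟨b, hb2⟩).mpr hb

end Cfsg.Agent.Omega.ThmC
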