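import Cfsg.Agent.Omega.MinPar

/-!
# THEOREM C (bb OMEGA 15545, helper610), case `q = 2`: DATA (W)

`Dat S Q Z x z`: `S` a Sylow 2-subgroup of `G`, `Q = C_S(Ω₁Z(Q))`, `C_G(Q) ≤ Q`,
`Ω₁Z(Q) = ∏ Z l`, `x l ∈ N_G(Q)` acts without fixed points of order 3 on `Z l`, trivially on the
other factors, `S` permutes the factors transitively and the `⟨x l⟩` modulo `C(Ω₁Z(Q))`,
`C_{Z l}(N_S(Z l)) = ⟨z l⟩`.

Target (THEOREM C): `O₂(C_G(z i))` centralises `z l` for `l ≠ i`.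
-/

set_option autoImplicit false

namespace Cfsg.Agent.Omega.ThmC

open Subgroup Cfsg Cfsg.Agent.ZN Cfsg.Agent.MinSimple.VModule

universe u

variable {G : Type u} [Group G]

/-- DATA (W) of THEOREM C. -/
structure Dat (S : Sylow 2 G) (Q : Subgroup G) {ι : Type} (Z : ι → Subgroup G) (x z : ι → G) :
    Prop where
  QS : Q ≤ S
  SC : (S : Subgroup G) ⊓ centralizer (zc Q : Set G) ≤ Q
  CQ : centralizer (Q : Set G) ≤ Q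
  xQ : ∀ l, x l ∈ normalizer (Q : Set G)
  le : ∀ l, Z l ≤ zc Q
  sup : zc Q ≤ ⨆ l, Z l
  nor : ∀ l, ∀ v ∈ Z l, x l * v * (x l)⁻¹ ∈ Z l
  three : ∀ l, ∀ v ∈ Z l,
    v * (x l * v * (x l)⁻¹) * (x l * (x l * v * (x l)⁻¹) * (x l)⁻¹) = 1
  triv : ∀ l m, l ≠ m → ∀ v ∈ Z m, x l * v * (x l)⁻¹ = v
  perm : ∀ s ∈ (S : Subgroup G), ∀ l, ∃ m, (∀ v ∈ Z l, s * v * s⁻¹ ∈ Z m) ∧
    ((∀ v ∈ zc Q, (s * x l * s⁻¹) * v * (s * x l * s⁻¹)⁻¹ = x m * v * (x m)⁻¹) ∨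
      (∀ v ∈ zc Q, (s * x l * s⁻¹) * v * (s * x l * s⁻¹)⁻¹ = (x m)⁻¹ * v * x m))
  trans : ∀ l m, ∃ s ∈ (S : Subgroup G), ∀ v ∈ Z l, s * v * s⁻¹ ∈ Z m
  zm : ∀ l, z l ∈ Z l
  z1 : ∀ l, z l ≠ 1
  zfix : ∀ l, ∀ v ∈ Z l, (∀ s ∈ (S : Subgroup G), (∀ w ∈ Z l, s * w * s⁻¹ ∈ Z l) →
    s * v * s⁻¹ = v) → v = 1 ∨ v = z l

/-- THEOREM C for `q = 2`. -/
def Stmt (G : Type u) [Group G] : Prop :=
  ∀ (S : Sylow 2 G) (Q : Subgroup G) (ι : Type) (_ : Finite ι) (Z : ι → Subgroup G) (x z : ι → G),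
    Dat S Q Z x z → ∀ i l, i ≠ l → o2 (centralizer {z i}) ≤ centralizer ({z l} : Set G)

end Cfsg.Agent.Omega.ThmC
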