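import Cfsg.Agent.Omega.IITwo.LemZ
import Cfsg.Agent.Omega.ThmC.TwoData
import Cfsg.Agent.Omega.IId.TwoOfC

/-!
# THEOREM C (bb OMEGA 15545), case `q = 2`: DATA (W) from LEMMA Z (bb OMEGA 14650 (B))

`Blk.ML l = [Ω₁ Z(Q), x l]`; `Blk.dat : Blk S P Q V x z → Dat S Q ML x zl`.
-/

set_option autoImplicit false

namespace Cfsg.Agent.Omega.IITwo.Three

open Subgroup Cfsg Cfsg.Agent.ZN Cfsg.Agent.MinSimple.VModule
open Cfsg.Agent.Omega.IITwo.Count (Three conj_mem conj_mem')
open scoped IsMulCommutative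

universe u

variable {G : Type u} [Group G]

namespace Blk

variable {ι : Type*} {S P Q : Subgroup G} {V : ι → Subgroup G} {x : ι → G} {z : G}

/-- `M l = [Ω₁ Z(Q), x l]`. -/
def ML (B : Blk S P Q V x z) (l : ι) : Subgroup G := (B.nh l).range.map (zc Q).subtype

variable (B : Blk S P Q V x z)
include B

theorem mem_ML {l : ι} {v : G} : v ∈ B.ML l ↔ ∃ h : v ∈ zc Q, B.nh l ⟨v, h⟩ = ⟨v, h⟩ := by
  constructor
  · rintro ⟨_, ⟨a, rfl⟩, rfl⟩
    exact ⟨(B.nh l a).2, B.nh_idem l a⟩
  · rintro ⟨h, hv⟩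
    exact ⟨⟨v, h⟩, ⟨⟨v, h⟩, hv⟩, rfl⟩

theorem V_le_ML (l : ι) : V l ≤ B.ML l := fun _ hv => B.mem_ML.mpr ⟨B.VA l hv, B.nh_self hv⟩

theorem ML_le (l : ι) : B.ML l ≤ zc Q := map_subtype_le _

theorem conj_ML [Finite G] {g : G} (hg : g ∈ P) {l m : ι}
    (h : (V l).map (MulAut.conj g).toMonoidHom = V m) {v : G} (hv : v ∈ B.ML l) :
    g * v * g⁻¹ ∈ B.ML m := by
  obtain ⟨a, ⟨b, rfl⟩, rfl⟩ := hv
  exact ⟨B.cj ⟨g, hg⟩ (B.nh l b), ⟨B.cj ⟨g, hg⟩ b, (B.cj_nh (g := ⟨g, hg⟩) h b).symm⟩, rfl⟩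

theorem zc_le_iSup_ML [Finite G] [Finite ι] : zc Q ≤ ⨆ l, B.ML l := by
  classical
  have := Fintype.ofFinite ι
  intro a ha
  have h1 := congrArg Subtype.val (B.prod_nh ⟨a, ha⟩)
  have h2 : (⟨a, ha⟩ : zc Q) ∈ (⨆ l, B.ML l).comap (zc Q).subtype := by
    rw [← B.prod_nh ⟨a, ha⟩]
    refine Subgroup.prod_mem _ fun l _ => ?_
    rw [mem_comap]
    exact (le_iSup B.ML l) ⟨_, ⟨_, rfl⟩, rfl⟩
  exact h2

end Blk

/-- **DATA (W) from LEMMA Z.** -/
theorem Blk.dat [Finite G] {S : Sylow 2 G} {P Q : Subgroup G} {ι : Type} [Finite ι]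
    {V : ι → Subgroup G} {x : ι → G} {z : G} (B : Blk (S : Subgroup G) P Q V x z)
    (hSC : (S : Subgroup G) ⊓ centralizer (zc Q : Set G) ≤ Q)
    (hCQ : centralizer (Q : Set G) ≤ Q) : ThmC.Dat S Q B.ML x B.zl where
  QS := B.QS
  SC := hSC
  CQ := hCQ
  xQ := fun l => B.PQ (B.xP l)
  le := B.ML_le
  sup := B.zc_le_iSup_ML
  nor := fun l v hv => B.conj_ML (B.xP l) (Blk.map_of_mem_norm (B.xn l)) hv
  three := by
    intro l v hv
    obtain ⟨h, hv⟩ := B.mem_ML.mp hv
    rw [B.nh_apply] at hv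
    have h1 : v = (x l * v * (x l)⁻¹) * (x l * (x l * v * (x l)⁻¹) * (x l)⁻¹) :=
      (congrArg Subtype.val hv).symm
    have h2 : v * v = 1 := congrArg Subtype.val (Blk.sq_zc (⟨v, h⟩ : zc Q))
    rw [mul_assoc, ← h1, h2]
  triv := by
    intro l m hlm v hv
    obtain ⟨h, hv⟩ := B.mem_ML.mp hv
    have h1 : B.nh l ⟨v, h⟩ = 1 := by rw [← hv]; exact B.nh_nh hlm _
    have h2 := B.nh_eq_one.mp h1
    change x l * v = v * x l at h2
    rw [h2]; group
  perm := by
    intro s hs l
    obtain ⟨m, hm⟩ := B.perm s (B.SP hs) l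
    refine ⟨m, fun v hv => B.conj_ML (B.SP hs) hm hv, ?_⟩
    rcases B.cj_conj_x (g := ⟨s, B.SP hs⟩) hm with h | h
    · left
      intro v hv
      exact congrArg (fun f : zc Q →* zc Q => ((f ⟨v, hv⟩ : zc Q) : G)) h
    · right
      intro v hv
      have h1 := congrArg (fun f : zc Q →* zc Q => ((f ⟨v, hv⟩ : zc Q) : G)) h
      change (s * x l * s⁻¹) * v * (s * x l * s⁻¹)⁻¹ = (x m)⁻¹ * v * (x m)⁻¹⁻¹ at h1
      rwa [inv_inv] at h1
  trans := by
    intro l m
    obtain ⟨s, hs, hsV⟩ := B.tr l m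
    exact ⟨s, hs, fun v hv => B.conj_ML (B.SP hs) hsV hv⟩
  zm := fun l => B.V_le_ML l (B.zl_mem_V l)
  z1 := fun l => B.zl_ne_one l
  zfix := by
    intro l v hv hfix
    obtain ⟨h, hv'⟩ := B.mem_ML.mp hv
    rcases B.fixed hv' (fun t ht htV => by
      have h1 := hfix t ht (fun w hw => B.conj_ML (B.SP ht) (Blk.map_of_mem_norm htV) hw)
      change t * v = v * t
      calc t * v = t * v * t⁻¹ * t := by group
        _ = v * t := by rw [h1]) with h1 | h1
    · exact Or.inl (congrArg Subtype.val h1)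
    · exact Or.inr (congrArg Subtype.val h1)

end Cfsg.Agent.Omega.IITwo.Three

/-! ### The instance from natural factors over the field of order 2 -/

namespace Cfsg.Agent.Omega.ThmC.TwoOf

open Subgroup Cfsg Cfsg.Agent.ZN Cfsg.Agent.ZN.ChoiceBase
open Cfsg.Agent.MinSimple.VModule hiding le_normalizer_zl
open Cfsg.Agent.Omega.MinPar Cfsg.Agent.Omega.FFThm Cfsg.Agent.Omega.IId
open Cfsg.Agent.Lib.SL2Mat
open Cfsg.Agent.Omega.NatPair (ap ap_one)
open Cfsg.Agent.Omega.IITwo.Three (Blk le_centralizer_of_odd)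
open Cfsg.Agent.Omega.IITwo.Count (Three)
open Cfsg.Agent.Omega.IITwo

universe u

variable {G : Type u} [Group G]

/-- `S ∩ C` has odd index in `C` for `C ⊴ P`, `S ≤ P` of odd index. -/
theorem not_dvd_relIndex_inf [Finite G] {S P C : Subgroup G} (hSP : S ≤ P) (hCP : C ≤ P)
    (hPC : P ≤ normalizer (C : Set G)) (h : ¬ 2 ∣ S.relIndex P) : ¬ 2 ∣ (S ⊓ C).relIndex C := by
  intro h2
  apply h
  have h1 : Nat.card (S ⊔ C : Subgroup G) * Nat.card (S ⊓ C : Subgroup G) = Nat.card S * Nat.card C := by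
    rw [← Lib.ProductSet.card_mul_card_inf S C, ← coe_mul_of_left_le_normalizer_right _ _ (hSP.trans hPC)]
    rfl
  have h3 := Lib.SylowNormalInf.card_mul_relIndex (S ⊓ C) C inf_le_right
  have h4 := Lib.SylowNormalInf.card_mul_relIndex S (S ⊔ C) le_sup_left
  have h5 : S.relIndex (S ⊔ C) = (S ⊓ C).relIndex C := by
    have hS : 0 < Nat.card S := Nat.card_pos
    have hI : 0 < Nat.card (S ⊓ C : Subgroup G) := Nat.card_pos
    refine Nat.eq_of_mul_eq_mul_left (Nat.mul_pos hS hI) ?_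
    calc Nat.card S * Nat.card (S ⊓ C : Subgroup G) * S.relIndex (S ⊔ C)
        = (Nat.card S * S.relIndex (S ⊔ C)) * Nat.card (S ⊓ C : Subgroup G) := by ring
      _ = Nat.card S * (Nat.card (S ⊓ C : Subgroup G) * (S ⊓ C).relIndex C) := by rw [h4, h1, h3]
      _ = _ := by ring
  rw [← h5] at h2
  exact h2.trans (Dvd.intro _ (relIndex_mul_relIndex _ _ _ le_sup_left (sup_le hSP hCP)))

theorem two_cases {F : Type} [Field F] (hF : Nat.card F = 2) (a : F) : a = 0 ∨ a = 1 := by
  classical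
  have hfin : Finite F := Nat.finite_of_card_ne_zero (by omega)
  have := Fintype.ofFinite F
  by_contra hcon
  push Not at hcon
  have h1 : ({0, 1, a} : Finset F).card = 3 := by
    rw [Finset.card_insert_of_notMem, Finset.card_insert_of_notMem, Finset.card_singleton]
    · simpa using fun h => hcon.2 h.symm
    · simp only [Finset.mem_insert, Finset.mem_singleton, not_or]
      exact ⟨zero_ne_one, fun h => hcon.1 h.symm⟩
  have h2 := Finset.card_le_univ ({0, 1, a} : Finset F)
  have h3 : Fintype.card F = 2 := by rw [← Nat.card_eq_fintype_card]; exact hF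
  omega

variable {F : Type} [Field F] {k : ℕ}

section

variable {S P : Subgroup G} (M : NatK F S P (zl S P) ⊥ k)

theorem part_le_iSup (s : Finset (Fin k)) : part M (s : Set (Fin k)) ≤ ⨆ l, fac M l := by
  classical
  induction s using Finset.induction_on with
  | empty => rw [Finset.coe_empty, part_empty]; exact bot_le
  | insert i s _ ih =>
    intro v hv
    obtain ⟨a, ha, h1, h2⟩ := exists_component M hv.1 i
    have h3 : a⁻¹ * v ∈ part M (s : Set (Fin k)) := by
      refine ⟨h2.1, fun j hj => ?_⟩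
      by_cases hji : j = i
      · exact h2.2 j (fun h => h hji)
      · rw [M.mul _ (inv_mem ha.1) _ hv.1, e_inv M ha.1, Pi.add_apply, Pi.neg_apply,
          ha.2 j hji, hv.2 j (fun h => by
            rw [Finset.coe_insert, Set.mem_insert_iff] at h
            rcases h with h | h
            · exact hji h
            · exact hj h), neg_zero, add_zero]
    have h4 : v = a * (a⁻¹ * v) := by group
    rw [h4]
    exact mul_mem ((le_iSup (fac M) i) ha) (ih h3)

theorem iSup_fac : ⨆ l, fac M l = zl S P := by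
  refine le_antisymm (iSup_le fun l => fac_le M l) ?_
  have h := part_le_iSup M Finset.univ
  rwa [Finset.coe_univ, part_univ] at h

/-- the second coordinates of an `S`-fixed vector vanish. -/
theorem e_one_eq_zero {v : G} (hv : v ∈ zl S P) (hS : ∀ s ∈ S, s * v = v * s) (i : Fin k) :
    M.e v i 1 = 0 := by
  obtain ⟨t, ht, h1⟩ := M.unip fun _ => 1
  have h2 : t * v * t⁻¹ = v := by rw [hS t ht]; group
  have h3 := h1.1 v hv i
  rw [h2] at h3
  have h4 := congrFun h3 0
  rw [NatPair.ap_zero'] at h4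
  simpa using h4

include M in
/-- an `S`-fixed vector `≠ 1` of `V` is unique for `|F| = 2`. -/
theorem fixed_unique (hF : Nat.card F = 2) {v w : G} (hv : v ∈ zl S P) (hw : w ∈ zl S P) (hv1 : v ≠ 1)
    (hw1 : w ≠ 1) (hvS : ∀ s ∈ S, s * v = v * s) (hwS : ∀ s ∈ S, s * w = w * s) : v = w := by
  refine e_inj M hv hw (funext fun i => ?_)
  have key : ∀ u ∈ zl S P, u ≠ 1 → (∀ s ∈ S, s * u = u * s) → M.e u i 0 = 1 := by
    intro u hu hu1 huS
    rcases two_cases hF (M.e u i 0) with h | h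
    · exfalso
      apply hu1
      refine eq_one_of_cent M hu huS (i := i) ?_
      apply NatPair.ext2
      · rw [h]; rfl
      · rw [e_one_eq_zero M hu huS i]; rfl
    · exact h
  apply NatPair.ext2
  · rw [key v hv hv1 hvS, key w hw hw1 hwS]
  · rw [e_one_eq_zero M hv hvS, e_one_eq_zero M hw hwS]

open Classical in
/-- an element of order 3 on the factor `l`. -/
theorem exists_three [CharP F 2] (l : Fin k) : ∃ g ∈ grp M {l}, Three (fac M l) g := by
  have hdet : (0 : F) * 1 - 1 * 1 = 1 := by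
    rw [zero_mul, one_mul, zero_sub]
    exact CharTwo.neg_eq 1
  obtain ⟨g, hg, h1⟩ := M.lift (Function.update 1 l (mk 0 1 1 1 hdet))
  have hg' : g ∈ grp M {l} := ⟨hg, _, h1, fun j hj => Function.update_of_ne hj _ _⟩
  refine ⟨g, hg', fun v hv => ?_⟩
  have hn := grp_normalizes M {l} {l} hg'
  have h2 : g * v * g⁻¹ ∈ fac M l := (mem_normalizer_iff.1 hn v).1 hv
  have h3 : g * (g * v * g⁻¹) * g⁻¹ ∈ fac M l := (mem_normalizer_iff.1 hn _).1 h2
  rw [← fac_eq_one M (mul_mem (mul_mem hv h2) h3), M.mul _ (mul_mem hv.1 h2.1) _ h3.1,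
    M.mul _ hv.1 _ h2.1, Pi.add_apply, Pi.add_apply, h1.1 _ h2.1 l, h1.1 _ hv.1 l, Function.update_self]
  apply NatPair.ext2
  · simp only [Pi.add_apply, Pi.zero_apply, NatPair.ap_zero', NatPair.ap_one', mk_00, mk_01, mk_10, mk_11]
    have h4 : (2 : F) = 0 := CharTwo.two_eq_zero
    linear_combination (M.e v l 0 + M.e v l 1) * h4
  · simp only [Pi.add_apply, Pi.zero_apply, NatPair.ap_zero', NatPair.ap_one', mk_00, mk_01, mk_10, mk_11]
    have h4 : (2 : F) = 0 := CharTwo.two_eq_zero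
    linear_combination (M.e v l 0 + 2 * M.e v l 1) * h4

end

/-- `C_G(O₂(P)) ≤ O₂(P)`. -/
theorem centralizer_o2_le [Finite G] (hc : IsCharacteristicTwoType G) (S : Sylow 2 G) {P : Subgroup G}
    (hP : IsParS (S : Subgroup G) P) : centralizer (o2 P : Set G) ≤ o2 P := by
  have h1 := MinSimple.Basic.char2_normalizer hc (o2_isPGroup P) hP.o2_ne
  have h2 : o2 (normalizer (o2 P : Set G)) ≤ o2 P :=
    o2_le_o2 S hP.le (le_normalizer_o2 P)
  have h3 : centralizer (o2 P : Set G) ≤ normalizer (o2 P : Set G) := centralizer_le_normalizer _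
  exact (le_inf h3 (centralizer_le h2)).trans (h1.trans h2)

/-- **The instance `Blk`** from natural factors over the field of order 2. -/
theorem exists_blk [Finite G] [CharP F 2] (hF : Nat.card F = 2) (hc : IsCharacteristicTwoType G)
    {S : Sylow 2 G} {P : Subgroup G} (hP : IsParS (S : Subgroup G) P)
    (M : NatK F (S : Subgroup G) P (zl (S : Subgroup G) P) ⊥ k) (hk : 0 < k) :
    ∃ (x : Fin k → G) (z : G), Blk (S : Subgroup G) P (o2 P) (fac M) x z ∧
      ∀ l, x l ∈ grp M {l} := by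
  classical
  have hSyl := MinSimple.Basic.not_dvd_relIndex S hP.le
  have hcP := IsLoc.char2 S hc hP.isLoc
  have hVA : zl (S : Subgroup G) P ≤ zc (o2 P) := zl_le_zc hP.le S.isPGroup' hSyl hcP
  have hQS : o2 P ≤ (S : Subgroup G) := o2_le_of_sylow S.isPGroup' hSyl
  choose x hx hx3 using exists_three M
  -- the fixed vector
  have hV2 : IsPGroup 2 (zl (S : Subgroup G) P) := by
    rintro ⟨a, ha⟩
    exact ⟨1, Subtype.ext (by simpa using zc_sq (o2 P) a (hVA ha))⟩
  have hV1 : zl (S : Subgroup G) P ≠ ⊥ := by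
    intro h
    apply fac_ne_bot M ⟨0, hk⟩
    rw [eq_bot_iff, ← h]
    exact fac_le M _
  obtain ⟨z, hz, hz1, hzf⟩ := Half.exists_fixed hV2 hV1 S.isPGroup'
    (hP.le.trans (MinSimple.VModule.le_normalizer_zl (S : Subgroup G) P))
  have hzS : ∀ s ∈ (S : Subgroup G), s * z = z * s := fun s hs => by
    calc s * z = s * z * s⁻¹ * s := by group
      _ = z * s := by rw [hzf s hs]
  have hfix : ∀ a ∈ zc (o2 P), (∀ s ∈ (S : Subgroup G), s * a = a * s) → a = 1 ∨ a = z := by
    intro a ha haS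
    by_cases ha1 : a = 1
    · exact Or.inl ha1
    · right
      have h1 : a ∈ zc (S : Subgroup G) := mem_zc.mpr ⟨hQS (zc_le _ ha), haS, zc_sq _ a ha⟩
      exact fixed_unique M hF (zc_le_zl _ _ h1) hz ha1 hz1 haS hzS
  refine ⟨x, z, ?_, hx⟩
  refine
    { SP := hP.le
      S2 := S.isPGroup'
      QS := hQS
      PQ := MinSimple.VModule.le_normalizer_o2 P
      VA := fun l => (fac_le M l).trans hVA
      four := fun l => by rw [card_fac, hF]; norm_num
      perm := fun g hg l => ⟨_, conj_fac M hg l⟩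
      inj := fun l m h => fac_inj M h
      tr := fun l m => exists_trans M hP.le l m
      xP := fun l => (hx l).1
      xn := fun l => grp_normalizes M {l} {l} (hx l)
      x3 := hx3
      xc := fun l i hil v hv => grp_comm M (Set.disjoint_singleton.2 (Ne.symm hil)) (hx l) hv
      ker := ?_
      fix := hfix
      zS := hzS
      z1 := hz1
      zV := by rw [iSup_fac]; exact hz }
  intro g hg hgV a ha
  have h1 : P ⊓ centralizer (zl (S : Subgroup G) P : Set G) ≤ centralizer (zc (o2 P) : Set G) := by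
    refine le_centralizer_of_odd (S := S) (z := z) hP.le S.isPGroup' (MinSimple.VModule.le_normalizer_o2 P)
      (le_normalizer_centralizer_zl _ _) inf_le_left ?_ hfix ?_
    · have h2 := not_dvd_relIndex_inf hP.le (C := P ⊓ centralizer (zl (S : Subgroup G) P : Set G))
        inf_le_left (le_normalizer_centralizer_zl _ _) hSyl
      have h3 : (S : Subgroup G) ⊓ (P ⊓ centralizer (zl (S : Subgroup G) P : Set G)) = o2 P := by
        rw [← inf_assoc, inf_eq_left.mpr hP.le]
        exact inf_centralizer_zl hP.toIsMinPar S.isPGroup' hSyl hcP hP.not_zc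
      rwa [h3] at h2
    · intro c hc'
      exact (mem_centralizer_iff.mp hc'.2 z hz).symm
  have h2 : g ∈ centralizer (zl (S : Subgroup G) P : Set G) := by
    rw [← iSup_fac M, mem_centralizer_iff]
    have h3 : ⨆ l, fac M l ≤ centralizer ({g} : Set G) := by
      refine iSup_le fun l v hv => mem_centralizer_iff.mpr ?_
      rintro _ rfl
      exact hgV l v hv
    intro v hv
    exact (mem_centralizer_iff.mp (h3 hv) g rfl).symm
  exact (mem_centralizer_iff.mp (h1 ⟨hg, h2⟩) a ha).symm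

/-- **THEOREM C for `q = 2`** from `Stmt`. -/
theorem cc [Finite G] [CharP F 2] (hStmt : Stmt G) (hc : IsCharacteristicTwoType G)
    {S : Sylow 2 G} {P : Subgroup G} (hP : IsParS (S : Subgroup G) P)
    (M : NatK F (S : Subgroup G) P (zl (S : Subgroup G) P) ⊥ k) (hF : Nat.card F = 2) : CC M := by
  classical
  intro i l hli
  obtain ⟨x, z, B, hx⟩ := exists_blk hF hc hP M i.pos
  have hSyl := MinSimple.Basic.not_dvd_relIndex S hP.le
  have hcP := IsLoc.char2 S hc hP.isLoc
  have hVA : zl (S : Subgroup G) P ≤ zc (o2 P) := zl_le_zc hP.le S.isPGroup' hSyl hcP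
  have hSC : (S : Subgroup G) ⊓ centralizer (zc (o2 P) : Set G) ≤ o2 P :=
    (inf_le_inf_left _ (centralizer_le hVA)).trans
      (inf_centralizer_zl hP.toIsMinPar S.isPGroup' hSyl hcP hP.not_zc).le
  have h1 := hStmt S (o2 P) (Fin k) inferInstance B.ML x B.zl (B.dat hSC (centralizer_o2_le hc S hP))
    i l (Ne.symm hli)
  -- `line M i = {1, zl i}`
  have hzl : B.zl i ∈ line M i := by
    rw [mem_line]
    refine ⟨B.zl_mem_V i, ?_⟩
    obtain ⟨t, ht, h2⟩ := M.unip fun _ => 1
    have htn : t ∈ normalizer (fac M i : Set G) :=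
      grp_normalizes M Set.univ {i} ⟨hP.le ht, _, h2, fun j hj => (hj (Set.mem_univ j)).elim⟩
    have h3 : t * B.zl i * t⁻¹ = B.zl i := by rw [B.zl_cent ht htn]; group
    have h4 := h2.1 _ (B.zl_mem_V i).1 i
    rw [h3] at h4
    have h5 := congrFun h4 0
    rw [NatPair.ap_zero'] at h5
    simpa using h5
  have hline : ∀ v ∈ line M i, v = 1 ∨ v = B.zl i := by
    intro v hv
    have hv' := (mem_line M).1 hv
    have hz' := (mem_line M).1 hzl
    have hz0 : M.e (B.zl i) i 0 = 1 := by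
      rcases two_cases hF (M.e (B.zl i) i 0) with h | h
      · exfalso
        apply B.zl_ne_one i
        rw [← fac_eq_one M hz'.1]
        apply NatPair.ext2
        · rw [h]; rfl
        · rw [hz'.2]; rfl
      · exact h
    rcases two_cases hF (M.e v i 0) with h | h
    · left
      rw [← fac_eq_one M hv'.1]
      apply NatPair.ext2
      · rw [h]; rfl
      · rw [hv'.2]; rfl
    · right
      refine ext_fac M hv'.1 hz'.1 ?_
      apply NatPair.ext2
      · rw [h, hz0]
      · rw [hv'.2, hz'.2]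
  have hnorm : normalizer (line M i : Set G) = centralizer ({B.zl i} : Set G) := by
    apply le_antisymm
    · intro g hg
      have h2 : g * B.zl i * g⁻¹ ∈ line M i := (mem_normalizer_iff.mp hg _).mp hzl
      have h3 : g * B.zl i * g⁻¹ = B.zl i := by
        refine (hline _ h2).resolve_left fun h => B.zl_ne_one i ?_
        have h4 : B.zl i = g⁻¹ * (g * B.zl i * g⁻¹) * g := by group
        rw [h4, h]; group
      refine mem_centralizer_iff.mpr ?_
      rintro _ rfl
      calc B.zl i * g = g * B.zl i * g⁻¹ * g := by rw [h3]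
        _ = g * B.zl i := by group
    · intro g hg
      refine Count.mem_norm fun v hv => ?_
      rcases hline v hv with h | h
      · rw [h]
        have : g * 1 * g⁻¹ = 1 := by group
        rw [this]; exact one_mem _
      · have h2 : g * v * g⁻¹ = B.zl i := by
          rw [h, ← mem_centralizer_iff.mp hg _ rfl]; group
        rw [h2]; exact hzl
  rw [hnorm]
  set W := o2 (centralizer ({B.zl i} : Set G)) with hW
  -- `a = zl l` and `b = a^(x l)`
  have ha : B.zl l ∈ centralizer (W : Set G) :=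
    mem_centralizer_iff.mpr fun w hw => (mem_centralizer_iff.mp (h1 hw) _ rfl).symm
  have hxC : x l ∈ centralizer ({B.zl i} : Set G) := by
    refine mem_centralizer_iff.mpr ?_
    rintro _ rfl
    exact (B.xc l i (Ne.symm hli) _ (B.zl_mem_V i)).symm
  have hxW : x l ∈ normalizer (W : Set G) := MinSimple.VModule.le_normalizer_o2 _ hxC
  have hb : x l * B.zl l * (x l)⁻¹ ∈ centralizer (W : Set G) := by
    refine mem_centralizer_iff.mpr fun w hw => ?_
    have h2 : (x l)⁻¹ * w * x l ∈ W := Count.conj_mem' hxW hw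
    have h3 := mem_centralizer_iff.mp ha _ h2
    calc w * (x l * B.zl l * (x l)⁻¹) = x l * (((x l)⁻¹ * w * x l) * B.zl l) * (x l)⁻¹ := by group
      _ = x l * (B.zl l * ((x l)⁻¹ * w * x l)) * (x l)⁻¹ := by rw [h3]
      _ = x l * B.zl l * (x l)⁻¹ * w := by group
  obtain ⟨hb1, hab, -, -⟩ := IITwo.Three.three_cycle (fun u hu => B.sq hu)
    (fun u hu v hv => B.comm hu hv) (B.xn l) (B.x3 l) (B.zl_mem_V l) (B.zl_ne_one l)
  intro v hv
  rcases IITwo.Three.four_all (B.four l) (fun u hu => B.sq hu) (B.zl_mem_V l)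
    (Count.conj_mem (B.xn l) (B.zl_mem_V l)) (B.zl_ne_one l) hb1 hab v hv with h | h | h | h
  · rw [h]; exact one_mem _
  · rw [h]; exact ha
  · rw [h]; exact hb
  · rw [h]; exact mul_mem ha hb

end Cfsg.Agent.Omega.ThmC.TwoOf
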