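import Cfsg.Agent.Omega.ThmC.TwoNL

/-!
# THEOREM C, `q = 2`, step (6): the halved DATA (W)
-/

set_option autoImplicit false
set_option linter.unusedSectionVars false

namespace Cfsg.Agent.Omega.ThmC

open scoped Pointwise
open Subgroup Cfsg Cfsg.Agent.MinSimple.VModule
open Cfsg.Agent.ZN (zc o2)
open Cfsg.Agent.Omega.IITwo.Count (conj_mem conj_mem' mem_norm)

universe u

variable {G : Type u} [Group G]

/-! ### representatives of the pairs `{l, star l}` -/

section rep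
variable {ι : Type} {star : ι → ι}

/-- the equivalence relation of the pairs. -/
def pairS (hs : ∀ l, star (star l) = l) : Setoid ι where
  r l m := m = l ∨ m = star l
  iseqv := ⟨fun _ => Or.inl rfl, by
    rintro l m (rfl | rfl)
    · exact Or.inl rfl
    · exact Or.inr (hs l).symm, by
    rintro l m n (rfl | rfl) (rfl | rfl)
    · exact Or.inl rfl
    · exact Or.inr rfl
    · exact Or.inr rfl
    · exact Or.inl (hs l)⟩

/-- the representative of `{l, star l}`. -/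
noncomputable def rep (hs : ∀ l, star (star l) = l) (l : ι) : ι := (Quotient.mk (pairS hs) l).out

theorem rep_or (hs : ∀ l, star (star l) = l) (l : ι) : rep hs l = l ∨ rep hs l = star l := by
  have h : (pairS hs).r (Quotient.mk (pairS hs) l).out l := Quotient.mk_out (s := pairS hs) l
  rcases h with h | h
  · exact Or.inl h.symm
  · right
    change (Quotient.mk (pairS hs) l).out = star l
    conv_rhs => rw [h]
    exact (hs _).symm

theorem rep_star (hs : ∀ l, star (star l) = l) (l : ι) : rep hs (star l) = rep hs l := by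
  have : Quotient.mk (pairS hs) (star l) = Quotient.mk (pairS hs) l :=
    Quotient.sound (s := pairS hs) (Or.inr (hs l).symm)
  unfold rep
  rw [this]

theorem rep_rep (hs : ∀ l, star (star l) = l) (l : ι) : rep hs (rep hs l) = rep hs l := by
  rcases rep_or hs l with h | h
  · rw [h, h]
  · rw [h, rep_star hs, h]

end rep

namespace Dat

variable {S : Sylow 2 G} {Q : Subgroup G} {ι : Type} {Z : ι → Subgroup G} {x z : ι → G}

/-- the input of (6). -/
structure Six (D : Dat S Q Z x z) (o : ι) (star : ι → ι) (y : G) : Prop where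
  ne : ∀ l, star l ≠ l
  inv : ∀ l, star (star l) = l
  perm : ∀ s ∈ (S : Subgroup G), ∀ l, D.sg s (star l) = star (D.sg s l)
  yN : y ∈ normalizer (S0 (S : Subgroup G) Z : Set G)
  tr : ∀ l, l ≠ o → l ≠ star o → ∀ v ∈ zc (S0 (S : Subgroup G) Z), y * pr (x l) v * y⁻¹ = pr (x l) v
  pr : ∀ l, l ≠ o → l ≠ star o → ∀ v ∈ zc (S0 (S : Subgroup G) Z), pr (x l) (y * v * y⁻¹) = pr (x l) v
  three : ∀ v ∈ zc (S0 (S : Subgroup G) Z), (∀ l, l ≠ o → l ≠ star o → ThmC.pr (x l) v = 1) →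
    v * (y * v * y⁻¹) * (y * (y * v * y⁻¹) * y⁻¹) = 1
  comm : ∀ s ∈ (S : Subgroup G), D.sg s o = o → ∀ v ∈ zc (S0 (S : Subgroup G) Z),
    (s * y * s⁻¹) * v * (s * y * s⁻¹)⁻¹ = y * v * y⁻¹
  anti : ∀ s ∈ (S : Subgroup G), D.sg s o = star o → ∀ v ∈ zc (S0 (S : Subgroup G) Z),
    (s * y * s⁻¹) * v * (s * y * s⁻¹)⁻¹ = y⁻¹ * v * y

section
variable [Finite G] [Finite ι] (D : Dat S Q Z x z)

/-- the factor `C_l C_{star l}` of `E`. -/
def Xb (D : Dat S Q Z x z) (star : ι → ι) (l : ι) : Subgroup G where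
  carrier := {v | v ∈ zc (S0 (S : Subgroup G) Z) ∧ ∀ m, m ≠ l → m ≠ star l → ThmC.pr (x m) v = 1}
  one_mem' := ⟨one_mem _, fun m _ _ => by unfold ThmC.pr; group⟩
  mul_mem' := by
    rintro a b ⟨ha1, ha2⟩ ⟨hb1, hb2⟩
    refine ⟨mul_mem ha1 hb1, fun m h1 h2 => ?_⟩
    rw [pr_mul (D.xN m) (D.E_le ha1) (D.E_le hb1), ha2 m h1 h2, hb2 m h1 h2, one_mul]
  inv_mem' := by
    rintro a ⟨ha1, ha2⟩
    refine ⟨inv_mem ha1, fun m h1 h2 => ?_⟩
    have h3 : a * a = 1 := by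
      have := zc_sq _ _ ha1
      rwa [pow_two] at this
    rw [inv_eq_of_mul_eq_one_right h3]
    exact ha2 m h1 h2

variable {star : ι → ι}

theorem mem_Xb {l : ι} {v : G} : v ∈ D.Xb star l ↔
    v ∈ zc (S0 (S : Subgroup G) Z) ∧ ∀ m, m ≠ l → m ≠ star l → ThmC.pr (x m) v = 1 := Iff.rfl

theorem Xb_star (hs : ∀ l, star (star l) = l) (l : ι) : D.Xb star (star l) = D.Xb star l := by
  ext v
  rw [mem_Xb, mem_Xb, hs]
  exact and_congr_right fun _ => ⟨fun h m h1 h2 => h m h2 h1, fun h m h1 h2 => h m h2 h1⟩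

theorem Xb_rep (hs : ∀ l, star (star l) = l) (l : ι) : D.Xb star (rep hs l) = D.Xb star l := by
  rcases rep_or hs l with h | h
  · rw [h]
  · rw [h, D.Xb_star hs]

theorem mem_Xb_of_Z {l : ι} {v : G} (hv : v ∈ zc (S0 (S : Subgroup G) Z)) (h : v ∈ Z l) : v ∈ D.Xb star l :=
  ⟨hv, fun _ hm _ => D.pr_other hm h⟩

/-- `v = π_l(v) π_{star l}(v)` for `v ∈ X_l`. -/
theorem Xb_eq (hne : ∀ l, star l ≠ l) {l : ι} {v : G} (hv : v ∈ D.Xb star l) :
    v = ThmC.pr (x l) v * ThmC.pr (x (star l)) v := by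
  classical
  have := Fintype.ofFinite ι
  have h1 := D.pi_sum (Md.mk v (D.E_le hv.1))
  rw [← Finset.add_sum_erase _ _ (Finset.mem_univ l),
    ← Finset.add_sum_erase _ _ (Finset.mem_erase.mpr ⟨hne l, Finset.mem_univ (star l)⟩)] at h1
  have h2 : ∑ m ∈ (Finset.univ.erase l).erase (star l), D.pi m (Md.mk v (D.E_le hv.1)) = 0 := by
    refine Finset.sum_eq_zero fun m hm => ?_
    rw [Finset.mem_erase, Finset.mem_erase] at hm
    exact Md.ext (hv.2 m hm.2.1 hm.1)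
  rw [h2, add_zero] at h1
  exact (congrArg Md.val h1).symm

theorem conj_Xb (hp : ∀ s ∈ (S : Subgroup G), ∀ l, D.sg s (star l) = star (D.sg s l)) {s : G}
    (hs : s ∈ (S : Subgroup G)) {l : ι} {v : G} (hv : v ∈ D.Xb star l) : s * v * s⁻¹ ∈ D.Xb star (D.sg s l) := by
  refine ⟨conj_mem (D.S_le_nor_E hs) hv.1, fun m h1 h2 => ?_⟩
  have h3 : D.sg s (D.sg s⁻¹ m) = m := by
    rw [← D.sg_mul hs (inv_mem hs), mul_inv_cancel, D.sg_one]
  have h4 := D.pr_conj hs (D.sg s⁻¹ m) (D.E_le hv.1)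
  rw [h3] at h4
  rw [← h4, hv.2 (D.sg s⁻¹ m) (fun h => h1 (by rw [← h3, h])) (fun h => h2 (by rw [← h3, h, hp s hs]))]
  group

end

section six
variable [Finite G] [Finite ι] (D : Dat S Q Z x z) {star : ι → ι} {o : ι} {y : G}

theorem Six.y_mem (h : D.Six o star y) {v : G} (hv : v ∈ D.Xb star o) : y * v * y⁻¹ ∈ D.Xb star o := by
  refine ⟨conj_mem (normalizer_le_normalizer_zc _ h.yN) hv.1, fun m h1 h2 => ?_⟩
  rw [h.pr m h1 h2 v hv.1]
  exact hv.2 m h1 h2

theorem Six.y_triv (h : D.Six o star y) {m : ι} (h1 : m ≠ o) (h2 : m ≠ star o) {v : G} (hv : v ∈ D.Xb star m) :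
    y * v * y⁻¹ = v := by
  have e := D.Xb_eq h.ne hv
  have h3 : star m ≠ o := fun h0 => h2 (by rw [← h0, h.inv])
  have h4 : star m ≠ star o := fun h0 => h1 (by rw [← h.inv m, h0, h.inv])
  calc y * v * y⁻¹ = y * (ThmC.pr (x m) v * ThmC.pr (x (star m)) v) * y⁻¹ := by rw [← e]
    _ = (y * ThmC.pr (x m) v * y⁻¹) * (y * ThmC.pr (x (star m)) v * y⁻¹) := by group
    _ = ThmC.pr (x m) v * ThmC.pr (x (star m)) v := by
        rw [h.tr m h1 h2 v hv.1, h.tr (star m) h3 h4 v hv.1]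
    _ = v := e.symm

/-- an element of `S` moving `o` to `l`. -/
noncomputable def gS (D : Dat S Q Z x z) (o l : ι) : G := (D.trans o l).choose

theorem gS_mem (l : ι) : D.gS o l ∈ (S : Subgroup G) := (D.trans o l).choose_spec.1

theorem sg_gS (l : ι) : D.sg (D.gS o l) o = l := D.sg_eq' (D.gS_mem l) (D.trans o l).choose_spec.2

/-- the new `x`. -/
noncomputable def y' (D : Dat S Q Z x z) (o : ι) (y : G) (l : ι) : G := D.gS o l * y * (D.gS o l)⁻¹

theorem Six.y'_nor (h : D.Six o star y) (l : ι) : D.y' o y l ∈ normalizer (S0 (S : Subgroup G) Z : Set G) :=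
  mul_mem (mul_mem (D.S_le_nor_S0 (D.gS_mem l)) h.yN) (inv_mem (D.S_le_nor_S0 (D.gS_mem l)))

theorem inv_gS_Xb (h : D.Six o star y) {l : ι} {v : G} (hv : v ∈ D.Xb star l) :
    (D.gS o l)⁻¹ * v * D.gS o l ∈ D.Xb star o := by
  have := D.conj_Xb h.perm (inv_mem (D.gS_mem (o := o) l)) hv
  rwa [D.sg_inv (D.gS_mem l) (D.sg_gS l), inv_inv] at this

theorem Six.y'_mem (h : D.Six o star y) {l : ι} {v : G} (hv : v ∈ D.Xb star l) :
    D.y' o y l * v * (D.y' o y l)⁻¹ ∈ D.Xb star l := by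
  have h1 := h.y_mem D (D.inv_gS_Xb h hv)
  have h2 := D.conj_Xb h.perm (D.gS_mem (o := o) l) h1
  rw [D.sg_gS] at h2
  have e : D.gS o l * (y * ((D.gS o l)⁻¹ * v * D.gS o l) * y⁻¹) * (D.gS o l)⁻¹ =
      D.y' o y l * v * (D.y' o y l)⁻¹ := by unfold y'; group
  rwa [e] at h2

theorem Six.y'_three (h : D.Six o star y) {l : ι} {v : G} (hv : v ∈ D.Xb star l) :
    v * (D.y' o y l * v * (D.y' o y l)⁻¹) *
      (D.y' o y l * (D.y' o y l * v * (D.y' o y l)⁻¹) * (D.y' o y l)⁻¹) = 1 := by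
  have h0 := D.inv_gS_Xb h hv
  have h1 := h.three _ h0.1 h0.2
  have e : v * (D.y' o y l * v * (D.y' o y l)⁻¹) *
      (D.y' o y l * (D.y' o y l * v * (D.y' o y l)⁻¹) * (D.y' o y l)⁻¹) =
      D.gS o l * (((D.gS o l)⁻¹ * v * D.gS o l) * (y * ((D.gS o l)⁻¹ * v * D.gS o l) * y⁻¹) *
        (y * (y * ((D.gS o l)⁻¹ * v * D.gS o l) * y⁻¹) * y⁻¹)) * (D.gS o l)⁻¹ := by
    unfold y'; group
  rw [e, h1]; group

theorem Six.y'_triv (h : D.Six o star y) {l m : ι} (h1 : m ≠ l) (h2 : m ≠ star l) {v : G}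
    (hv : v ∈ D.Xb star m) : D.y' o y l * v * (D.y' o y l)⁻¹ = v := by
  have h3 := D.conj_Xb h.perm (inv_mem (D.gS_mem (o := o) l)) hv
  rw [inv_inv] at h3
  have hgl := D.sg_inv (D.gS_mem l) (D.sg_gS (o := o) l)
  have hback : ∀ n, D.sg (D.gS o l) (D.sg (D.gS o l)⁻¹ n) = n := fun n => by
    rw [← D.sg_mul (D.gS_mem l) (inv_mem (D.gS_mem l)), mul_inv_cancel, D.sg_one]
  have h4 : D.sg (D.gS o l)⁻¹ m ≠ o := fun h0 => h1 (by rw [← hback m, h0, D.sg_gS])
  have h5 : D.sg (D.gS o l)⁻¹ m ≠ star o := fun h0 => h2 (by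
    rw [← hback m, h0, h.perm _ (D.gS_mem l), D.sg_gS])
  have h6 := h.y_triv D h4 h5 h3
  calc D.y' o y l * v * (D.y' o y l)⁻¹ =
      D.gS o l * (y * ((D.gS o l)⁻¹ * v * D.gS o l) * y⁻¹) * (D.gS o l)⁻¹ := by unfold y'; group
    _ = v := by rw [h6]; group

/-- `s y'_l s⁻¹ = y'_m^{±1}` on `E` if `m ∈ {s l, star (s l)}`. -/
theorem Six.y'_perm (h : D.Six o star y) {s : G} (hs : s ∈ (S : Subgroup G)) (l : ι) {m : ι}
    (hm : m = D.sg s l ∨ m = star (D.sg s l)) :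
    (∀ v ∈ zc (S0 (S : Subgroup G) Z), (s * D.y' o y l * s⁻¹) * v * (s * D.y' o y l * s⁻¹)⁻¹ =
      D.y' o y m * v * (D.y' o y m)⁻¹) ∨
    (∀ v ∈ zc (S0 (S : Subgroup G) Z), (s * D.y' o y l * s⁻¹) * v * (s * D.y' o y l * s⁻¹)⁻¹ =
      (D.y' o y m)⁻¹ * v * D.y' o y m) := by
  have hl := D.gS_mem (o := o) l
  have hm' := D.gS_mem (o := o) m
  have hr : (D.gS o m)⁻¹ * s * D.gS o l ∈ (S : Subgroup G) := mul_mem (mul_mem (inv_mem hm') hs) hl
  have hro : D.sg ((D.gS o m)⁻¹ * s * D.gS o l) o = D.sg (D.gS o m)⁻¹ (D.sg s l) := by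
    rw [D.sg_mul (mul_mem (inv_mem hm') hs) hl, D.sg_mul (inv_mem hm') hs, D.sg_gS]
  have hgm := D.sg_inv hm' (D.sg_gS (o := o) m)
  have key : ∀ v, (s * D.y' o y l * s⁻¹) * v * (s * D.y' o y l * s⁻¹)⁻¹ =
      D.gS o m * ((((D.gS o m)⁻¹ * s * D.gS o l) * y * ((D.gS o m)⁻¹ * s * D.gS o l)⁻¹) *
        ((D.gS o m)⁻¹ * v * D.gS o m) *
        (((D.gS o m)⁻¹ * s * D.gS o l) * y * ((D.gS o m)⁻¹ * s * D.gS o l)⁻¹)⁻¹) * (D.gS o m)⁻¹ := by
    intro v
    unfold y'; group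
  rcases hm with hm | hm
  · left
    intro v hv
    have h1 : D.sg ((D.gS o m)⁻¹ * s * D.gS o l) o = o := by rw [hro, ← hm, hgm]
    rw [key, h.comm _ hr h1 _ (conj_mem' (D.S_le_nor_E hm') hv)]
    unfold y'; group
  · right
    intro v hv
    have h1 : D.sg ((D.gS o m)⁻¹ * s * D.gS o l) o = star o := by
      have h2 : D.sg s l = star m := by rw [hm, h.inv]
      rw [hro, h2, h.perm _ (inv_mem hm'), hgm]
    rw [key, h.anti _ hr h1 _ (conj_mem' (D.S_le_nor_E hm') hv)]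
    unfold y'; group

include D in
theorem zz_ne (hne : ∀ l, star l ≠ l) (l : ι) : z l * z (star l) ≠ 1 := by
  intro h
  have h1 : z l = (z (star l))⁻¹ := eq_inv_of_mul_eq_one_left h
  have h2 : z l ∈ Z (star l) := by rw [h1]; exact inv_mem (D.zm _)
  exact D.z1 l (D.disjZ (hne l) h2 (D.zm l))

theorem zz_mem (h : D.Six o star y) (l : ι) : z l * z (star l) ∈ D.Xb star l := by
  refine mul_mem (D.mem_Xb_of_Z (D.z_mem_E l) (D.zm l)) ?_
  rw [← D.Xb_star h.inv]
  exact D.mem_Xb_of_Z (D.z_mem_E _) (D.zm _)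

include D in
theorem zz_comm (l m : ι) : z l * z m = z m * z l := zc_comm Q _ (D.le l (D.zm l)) _ (D.le m (D.zm m))

theorem sum_mem {X : Subgroup G} {K : Subgroup G} {κ : Type} (s : Finset κ) (f : κ → Md X)
    (h : ∀ i ∈ s, (f i).val ∈ K) : (∑ i ∈ s, f i).val ∈ K := by
  classical
  induction s using Finset.induction_on with
  | empty => simp
  | insert a s ha ih =>
    rw [Finset.sum_insert ha, Md.val_add]
    exact mul_mem (h a (Finset.mem_insert_self a s)) (ih fun i hi => h i (Finset.mem_insert_of_mem hi))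

/-- **the halved DATA (W).** -/
theorem Six.dat (h : D.Six o star y) :
    Dat S (S0 (S : Subgroup G) Z) (fun l : {l : ι // rep h.inv l = l} => D.Xb star l)
      (fun l => D.y' o y l) (fun l => z l * z (star l)) where
  QS := S0_le
  SC := D.inf_cE.le
  CQ := ((centralizer_le (D.Q_le_S0)).trans D.CQ).trans D.Q_le_S0
  xQ l := h.y'_nor D l
  le _ _ hv := hv.1
  sup := by
    have := Fintype.ofFinite ι
    intro v hv
    have h1 := D.pX_sum (hX := D.E_le) (h := D.pr_E) (Md.mk v hv)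
    have h2 : v = (∑ l, D.pX D.E_le D.pr_E l (Md.mk v hv)).val := by rw [h1]; rfl
    rw [h2]
    refine sum_mem _ _ fun l _ => ?_
    have h3 : (D.pX D.E_le D.pr_E l (Md.mk v hv)).val ∈ D.Xb star (rep h.inv l) := by
      rw [D.Xb_rep h.inv]
      exact D.mem_Xb_of_Z (Md.val_mem _) (D.pX_mem l _)
    exact le_iSup (fun l : {l : ι // rep h.inv l = l} => D.Xb star l) ⟨rep h.inv l, rep_rep h.inv l⟩ h3
  nor l v hv := h.y'_mem D hv
  three l v hv := h.y'_three D hv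
  triv := by
    intro l m hlm v hv
    refine h.y'_triv D (fun h0 => hlm (Subtype.ext h0.symm)) (fun h0 => hlm ?_) hv
    apply Subtype.ext
    rw [← l.2, ← m.2, h0, rep_star h.inv]
  perm := by
    intro s hs l
    refine ⟨⟨rep h.inv (D.sg s l), rep_rep h.inv _⟩, fun v hv => ?_, ?_⟩
    · change s * v * s⁻¹ ∈ D.Xb star (rep h.inv (D.sg s l))
      rw [D.Xb_rep h.inv]
      exact D.conj_Xb h.perm hs hv
    · exact h.y'_perm D hs l (rep_or h.inv _)
  trans := by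
    intro l m
    obtain ⟨s, hs, hsm⟩ := D.trans l m
    refine ⟨s, hs, fun v hv => ?_⟩
    have := D.conj_Xb h.perm hs hv
    rwa [D.sg_eq' hs hsm] at this
  zm l := D.zz_mem h l
  z1 l := D.zz_ne h.ne l
  zfix := by
    rintro ⟨l, hl⟩ v hv hfix
    change v ∈ D.Xb star l at hv
    change ∀ s ∈ (S : Subgroup G), (∀ w ∈ D.Xb star l, s * w * s⁻¹ ∈ D.Xb star l) → s * v * s⁻¹ = v at hfix
    change v = 1 ∨ v = z l * z (star l)
    have e := D.Xb_eq h.ne hv
    have ha : ThmC.pr (x l) v ∈ Z l := D.pi_mem l (Md.mk v (D.E_le hv.1))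
    have hb : ThmC.pr (x (star l)) v ∈ Z (star l) := D.pi_mem (star l) (Md.mk v (D.E_le hv.1))
    have hnor : ∀ s ∈ (S : Subgroup G), (D.sg s l = l ∨ D.sg s l = star l) → s * v * s⁻¹ = v := by
      intro s hs h1
      refine hfix s hs fun w hw => ?_
      have := D.conj_Xb h.perm hs hw
      rcases h1 with h1 | h1
      · rwa [h1] at this
      · rwa [h1, D.Xb_star h.inv] at this
    obtain ⟨t, ht, htl⟩ := D.trans l (star l)
    have ht1 := D.sg_eq' ht htl
    have h3 := D.pr_conj ht l (D.E_le hv.1)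
    rw [ht1, hnor t ht (Or.inr ht1)] at h3
    have h4 := D.zfix l _ ha (fun s hs hw => by
      have h5 := D.sg_eq' hs hw
      have h6 := D.pr_conj hs l (D.E_le hv.1)
      rw [h5, hnor s hs (Or.inl h5)] at h6
      exact h6)
    rcases h4 with h4 | h4
    · left
      rw [h4] at h3
      rw [e, h4, ← h3]; group
    · right
      rw [h4, D.z_conj ht, ht1] at h3
      rw [e, h4, ← h3]

theorem card_lt (h : D.Six o star y) : Nat.card {l : ι // rep h.inv l = l} < Nat.card ι := by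
  by_cases h1 : rep h.inv o = o
  · refine Finite.card_subtype_lt (x := star o) fun h2 => ?_
    rw [rep_star h.inv, h1] at h2
    exact h.ne o h2.symm
  · exact Finite.card_subtype_lt (x := o) h1

end six

end Dat

end Cfsg.Agent.Omega.ThmC
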