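import Cfsg.Agent.Omega.ThmC.TwoOut
import Cfsg.Agent.Omega.ThmC.TwoSix

/-!
# THEOREM C, case `q = 2` (bb OMEGA 15545, 16308)

`Dat.le_S` : `O₂(C_G(z o)) ≤ S`.   `stmt` : `Stmt G`.
-/

set_option autoImplicit false
set_option linter.unusedSectionVars false

namespace Cfsg.Agent.Omega.ThmC

open scoped Pointwise
open Subgroup Cfsg Cfsg.Agent.MinSimple.VModule
open Cfsg.Agent.ZN (zc o2)
open Cfsg.Agent.MinSimple.Geo (cj_o2 cj_centralizer_singleton conj_mem_cj cj)
open Cfsg.Agent.Omega.IITwo.Count (conj_mem conj_mem' mem_norm)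

universe u

variable {G : Type u} [Group G]

theorem conj_WW {g v w : G} (hw : w ∈ WW v) : g * w * g⁻¹ ∈ WW (g * v * g⁻¹) := by
  have h : cj g (WW v) = WW (g * v * g⁻¹) := by
    rw [WW, WW, cj_o2, cj_centralizer_singleton]
  rw [← h]
  exact conj_mem_cj hw

namespace Dat

variable {S : Sylow 2 G} {Q : Subgroup G} {ι : Type} {Z : ι → Subgroup G} {x z : ι → G}

theorem Res.six [Finite G] [Finite ι] {D : Dat S Q Z x z} {o q : ι} {w : G}
    {hw : w ∈ normalizer (S0 (S : Subgroup G) Z : Set G)} {star : ι → ι}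
    {τ : ↥(NG (S0 (S : Subgroup G) Z))} (r : D.Res o q hw star τ) {s : G} (hs : s ∈ (S : Subgroup G))
    (hτ : phi (D.S_le_nor_E hs) = τ) : D.Six o star (w * s) := by
  have hy : w * s ∈ normalizer (S0 (S : Subgroup G) Z : Set G) := mul_mem hw (D.S_le_nor_S0 hs)
  have hY : phi (norE hw) * τ = phi (norE hy) := by rw [← hτ, phi_mul]
  have hso : D.sg s o = star o := by
    have := r.map
    rwa [← hτ, D.sN_phi hs] at this
  refine ⟨r.ne, r.inv, r.perm, hy, ?_, ?_, ?_, ?_, ?_⟩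
  · intro l h1 h2 v hv
    have h3 := r.tr l h1 h2 (Md.mk v hv)
    rw [hY] at h3
    exact congrArg Md.val h3
  · intro l h1 h2 v hv
    have h3 := r.pr l h1 h2 (Md.mk v hv)
    rw [hY] at h3
    exact congrArg Md.val h3
  · intro v hv h0
    have hv' : v ∈ D.Xb star o := ⟨hv, h0⟩
    have e := D.Xb_eq r.ne hv'
    have h3 := r.three (Md.mk v hv) (Md.ext e.symm)
    rw [hY] at h3
    exact congrArg Md.val h3
  · intro t ht hto v hv
    have h3 := r.comm _ (D.mem_TT.mpr ⟨t, ht, rfl⟩) (by rw [D.sN_phi ht, hto])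
    rw [hY] at h3
    have h4 : phi (D.S_le_nor_E ht) * phi (norE hy) * (phi (D.S_le_nor_E ht))⁻¹ = phi (norE hy) := by
      rw [h3]; group
    rw [phi_mul, phi_inv, phi_mul, phi_eq_iff] at h4
    exact h4 v hv
  · intro t ht hto v hv
    -- `t = (t s⁻¹) s`
    have hts : t * s⁻¹ ∈ (S : Subgroup G) := mul_mem ht (inv_mem hs)
    have hts2 : D.sg (t * s⁻¹) o = o := by
      have h1 : D.sg (t * s⁻¹) (star o) = star o := by
        rw [D.sg_mul ht (inv_mem hs), D.sg_inv hs hso, hto]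
      rw [r.perm _ hts] at h1
      rw [← r.inv (D.sg (t * s⁻¹) o), h1, r.inv]
    have h3 := r.comm _ (D.mem_TT.mpr ⟨t * s⁻¹, hts, rfl⟩) (by rw [D.sN_phi hts, hts2])
    have h4 := r.tinv
    have h5 := r.sq
    rw [hY] at h3 h4
    have h6 : phi (D.S_le_nor_E ht) = phi (D.S_le_nor_E hts) * τ := by
      rw [← hτ, phi_mul, phi_eq_iff]
      intro v _; group
    have h7 : τ⁻¹ = τ := inv_eq_of_mul_eq_one_right h5
    have h8 : phi (D.S_le_nor_E ht) * phi (norE hy) * (phi (D.S_le_nor_E ht))⁻¹ = (phi (norE hy))⁻¹ := by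
      rw [h6, mul_inv_rev, h7]
      calc phi (D.S_le_nor_E hts) * τ * phi (norE hy) * (τ * (phi (D.S_le_nor_E hts))⁻¹) =
          phi (D.S_le_nor_E hts) * (τ * phi (norE hy) * τ) * (phi (D.S_le_nor_E hts))⁻¹ := by group
        _ = phi (D.S_le_nor_E hts) * (phi (norE hy))⁻¹ * (phi (D.S_le_nor_E hts))⁻¹ := by rw [h4]
        _ = (phi (D.S_le_nor_E hts) * phi (norE hy) * (phi (D.S_le_nor_E hts))⁻¹)⁻¹ := by group
        _ = (phi (norE hy))⁻¹ := by rw [h3]; group
    rw [phi_mul, phi_inv, phi_mul, phi_inv, phi_eq_iff] at h8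
    have := h8 v hv
    rw [this]; group

/-- **C'(k)** : `O₂(C_G(z o)) ≤ S`. -/
theorem le_S [Finite G] : ∀ (n : ℕ) (Q : Subgroup G) (ι : Type) (_ : Finite ι) (Z : ι → Subgroup G) (x z : ι → G),
    Nat.card ι = n → Dat S Q Z x z → ∀ o, WW (z o) ≤ (S : Subgroup G) := by
  intro n
  induction n using Nat.strong_induction_on with
  | _ n ih =>
  intro Q ι _ Z x z hn D o
  have := Fintype.ofFinite ι
  by_contra hne
  obtain ⟨q, w, hw, hwN, star, τ, r, w1, hw1, w2, hw2, n1, n2, n3⟩ := D.step hne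
  obtain ⟨s, hs, hτ⟩ := D.mem_TT.mp r.mem
  have h6 := r.six hs hτ
  have hso : D.sg s o = q := by
    have := r.map
    rwa [← hτ, D.sN_phi hs, r.so] at this
  have hsq : D.sg s q = o := by rw [← r.so, r.perm s hs, hso, ← r.so, r.inv]
  -- induction
  have hWb : WW (z o * z q) ≤ (S : Subgroup G) := by
    have h1 := ih (Nat.card {l : ι // rep h6.inv l = l}) (by rw [← hn]; exact D.card_lt h6) _ _ inferInstance _ _ _ rfl
      h6.dat ⟨rep h6.inv o, rep_rep h6.inv o⟩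
    change WW (z (rep h6.inv o) * z (star (rep h6.inv o))) ≤ _ at h1
    rcases rep_or h6.inv o with h | h
    · rwa [h, r.so] at h1
    · rwa [h, r.inv, r.so, D.zz_comm] at h1
  -- the conjugating element
  have ez : s * z o * s⁻¹ = z q := by rw [D.z_conj hs, hso]
  have ezq : s * z q * s⁻¹ = z o := by rw [D.z_conj hs, hsq]
  have ew : w * z o * w⁻¹ = z o := mem_cs'.mp (WW_le _ hw)
  have ewq : w * z q * w⁻¹ = z o * z q := by
    have h1 := r.zo
    rw [← hτ, r.so] at h1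
    have h2 := congrArg Md.val h1
    rw [Md.val_add, val_zE, val_zE] at h2
    have h3 : (((phi (norE hwN) * phi (D.S_le_nor_E hs)) • D.zE o).val : G) = w * (s * z o * s⁻¹) * w⁻¹ := by
      rw [mul_smul]; rfl
    rw [h3, ez] at h2
    exact h2
  set g := s * w * s⁻¹ with hg
  have es : s⁻¹ * z q * s = z o := by rw [← ez]; group
  have es' : s⁻¹ * z o * s = z q := by rw [← ezq]; group
  have hgq : g * z q * g⁻¹ = z q := by
    calc g * z q * g⁻¹ = s * (w * (s⁻¹ * z q * s) * w⁻¹) * s⁻¹ := by rw [hg]; group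
      _ = z q := by rw [es, ew, ez]
  have hgo : g * z o * g⁻¹ = z o * z q := by
    calc g * z o * g⁻¹ = s * (w * (s⁻¹ * z o * s) * w⁻¹) * s⁻¹ := by rw [hg]; group
      _ = s * (z o * z q) * s⁻¹ := by rw [es', ewq]
      _ = (s * z o * s⁻¹) * (s * z q * s⁻¹) := by group
      _ = z o * z q := by rw [ez, ezq, D.zz_comm]
  have hqo : q ≠ o := by
    intro h
    have h1 := r.ne o
    rw [r.so] at h1
    exact h1 h
  -- the orbit of `z q` under `W_b`
  have orb : ∀ u ∈ (S : Subgroup G), u * (z o * z q) * u⁻¹ = z o * z q → u * z q * u⁻¹ = z o ∨ u * z q * u⁻¹ = z q := by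
    intro u hu hf
    rw [D.z_conj hu]
    by_cases h1 : D.sg u q = o
    · left; rw [h1]
    by_cases h2 : D.sg u q = q
    · right; rw [h2]
    exfalso
    have h3 : z (D.sg u o) * z (D.sg u q) = z o * z q := by
      rw [← D.z_conj hu, ← D.z_conj hu, ← hf]; group
    have h4 : D.sg u q ≠ D.sg u o := by
      intro h
      apply hqo
      have := congrArg (D.sg u⁻¹) h
      rwa [← D.sg_mul (inv_mem hu) hu, ← D.sg_mul (inv_mem hu) hu, inv_mul_cancel, D.sg_one, D.sg_one] at this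
    have h5 := congrArg (ThmC.pr (x (D.sg u q))) h3
    rw [pr_mul (D.xN _) (D.le _ (D.zm _)) (D.le _ (D.zm _)), pr_mul (D.xN _) (D.le _ (D.zm _)) (D.le _ (D.zm _)),
      D.pr_other h4 (D.zm _), D.pr_self (D.zm _), D.pr_other h1 (D.zm _), D.pr_other h2 (D.zm _), one_mul,
      one_mul] at h5
    exact D.z1 _ h5
  have key : ∀ w' ∈ WW (z o), w' * z q * w'⁻¹ ≠ z q → w' * z q * w'⁻¹ = g⁻¹ * z o * g := by
    intro w' hw' hne'
    have h1 := conj_WW (g := g) hw'
    rw [hgo] at h1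
    have h2 := orb _ (hWb h1) (mem_cs'.mp (WW_le _ h1))
    have h3 : g * w' * g⁻¹ * z q * (g * w' * g⁻¹)⁻¹ = g * (w' * z q * w'⁻¹) * g⁻¹ := by
      calc g * w' * g⁻¹ * z q * (g * w' * g⁻¹)⁻¹ = g * w' * (g⁻¹ * z q * g) * w'⁻¹ * g⁻¹ := by group
        _ = g * w' * (g⁻¹ * (g * z q * g⁻¹) * g) * w'⁻¹ * g⁻¹ := by rw [hgq]
        _ = _ := by group
    rw [h3] at h2
    rcases h2 with h2 | h2
    · rw [← h2]; group
    · exfalso
      apply hne'
      calc w' * z q * w'⁻¹ = g⁻¹ * (g * (w' * z q * w'⁻¹) * g⁻¹) * g := by group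
        _ = g⁻¹ * (g * z q * g⁻¹) * g := by rw [h2, hgq]
        _ = z q := by group
  exact n3 ((key w1 hw1 n1).trans (key w2 hw2 n2).symm)

end Dat

/-- **THEOREM C for `q = 2`.** -/
theorem stmt [Finite G] : Stmt G := by
  intro S Q ι _ Z x z D i l hil
  have h1 := Dat.le_S (S := S) _ Q ι ‹_› Z x z rfl D i
  have h2 : WW (z i) ≤ S0 (S : Subgroup G) Z := (le_inf le_rfl h1).trans D.inf_le_S0
  exact h2.trans D.S0_le_C

/-- the stronger form: `O₂(C_G(z i)) ≤ S⁰`. -/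
theorem Dat.o2_le_S0 [Finite G] {S : Sylow 2 G} {Q : Subgroup G} {ι : Type} [Finite ι] {Z : ι → Subgroup G}
    {x z : ι → G} (D : Dat S Q Z x z) (i : ι) : o2 (centralizer {z i}) ≤ S0 (S : Subgroup G) Z :=
  (le_inf le_rfl (Dat.le_S (S := S) _ Q ι ‹_› Z x z rfl D i)).trans D.inf_le_S0

end Cfsg.Agent.Omega.ThmC
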