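import Cfsg.Agent.Omega.ThmC.TwoStep

/-!
# THEOREM C, `q = 2`, steps (2)-(5) at the level of `G`

`Dat.out` : `TwoN.main` for an element `w ∈ W ∩ N(S⁰)`; `Dat.step` : the outcome of (2)-(5).
-/

set_option autoImplicit false
set_option linter.unusedSectionVars false

namespace Cfsg.Agent.Omega.ThmC

open scoped Pointwise
open Subgroup Cfsg Cfsg.Agent.MinSimple.VModule
open Cfsg.Agent.ZN (zc o2)
open Cfsg.Agent.Omega.IITwo.Count (conj_mem conj_mem' mem_norm)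

universe u

variable {G : Type u} [Group G]

/-- `N(S⁰) ≤ N(E)`. -/
theorem norE {S : Sylow 2 G} {ι : Type} {Z : ι → Subgroup G} {w : G}
    (h : w ∈ normalizer (S0 (S : Subgroup G) Z : Set G)) :
    w ∈ normalizer (zc (S0 (S : Subgroup G) Z) : Set G) := normalizer_le_normalizer_zc _ h

namespace Dat

variable {S : Sylow 2 G} {Q : Subgroup G} {ι : Type} {Z : ι → Subgroup G} {x z : ι → G}

/-- the outcome of (2)-(5) for the element `w` of `W ∩ N(S⁰)`, at the level of `N = N_G(E)/C_G(E)`. -/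
structure Res [Finite G] [Finite ι] (D : Dat S Q Z x z) (o q : ι) {w : G}
    (hw : w ∈ normalizer (S0 (S : Subgroup G) Z : Set G)) (star : ι → ι)
    (τ : ↥(NG (S0 (S : Subgroup G) Z))) : Prop where
  so : star o = q
  ne : ∀ l, star l ≠ l
  inv : ∀ l, star (star l) = l
  perm : ∀ s ∈ (S : Subgroup G), ∀ l, D.sg s (star l) = star (D.sg s l)
  mem : τ ∈ (D.TT : Subgroup ↥(NG (S0 (S : Subgroup G) Z)))
  map : D.sN τ o = star o
  sq : τ * τ = 1
  tr : ∀ l, l ≠ o → l ≠ star o → ∀ a : Md (S0 (S : Subgroup G) Z), (phi (norE hw) * τ) • D.pE l a = D.pE l a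
  pr : ∀ l, l ≠ o → l ≠ star o → ∀ a : Md (S0 (S : Subgroup G) Z), D.pE l ((phi (norE hw) * τ) • a) = D.pE l a
  three : ∀ a : Md (S0 (S : Subgroup G) Z), D.pE o a + D.pE (star o) a = a →
    a + (phi (norE hw) * τ) • a + (phi (norE hw) * τ) • (phi (norE hw) * τ) • a = 0
  comm : ∀ s ∈ (D.TT : Subgroup ↥(NG (S0 (S : Subgroup G) Z))), D.sN s o = o →
    s * (phi (norE hw) * τ) = (phi (norE hw) * τ) * s
  tinv : τ * (phi (norE hw) * τ) * τ = (phi (norE hw) * τ)⁻¹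
  zo : (phi (norE hw) * τ) • D.zE o = D.zE o + D.zE (star o)
  zs : (phi (norE hw) * τ) • D.zE (star o) = D.zE o

section
variable [Finite G] [Finite ι] (D : Dat S Q Z x z) {o : ι}

theorem img_mono {X Y Y' : Subgroup G} (h : Y ≤ Y') : img X Y ≤ img X Y' := by
  intro n hn
  obtain ⟨g, hg, hgY, rfl⟩ := mem_img.mp hn
  exact phi_mem_img hg (h hgY)

theorem out [Fintype ι] {w : G} (hw : w ∈ WW (z o)) (hwN : w ∈ normalizer (S0 (S : Subgroup G) Z : Set G))
    (h1 : phi (norE hwN) ≠ 1) (h2 : ∀ a : Md (S0 (S : Subgroup G) Z), phi (norE hwN) • phi (norE hwN) • a = a) (p q : ι) (hpq : p ≠ q)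
    (hs1 : ∀ l, l ≠ p → l ≠ q → ∀ a : Md (S0 (S : Subgroup G) Z), phi (norE hwN) • D.pE l a = D.pE l a)
    (hs2 : ∀ l, l ≠ p → l ≠ q → ∀ a : Md (S0 (S : Subgroup G) Z), D.pE l (phi (norE hwN) • a) = D.pE l a)
    (alt : p = o ∨ (p ≠ o ∧ q ≠ o ∧ ∃ a : Md (S0 (S : Subgroup G) Z), a ≠ 0 ∧ (D.pE p a = a ∨ D.pE q a = a) ∧
      phi (norE hwN) • a = a)) :
    p = o ∧ ∃ star τ, D.Res o q hwN star τ := by
  set T : Subgroup G := (S : Subgroup G) ⊓ centralizer {z o} with hT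
  have hTn : T ≤ normalizer (WW (z o) : Set G) := inf_le_right.trans (le_nor_WW _)
  have hR : IsPGroup 2 ↥(T ⊔ WW (z o)) :=
    (S.2.to_le inf_le_left : IsPGroup 2 T).to_sup_of_normal_right' (WW_two _) hTn
  have hC : T ⊔ WW (z o) ≤ centralizer {z o} := sup_le inf_le_right (WW_le _)
  obtain ⟨star, τ, e1, e2, e3, e4, e5, e6, e7, e8, e9, e10, e11, e12, e13, e14, e15, e16⟩ :=
    TwoN.main D.ndat o (img _ (T ⊔ WW (z o))) (img _ (WW (z o))) (img_isPGroup hR)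
      (by
        intro n hn hno
        obtain ⟨s, hs, rfl⟩ := D.mem_TT.mp hn
        rw [D.sN_phi hs] at hno
        exact phi_mem_img _ (le_sup_left (α := Subgroup G) (mem_inf.mpr ⟨hs, (D.sg_iff_z hs).mp hno⟩)))
      (img_mono le_sup_right)
      (by
        intro n hn hno m hm
        obtain ⟨s, hs, rfl⟩ := D.mem_TT.mp hn
        obtain ⟨g, hg, hgW, rfl⟩ := mem_img.mp hm
        rw [D.sN_phi hs] at hno
        rw [phi_mul, phi_inv, phi_mul]
        exact phi_mem_img _ (conj_mem (hTn (mem_inf.mpr ⟨hs, (D.sg_iff_z hs).mp hno⟩)) hgW))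
      (by
        intro r hr
        obtain ⟨g, hg, hgT, rfl⟩ := mem_img.mp hr
        apply Md.ext
        rw [val_phi, val_zE]
        exact mem_cs'.mp (hC hgT))
      (phi (norE hwN)) (phi_mem_img _ hw) h1 h2 p q hpq hs1 hs2 alt
  refine ⟨e1, star, τ, ⟨e2, e3, e4, ?_, e6, e7, e8, e10, e11, e12, e13, e14, e15, e16⟩⟩
  intro s hs l
  have := e5 _ (D.mem_TT.mpr ⟨s, hs, rfl⟩) l
  rwa [D.sN_phi hs, D.sN_phi hs] at this

/-- a lift of `b`, a fixed point of `S⁰` in `B`. -/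
theorem out_of [Fintype ι] {B : Subgroup ↥(NG (KQ S Q (z o)))}
    (hBH : B ≤ img (KQ S Q (z o)) (Wp S Q (z o))) (hB2 : ∀ b ∈ B, b * b = 1) {p q : ι} (hpq : p ≠ q)
    (hs1 : ∀ b ∈ B, ∀ l, l ≠ p → l ≠ q → ∀ a : Md (KQ S Q (z o)), b • D.pK o l a = D.pK o l a)
    (hs2 : ∀ b ∈ B, ∀ l, l ≠ p → l ≠ q → ∀ a : Md (KQ S Q (z o)), D.pK o l (b • a) = D.pK o l a)
    (alt : p = o ∨ (p ≠ o ∧ q ≠ o ∧ ∃ a : Md (KQ S Q (z o)), a ≠ 0 ∧ (D.pK o p a = a ∨ D.pK o q a = a) ∧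
      (∀ u ∈ img (KQ S Q (z o)) (S0 (S : Subgroup G) Z), u • a = a) ∧ ∀ b ∈ B, b • a = a))
    {b : ↥(NG (KQ S Q (z o)))} (hb : b ∈ B) (hb1 : b ≠ 1)
    (hbU : ∀ u : ↥(NG (KQ S Q (z o))), u ∈ img (KQ S Q (z o)) (S0 (S : Subgroup G) Z) → u * b * u⁻¹ = b) :
    ∃ (w : G) (hw : w ∈ Wp S Q (z o)) (hwN : w ∈ normalizer (S0 (S : Subgroup G) Z : Set G)),
      phi (Wp_nor_ZK hw) = b ∧ p = o ∧ ∃ star τ, D.Res o q hwN star τ := by
  obtain ⟨w, hwK, hw, rfl⟩ := mem_img.mp (hBH hb)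
  have hwN : w ∈ normalizer (S0 (S : Subgroup G) Z : Set G) := D.nor_S0_of hw hbU
  have hval : ∀ v ∈ zc (S0 (S : Subgroup G) Z), v ∈ zc (KQ S Q (z o)) := fun v hv => D.E_le_ZK hv
  refine ⟨w, hw, hwN, rfl, D.out (Wp_le hw) hwN ?_ ?_ p q hpq ?_ ?_ ?_⟩
  · intro h0
    rw [phi_eq_one_iff] at h0
    have hc2 : ∃ n : ℕ, w ^ 2 ^ n = 1 := by
      obtain ⟨n, hn⟩ := WW_two (z o) ⟨w, Wp_le hw⟩
      exact ⟨n, congrArg Subtype.val hn⟩
    have h1 := D.mem_S0_of hc2 h0 hwN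
    apply hb1
    rw [phi_eq_one_iff]
    exact D.K_le_C (mem_inf.mpr ⟨Wp_le hw, S0_le h1⟩)
  · intro a
    have h1 := hB2 _ hb
    rw [phi_mul, phi_eq_one_iff, mem_centralizer_iff] at h1
    have h2 := h1 _ (hval _ a.val_mem)
    apply Md.ext
    rw [val_phi, val_phi]
    calc w * (w * a.val * w⁻¹) * w⁻¹ = (w * w) * a.val * (w * w)⁻¹ := by group
      _ = a.val := by rw [← h2]; group
  · intro l hl hl' a
    apply Md.ext
    rw [val_phi, val_pX]
    exact congrArg Md.val (hs1 _ hb l hl hl' (Md.mk a.val (hval _ a.val_mem)))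
  · intro l hl hl' a
    apply Md.ext
    rw [val_pX, val_phi, val_pX]
    exact congrArg Md.val (hs2 _ hb l hl hl' (Md.mk a.val (hval _ a.val_mem)))
  · rcases alt with h | ⟨h1, h2, a, ha0, ha1, ha2, ha3⟩
    · exact Or.inl h
    · right
      refine ⟨h1, h2, ?_⟩
      have haE : a.val ∈ zc (S0 (S : Subgroup G) Z) := by
        rw [D.mem_E]
        refine ⟨D.ZK_le a.val_mem, fun s hs => ?_⟩
        have h3 := congrArg Md.val (ha2 _ (phi_mem_img (D.S0_nor_ZK hs) hs))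
        rw [val_phi] at h3
        exact mul_inv_eq_iff_eq_mul.mp h3
      refine ⟨Md.mk a.val haE, fun h => ha0 ?_, ?_, ?_⟩
      · have h4 : a.val = 1 := congrArg Md.val h
        exact Md.val_eq_one.mp h4
      · rcases ha1 with h3 | h3
        · have h4 := congrArg Md.val h3
          exact Or.inl (Md.ext h4)
        · have h4 := congrArg Md.val h3
          exact Or.inr (Md.ext h4)
      · have h4 := congrArg Md.val (ha3 _ hb)
        exact Md.ext h4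

/-- **Outcome of (2)-(5).** -/
theorem step [Fintype ι] (h : ¬ WW (z o) ≤ (S : Subgroup G)) :
    ∃ (q : ι) (w : G) (_ : w ∈ WW (z o)) (hwN : w ∈ normalizer (S0 (S : Subgroup G) Z : Set G))
      (star : ι → ι) (τ : ↥(NG (S0 (S : Subgroup G) Z))), D.Res o q hwN star τ ∧
      ∃ w1 ∈ WW (z o), ∃ w2 ∈ WW (z o), w1 * z q * w1⁻¹ ≠ z q ∧ w2 * z q * w2⁻¹ ≠ z q ∧
        w1 * z q * w1⁻¹ ≠ w2 * z q * w2⁻¹ := by
  have hH : img (KQ S Q (z o)) (Wp S Q (z o)) ≠ ⊥ := by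
    intro h0
    obtain ⟨w, hw, hwS⟩ := D.exists_Wp h
    have h1 : phi (Wp_nor_ZK hw) = 1 := by
      rw [← mem_bot, ← h0]
      exact phi_mem_img _ hw
    rw [phi_eq_one_iff] at h1
    exact hwS (mem_inf.mp (D.Wp_faith hw h1)).2
  obtain ⟨B, p, q, hBH, hBne, hpq, hB2, hBU, hs1, hs2, alt⟩ := TwoW.main D.wdat hH
  have hB : IsPGroup 2 B := fun b => ⟨1, Subtype.ext (by
    have := hB2 b b.2
    simpa [pow_two] using this)⟩
  have hU : IsPGroup 2 (img (KQ S Q (z o)) (S0 (S : Subgroup G) Z)) := img_isPGroup (S.2.to_le S0_le)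
  have alt' : p = o ∨ (p ≠ o ∧ q ≠ o ∧ ∃ a : Md (KQ S Q (z o)), a ≠ 0 ∧ (D.pK o p a = a ∨ D.pK o q a = a) ∧
      (∀ u ∈ img (KQ S Q (z o)) (S0 (S : Subgroup G) Z), u • a = a) ∧ ∀ b ∈ B, b • a = a) := by
    rcases alt with h | h
    · exact Or.inl h.1
    · exact Or.inr h
  obtain ⟨b, hb, hb1, hbU⟩ := Half.exists_fixed hB hBne hU (fun u hu => mem_norm (hBU u hu))
  obtain ⟨w, hw, hwN, hwb, hpo, star, τ, hres⟩ := D.out_of hBH hB2 hpq hs1 hs2 alt' hb hb1 hbU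
  have hx : ∀ b ∈ B, D.xh o q * b * (D.xh o q)⁻¹ ∈ B ∧ (D.xh o q * b * (D.xh o q)⁻¹ = b → b = 1) := by
    rcases alt with h | h
    · exact h.2
    · exact absurd hpo h.1
  -- no `b ≠ 1` fixes `z q`
  set zK : Md (KQ S Q (z o)) := Md.mk (z q) (D.E_le_ZK (D.z_mem_E q)) with hzK
  have hC : ∀ b ∈ B, b • zK = zK → b = 1 := by
    let C : Subgroup ↥(NG (KQ S Q (z o))) := B ⊓ MulAction.stabilizer _ zK
    have hCb : C = ⊥ := by
      by_contra hne
      have hCU : img (KQ S Q (z o)) (S0 (S : Subgroup G) Z) ≤ normalizer (C : Set ↥(NG (KQ S Q (z o)))) := by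
        intro u hu
        refine mem_norm fun c hc => ?_
        rw [mem_inf] at hc ⊢
        refine ⟨hBU u hu c hc.1, ?_⟩
        have hfix : ∀ u ∈ img (KQ S Q (z o)) (S0 (S : Subgroup G) Z), u • zK = zK := by
          intro u hu
          obtain ⟨s, hsN, hs, rfl⟩ := mem_img.mp hu
          apply Md.ext
          rw [val_phi]
          exact mem_cs'.mp (D.S0_le_C (o := q) hs)
        rw [MulAction.mem_stabilizer_iff, mul_smul, mul_smul, hfix _ (inv_mem hu),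
          MulAction.mem_stabilizer_iff.mp hc.2, hfix _ hu]
      obtain ⟨c, hc, hc1, hcU⟩ := Half.exists_fixed (V := C) (hB.to_le inf_le_left) hne hU hCU
      rw [mem_inf] at hc
      obtain ⟨w', hw', hwN', hwb', -, star', τ', r⟩ := D.out_of hBH hB2 hpq hs1 hs2 alt' hc.1 hc1 hcU
      have h1 := r.zo
      rw [r.so, mul_smul] at h1
      have h2 : τ' • D.zE o = D.zE q := by
        obtain ⟨s, hs, hsτ⟩ := D.mem_TT.mp r.mem
        have h3 := r.map
        rw [← hsτ, D.sN_phi hs, r.so] at h3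
        rw [← hsτ]
        apply Md.ext
        rw [val_phi, val_zE, val_zE, D.z_conj hs, h3]
      have h4 : phi (norE hwN') • D.zE q = D.zE q := by
        have h5 := MulAction.mem_stabilizer_iff.mp hc.2
        rw [← hwb'] at h5
        have h6 := congrArg Md.val h5
        exact Md.ext h6
      rw [h2, h4] at h1
      exact D.zE_ne o (by simpa using h1.symm)
    intro b hb hbz
    have : b ∈ C := mem_inf.mpr ⟨hb, MulAction.mem_stabilizer_iff.mpr hbz⟩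
    rw [hCb] at this
    exact this
  refine ⟨q, w, Wp_le hw, hwN, star, τ, hres, ?_⟩
  obtain ⟨hb', hb'1⟩ := hx b hb
  set b' := D.xh o q * b * (D.xh o q)⁻¹ with hb'd
  obtain ⟨w2, hw2K, hw2, hw2b⟩ := mem_img.mp (hBH hb')
  have hne : b' ≠ b := fun h => hb1 (hb'1 h)
  have hb'ne : b' ≠ 1 := by
    intro h
    apply hb1
    have : b = (D.xh o q)⁻¹ * b' * D.xh o q := by rw [hb'd]; group
    rw [this, h]; group
  have hv : ∀ {g : G} (hg : g ∈ normalizer (zc (KQ S Q (z o)) : Set G)), (phi hg • zK).val = g * z q * g⁻¹ :=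
    fun hg => rfl
  refine ⟨w, Wp_le hw, w2, Wp_le hw2, fun h => ?_, fun h => ?_, fun h => ?_⟩
  · apply hb1
    apply hC b hb
    rw [← hwb]
    exact Md.ext (by rw [hv, h]; rfl)
  · apply hb'ne
    apply hC b' hb'
    rw [← hw2b]
    exact Md.ext (by rw [hv, h]; rfl)
  · apply hne
    have h5 : b⁻¹ * b' = 1 := by
      apply hC _ (mul_mem (inv_mem hb) hb')
      rw [mul_smul, inv_smul_eq_iff, ← hwb, ← hw2b]
      exact Md.ext (by rw [hv, hv, h])
    exact (inv_mul_eq_one.mp h5).symm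

end

end Dat

end Cfsg.Agent.Omega.ThmC
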