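import Cfsg.Agent.Omega.ThmC.FourField

/-!
# THEOREM C, `q ≥ 4`: the data `Four.Dat` from a minimal parabolic (helper334)

`exists_dat`: for `M : NatK F S P (zl S P) ⊥ k` with `4 ≤ |F|` there are `h : Fin k → G` and a prime `p` with
`Four.Dat S (LS M) (line M) h p`; moreover the `h l` normalise `S^L` and all lines.
-/

set_option autoImplicit false
set_option linter.unusedSectionVars false

namespace Cfsg.Agent.Omega.ThmC.FourOf

open Subgroup Cfsg Cfsg.Agent.ZN Cfsg.Agent.Omega.IId Cfsg.Agent.Omega.ThmC.Four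
open Cfsg.Agent.ZN.ChoiceBase hiding mem_zc
open Cfsg.Agent.Omega.MinPar Cfsg.Agent.Omega.FFThm
open Cfsg.Agent.MinSimple.VModule (le_normalizer_zl mem_zc zc_le zc_le_zl)
open Cfsg.Agent.Lib.SL2Mat
open Cfsg.Agent.Omega.NatPair (ap ap_mul ap_one ap_inv_ap ap_ap_inv exists_ap ap_add ap_inj ap_smul)

universe u

variable {G : Type u} [Group G] [Finite G] {F : Type} [Field F] [Finite F] [CharP F 2] {S : Sylow 2 G}
  {P : Subgroup G} {k : ℕ}

/-- The torus elements. -/
structure Tor (M : NatK F (S : Subgroup G) P (zl (S : Subgroup G) P) ⊥ k) (t : F) (p : ℕ) (h : Fin k → G) : Prop where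
  prime : p.Prime
  odd : p ≠ 2
  ne_one : t ≠ 1
  pow : t ^ p = 1
  ne_zero : t ≠ 0
  field : ∀ (τ : F ≃+* F) (n : ℕ), τ ^ 2 ^ n = 1 → τ t = t → τ = 1
  mem : ∀ l, h l ∈ P
  nor : ∀ l, h l ∈ normalizer (LS M : Set G)
  act : ∀ l, ActsSL M.e (zl (S : Subgroup G) P) ⊥ (h l) (Function.update 1 l (dg t ne_zero))

variable {M : NatK F (S : Subgroup G) P (zl (S : Subgroup G) P) ⊥ k} {t : F} {p : ℕ} {h : Fin k → G}

theorem exists_tor (hc : IsCharacteristicTwoType G) (hP : IsParS (S : Subgroup G) P) (hF : 4 ≤ Nat.card F) :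
    ∃ (t : F) (p : ℕ) (h : Fin k → G), Tor M t p h := by
  classical
  obtain ⟨p, t, hp, hp2, ht1, htp, hf⟩ := exists_t hF
  have ht0 : t ≠ 0 := by
    rintro rfl
    rw [zero_pow hp.ne_zero] at htp
    exact zero_ne_one htp
  have key : ∀ l : Fin k, ∃ g : G, g ∈ P ∧ g ∈ normalizer (LS M : Set G) ∧
      ActsSL M.e (zl (S : Subgroup G) P) ⊥ g (Function.update 1 l (dg t ht0)) := by
    intro l
    obtain ⟨g, hg, hgn, hga⟩ := exists_norm hc hP (M := M) (Function.update 1 l (dg t ht0)) fun i => by
      by_cases hi : i = l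
      · rw [hi, Function.update_self, dg_10]
      · rw [Function.update_of_ne hi, Pi.one_apply]
        simp
    exact ⟨g, hg, hgn, hga⟩
  choose h h1 h2 h3 using key
  exact ⟨t, p, h, ⟨hp, hp2, ht1, htp, ht0, hf, h1, h2, h3⟩⟩

omit [Finite G] in
theorem conj_mem_cj' {g x : G} {X : Subgroup G} (hx : x ∈ X) : g * x * g⁻¹ ∈ cj g X := by
  rw [mem_cj]
  have e : g⁻¹ * (g * x * g⁻¹) * g = x := by group
  rwa [e]

/-- membership in the normaliser, finite case -/
theorem mem_norm_of_le {X : Subgroup G} {g : G} (hg : ∀ x ∈ X, g * x * g⁻¹ ∈ X) : g ∈ normalizer (X : Set G) := by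
  rw [mem_normalizer_iff_cj]
  refine eq_of_le_of_card_ge ?_ (card_cj g X).ge
  intro x hx
  rw [mem_cj] at hx
  have := hg _ hx
  have e : g * (g⁻¹ * x * g) * g⁻¹ = x := by group
  rwa [e] at this

namespace Tor

variable (T : Tor M t p h)

include T

theorem mem_grp (l : Fin k) : h l ∈ grp M {l} :=
  ⟨T.mem l, _, T.act l, fun _ hi => Function.update_of_ne hi _ _⟩

theorem e_line {l : Fin k} {v : G} (hv : v ∈ line M l) : M.e (h l * v * (h l)⁻¹) l = t • M.e v l := by
  rw [(T.act l).1 v hv.1.1 l, Function.update_self]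
  have h1 := ((mem_line M).1 hv).2
  apply NatPair.ext2
  · rw [NatPair.ap_zero', dg_00, dg_01, h1]; simp
  · rw [NatPair.ap_one', dg_10, dg_11, h1]; simp [h1]

theorem mem_nor (l m : Fin k) : h l ∈ normalizer (line M m : Set G) := by
  refine mem_norm_of_le fun v hv => ?_
  have h1 : h l * v * (h l)⁻¹ ∈ fac M m :=
    (mem_normalizer_iff.1 (grp_normalizes M {l} {m} (T.mem_grp l)) v).1 hv.1
  refine (mem_line M).2 ⟨h1, ?_⟩
  rw [(T.act l).1 v hv.1.1 m]
  by_cases hm : m = l
  · subst hm
    rw [Function.update_self, NatPair.ap_one', dg_10, dg_11, ((mem_line M).1 hv).2]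
    ring
  · rw [Function.update_of_ne hm, Pi.one_apply, ap_one]
    exact ((mem_line M).1 hv).2

theorem comm_fac {l m : Fin k} (hlm : l ≠ m) {v : G} (hv : v ∈ fac M l) : h m * v = v * h m :=
  grp_comm M (Set.disjoint_singleton.2 hlm.symm) (T.mem_grp m) hv

theorem fpf {l : Fin k} {v : G} (hv : v ∈ line M l) (hc : h l * v = v * h l) : v = 1 := by
  have h1 := T.e_line hv
  have h2 : h l * v * (h l)⁻¹ = v := by rw [hc]; group
  rw [h2] at h1
  rw [← fac_eq_one M hv.1]
  apply NatPair.ext2
  · have h3 := congrFun h1 0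
    simp only [Pi.smul_apply, smul_eq_mul] at h3
    have h4 : (t - 1) * M.e v l 0 = 0 := by linear_combination -h3
    rcases mul_eq_zero.1 h4 with h5 | h5
    · exact absurd (sub_eq_zero.1 h5) T.ne_one
    · exact h5
  · exact ((mem_line M).1 hv).2

end Tor

/-- upper triangular matrices of determinant one -/
theorem tri_eq {A : Matrix.SpecialLinearGroup (Fin 2) F} (hA : ent A 1 0 = 0) (ha : ent A 0 0 ≠ 0) :
    A = up (ent A 0 1 * ent A 0 0) * dg (ent A 0 0) ha := by
  have hd := det_eq A
  rw [hA, mul_zero, sub_zero] at hd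
  apply ext_ent
  · rw [ent_mul, up_00, up_01, dg_00, dg_10]; ring
  · rw [ent_mul, up_00, up_01, dg_01, dg_11]
    field_simp
    ring
  · rw [ent_mul, up_10, up_11, dg_00, dg_10, hA]; ring
  · rw [ent_mul, up_10, up_11, dg_01, dg_11]
    field_simp
    linear_combination hd

theorem lines_le_iSup (M : NatK F (S : Subgroup G) P (zl (S : Subgroup G) P) ⊥ k) :
    lines M Set.univ ≤ ⨆ l, line M l := by
  classical
  have key : ∀ I : Finset (Fin k), lines M (I : Set (Fin k)) ≤ ⨆ l, line M l := by
    intro I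
    induction I using Finset.induction_on with
    | empty =>
      intro v hv
      have h1 : v = 1 := by
        rw [← e_eq_zero M hv.1.1]
        funext i
        exact hv.1.2 i (by simp)
      rw [h1]
      exact one_mem _
    | insert i I hi ih =>
      intro v hv
      obtain ⟨a, ha, hae, hav⟩ := exists_component M hv.1.1 i
      have h1 : a ∈ line M i := (mem_line M).2 ⟨ha, by rw [hae]; exact hv.2 i⟩
      have h2 : a⁻¹ * v ∈ lines M (I : Set (Fin k)) := by
        have e1 : ∀ j, M.e (a⁻¹ * v) j = - M.e a j + M.e v j := fun j => by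
          rw [M.mul _ (inv_mem ha.1) _ hv.1.1, e_inv M ha.1]
          rfl
        refine ⟨⟨mul_mem (inv_mem ha.1) hv.1.1, fun j hj => ?_⟩, fun j => ?_⟩
        · by_cases hji : j = i
          · rw [e1, hji, hae]; simp
          · rw [e1, ha.2 j hji, hv.1.2 j (by
              rw [Finset.coe_insert, Set.mem_insert_iff, not_or]
              exact ⟨hji, hj⟩)]
            simp
        · rw [e1, Pi.add_apply, Pi.neg_apply, h1.2 j, hv.2 j]
          simp
      have h3 : v = a * (a⁻¹ * v) := by group
      rw [h3]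
      exact mul_mem ((le_iSup (fun l => line M l) i) h1) (ih h2)
  have := key Finset.univ
  rwa [Finset.coe_univ] at this

/-- the data -/
theorem Tor.dat (hc : IsCharacteristicTwoType G) (hP : IsParS (S : Subgroup G) P) (T : Tor M t p h) :
    Dat S (LS M) (line M) h p where
  prime := T.prime
  odd := T.odd
  LS := LS_le
  nor := S_le_normalizer_LS hP.le
  cL := cent_LS hc hP
  hL := T.nor
  hcomm l m := by
    classical
    refine act_of_eq (M := M) hc hP (mul_mem (T.mem l) (T.mem m)) (mul_mem (T.nor l) (T.nor m))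
      (mul_mem (T.mem m) (T.mem l)) (mul_mem (T.nor m) (T.nor l)) (acts_mul (T.mem m) (T.act l) (T.act m)) ?_
    have h1 := acts_mul (T.mem l) (T.act m) (T.act l)
    have e : (Function.update (1 : Fin k → Matrix.SpecialLinearGroup (Fin 2) F) m (dg t T.ne_zero)) *
        (Function.update (1 : Fin k → Matrix.SpecialLinearGroup (Fin 2) F) l (dg t T.ne_zero)) =
        (Function.update (1 : Fin k → Matrix.SpecialLinearGroup (Fin 2) F) l (dg t T.ne_zero)) *
        (Function.update (1 : Fin k → Matrix.SpecialLinearGroup (Fin 2) F) m (dg t T.ne_zero)) := by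
      by_cases hlm : l = m
      · rw [hlm]
      funext i
      rw [Pi.mul_apply, Pi.mul_apply]
      by_cases hi : i = l
      · have him : i ≠ m := fun h => hlm (hi.symm.trans h)
        rw [Function.update_of_ne him, Pi.one_apply, one_mul, mul_one]
      · rw [Function.update_of_ne hi, Pi.one_apply, one_mul, mul_one]
    rwa [e] at h1
  hp l := by
    classical
    refine act_of_eq (M := M) hc hP (pow_mem (T.mem l) p) (pow_mem (T.nor l) p) (one_mem _) (one_mem _)
      (acts_pow (T.mem l) (T.act l) p) ?_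
    have e : (Function.update 1 l (dg t T.ne_zero) : Fin k → Matrix.SpecialLinearGroup (Fin 2) F) ^ p = 1 := by
      funext i
      rw [Pi.pow_apply, Pi.one_apply]
      by_cases hi : i = l
      · rw [hi, Function.update_self, dg_pow]
        apply ext_ent <;> simp [T.pow]
      · rw [Function.update_of_ne hi, Pi.one_apply, one_pow]
    rw [e]
    exact acts_one M
  perm s hs := by
    classical
    refine ⟨sg M (hP.le hs), fun l => ?_⟩
    have hx : s * h l * s⁻¹ ∈ grp M {sg M (hP.le hs) l} := by
      have h1 := conj_grp M (hP.le hs) {l}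
      rw [Set.image_singleton] at h1
      rw [← h1]
      exact conj_mem_cj' (T.mem_grp l)
    have hxN : s * h l * s⁻¹ ∈ normalizer (LS M : Set G) :=
      mul_mem (mul_mem (S_le_normalizer_LS hP.le hs) (T.nor l)) (inv_mem (S_le_normalizer_LS hP.le hs))
    set m := sg M (hP.le hs) l with hm
    set x := s * h l * s⁻¹ with hxdef
    obtain ⟨hxP, A, hA, hA1⟩ := hx
    have htri := tri_of_norm hc hP hxP hxN hA m
    have hAp : A ^ p = 1 := by
      have h1 := acts_pow hxP hA p
      have h2 : h l ^ p ∈ centralizer (zl (S : Subgroup G) P : Set G) := by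
        refine cent_of_acts (M := M) (pow_mem (T.mem l) p) ?_
        have h3 := acts_pow (T.mem l) (T.act l) p
        have e : (Function.update 1 l (dg t T.ne_zero) : Fin k → Matrix.SpecialLinearGroup (Fin 2) F) ^ p = 1 := by
          funext i
          rw [Pi.pow_apply, Pi.one_apply]
          by_cases hi : i = l
          · rw [hi, Function.update_self, dg_pow]
            apply ext_ent <;> simp [T.pow]
          · rw [Function.update_of_ne hi, Pi.one_apply, one_pow]
        rwa [e] at h3
      have h3 : x ^ p ∈ centralizer (zl (S : Subgroup G) P : Set G) := by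
        have e : x ^ p = s * h l ^ p * s⁻¹ := by
          rw [hxdef, conj_pow]
        rw [e, mem_centralizer_iff]
        intro v hv
        have h4 := mem_centralizer_iff.1 h2 _ (IId.cj_mem' (hP.le hs) hv)
        calc v * (s * h l ^ p * s⁻¹) = s * ((s⁻¹ * v * s) * h l ^ p) * s⁻¹ := by group
          _ = s * (h l ^ p * (s⁻¹ * v * s)) * s⁻¹ := by rw [h4]
          _ = s * h l ^ p * s⁻¹ * v := by group
      exact acts_unique h1 (acts_of_cent h3)
    have hap : (ent (A m) 0 0) ^ p = 1 := by
      have h1 := ap_pow_tri htri p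
      have h2 : A m ^ p = 1 := by
        have := congrFun hAp m
        rwa [Pi.pow_apply, Pi.one_apply] at this
      rw [h2, ap_one] at h1
      exact (congrFun h1 0).symm
    have ha0 : ent (A m) 0 0 ≠ 0 := by
      intro h0
      rw [h0, zero_pow T.prime.ne_zero] at hap
      exact zero_ne_one hap
    -- `a` is a power of `t`
    have : Fact p.Prime := ⟨T.prime⟩
    have : NeZero p := ⟨T.prime.ne_zero⟩
    have hprim : IsPrimitiveRoot t p := by
      rw [IsPrimitiveRoot.iff_orderOf]
      exact orderOf_eq_prime T.pow T.ne_one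
    obtain ⟨r, -, hr⟩ := hprim.eq_pow_of_pow_eq_one hap
    refine ⟨r, ?_⟩
    set b := ent (A m) 0 1 * ent (A m) 0 0 with hb
    obtain ⟨u, hu, hub⟩ := M.unip (Function.update 0 m b)
    have huL : u ∈ LS M := mem_LS hP.le hu hub
    have huN : u ∈ normalizer (LS M : Set G) := le_normalizer huL
    have h1 : Act (zc (LS M)) x (u * h m ^ r) := by
      refine act_of_eq (M := M) hc hP hxP hxN (mul_mem (hP.le hu) (pow_mem (T.mem m) r))
        (mul_mem huN (pow_mem (T.nor m) r)) hA ?_
      have h2 := acts_mul (pow_mem (T.mem m) r) hub (acts_pow (T.mem m) (T.act m) r)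
      have e : (fun i => up ((Function.update 0 m b : Fin k → F) i)) *
          (Function.update 1 m (dg t T.ne_zero) : Fin k → Matrix.SpecialLinearGroup (Fin 2) F) ^ r = A := by
        funext i
        rw [Pi.mul_apply, Pi.pow_apply]
        by_cases hi : i = m
        · rw [hi, Function.update_self, Function.update_self, dg_pow]
          have h3 := tri_eq htri ha0
          conv_rhs => rw [h3]
          congr 1
          apply ext_ent <;> simp [hr]
        · rw [Function.update_of_ne hi, Function.update_of_ne hi, Pi.one_apply, one_pow, Pi.zero_apply, up_zero,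
            mul_one, hA1 i hi]
      rwa [e] at h2
    intro e he
    rw [h1 e he]
    have h3 : h m ^ r * e * (h m ^ r)⁻¹ ∈ zc (LS M) :=
      (mem_normalizer_iff.1 (MinSimple.VModule.normalizer_le_normalizer_zc _ (pow_mem (T.nor m) r)) e).1 he
    have h4 := (mem_zc.1 h3).2.1 u huL
    calc u * h m ^ r * e * (u * h m ^ r)⁻¹ = (u * (h m ^ r * e * (h m ^ r)⁻¹)) * u⁻¹ := by group
      _ = ((h m ^ r * e * (h m ^ r)⁻¹) * u) * u⁻¹ := by rw [h4]
      _ = h m ^ r * e * (h m ^ r)⁻¹ := by group
  field s hs hcomm := by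
    classical
    have hLE : ∀ l, line M l ≤ zc (LS M) := fun l => (lines_mono M (Set.subset_univ _)).trans (lines_le_zc hc hP)
    have hconj : ∀ l, ∀ v ∈ line M l, s * (h l * v * (h l)⁻¹) * s⁻¹ = h l * (s * v * s⁻¹) * (h l)⁻¹ := by
      intro l v hv
      have h1 := hcomm l v (hLE l hv)
      calc s * (h l * v * (h l)⁻¹) * s⁻¹ = (s * h l) * v * (s * h l)⁻¹ := by group
        _ = (h l * s) * v * (h l * s)⁻¹ := h1
        _ = h l * (s * v * s⁻¹) * (h l)⁻¹ := by group
    have hsg : ∀ l, sg M (hP.le hs) l = l := by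
      intro l
      by_contra hne
      obtain ⟨v, hv, hv1⟩ := exists_line M l
      have h1 : s * v * s⁻¹ ∈ line M (sg M (hP.le hs) l) := by
        rw [← conj_line M hP.le hs]
        exact conj_mem_cj' hv
      have h2 := T.comm_fac (l := sg M (hP.le hs) l) (m := l) hne h1.1
      have h3 := hconj l v hv
      have h4 : h l * (s * v * s⁻¹) * (h l)⁻¹ = s * v * s⁻¹ := by rw [h2]; group
      rw [h4] at h3
      have h5 : h l * v * (h l)⁻¹ = v := by
        have h6 : s * (h l * v * (h l)⁻¹) = s * v := mul_right_cancel h3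
        exact mul_left_cancel h6
      apply hv1
      refine T.fpf hv ?_
      calc h l * v = (h l * v * (h l)⁻¹) * h l := by group
        _ = v * h l := by rw [h5]
    have hsl : ∀ l, s ∈ normalizer (fac M l : Set G) := fun l => (mem_normalizer_fac_iff M (hP.le hs)).2 (hsg l)
    have key : ∀ l, ∃ b : F, ∀ v ∈ zl (S : Subgroup G) P, M.e (s * v * s⁻¹) l = ap (up b) (M.e v l) := by
      intro l
      refine act_up hP.le T.field hs (hsl l) fun v hv w hw hvw => ?_
      have h1 : w = h l * v * (h l)⁻¹ := by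
        refine ext_fac M hw.1 ?_ ?_
        · exact ((mem_normalizer_iff.1 (T.mem_nor l l) v).1 hv).1
        · rw [T.e_line hv, hvw]
      have h2 : s * v * s⁻¹ ∈ line M l := by
        have h3 : s * v * s⁻¹ ∈ line M (sg M (hP.le hs) l) := by
          rw [← conj_line M hP.le hs]
          exact conj_mem_cj' hv
        rwa [hsg] at h3
      rw [h1, hconj l v hv, T.e_line h2]
    choose b hb using key
    refine mem_LS (M := M) hP.le hs (A := fun l => up (b l)) ⟨fun v hv i => hb i v hv, fun d hd => ?_⟩
    rw [mem_bot] at hd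
    rw [hd]
    group
  ZE l := (lines_mono M (Set.subset_univ _)).trans (lines_le_zc hc hP)
  Zne l := line_ne_bot (M := M) l
  Znor l := T.mem_nor l l
  Zfpf l z hz hc := T.fpf hz hc
  Zcent l m hlm z hz := T.comm_fac hlm hz.1
  fix := (zc_S_le hc hP).trans (lines_le_iSup M)

/-- **THEOREM C, `q ≥ 4`, from the statement on the data**: if `W` centralises `Ω₁ Z(S^L)` for every 2-group `W` which
is normalised by `S^L`, the `h l` and the stabiliser of the lines in `S`, then `CC M`. -/
theorem cc_of (hc : IsCharacteristicTwoType G) (hP : IsParS (S : Subgroup G) P) (T : Tor M t p h)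
    (hmain : ∀ W : Subgroup G, IsPGroup 2 W → LS M ≤ normalizer (W : Set G) → (∀ l, h l ∈ normalizer (W : Set G)) →
      (∀ s ∈ (S : Subgroup G), (∀ l, s ∈ normalizer (line M l : Set G)) → s ∈ normalizer (W : Set G)) →
      W ≤ centralizer (zc (LS M) : Set G)) : CC M := by
  intro i l hli
  set W := o2 (normalizer (line M i : Set G)) with hW
  have hNW : normalizer (line M i : Set G) ≤ normalizer (W : Set G) := MinSimple.VModule.le_normalizer_o2 _
  have hCW : centralizer (line M i : Set G) ≤ normalizer (W : Set G) := (centralizer_le_normalizer _).trans hNW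
  have hLE : ∀ l, line M l ≤ zc (LS M) := fun l => (lines_mono M (Set.subset_univ _)).trans (lines_le_zc hc hP)
  have h1 : W ≤ centralizer (zc (LS M) : Set G) := by
    refine hmain W (MinSimple.VModule.o2_isPGroup _) (fun x hx => hCW ?_) (fun m => hNW (T.mem_nor m i))
      fun s hs hst => hNW (hst i)
    rw [mem_centralizer_iff]
    intro v hv
    exact ((mem_zc.1 (hLE i hv)).2.1 x hx).symm
  intro v hv
  rw [mem_centralizer_iff]
  intro w hw
  by_cases hv1 : v = 1
  · rw [hv1, mul_one, one_mul]
  obtain ⟨z, hz, hz1⟩ := exists_line M l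
  obtain ⟨g, hg, hgz⟩ := exists_grp M (line_le M l hz) hv hz1 hv1
  have hgW : g ∈ normalizer (W : Set G) := by
    refine hCW (mem_centralizer_iff.2 fun x hx => ?_)
    exact (grp_comm M (Set.disjoint_singleton.2 hli) hg (line_le M i hx)).symm
  have hw' : g⁻¹ * w * g ∈ W := by
    have := (mem_normalizer_iff.1 (inv_mem hgW) w).1 hw
    rwa [inv_inv] at this
  have h2 := mem_centralizer_iff.1 (h1 hw') z (hLE l hz)
  rw [← hgz]
  calc w * (g * z * g⁻¹) = g * ((g⁻¹ * w * g) * z) * g⁻¹ := by group
    _ = g * (z * (g⁻¹ * w * g)) * g⁻¹ := by rw [h2]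
    _ = g * z * g⁻¹ * w := by group

end Cfsg.Agent.Omega.ThmC.FourOf
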