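import Cfsg.Agent.Omega.ThmC.FourMain
import Cfsg.Agent.Omega.ThmC.FourMk

/-!
# THEOREM C, case `q ≥ 4` (bb OMEGA 15545, helper610): from the data in `G` to the data in `N_G(E) / C_G(E)`

* `Dat.abs` : the data `Abs` for the image of `N_G(E)` in `MulAut E`, `E = Ω₁ Z(L)`;
* `Dat.main` : a 2-subgroup `W` normalised by `L`, the `h l` and the elements of `S` which normalise every `⟨h l⟩`
  modulo `C(E)` centralises `E`;
* `Dat.main'` : the same with the stabiliser of all `Z l` in `S`;
* `cc` : `CC M` for `M : NatK F S P (zl S P) ⊥ k`, `4 ≤ |F|`.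
-/

set_option autoImplicit false
set_option linter.unusedSectionVars false

namespace Cfsg.Agent.Omega.ThmC.Four

open Subgroup Cfsg Cfsg.Agent.ZN
open Cfsg.Agent.MinSimple.VModule (mem_zc zc_le zc_comm zc_sq normalizer_le_normalizer_zc le_centralizer_zc
  zc_le_centralizer)

universe u

variable {G : Type u} [Group G] [Finite G]

/-- a proper subgroup of a 2-group is properly contained in its normaliser. -/
theorem exists_grow {T R : Subgroup G} (hT : IsPGroup 2 T) (hRT : R < T) :
    ∃ x ∈ T, x ∉ R ∧ x ∈ normalizer (R : Set G) := by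
  have : Fact (Nat.Prime 2) := ⟨Nat.prime_two⟩
  have : Group.IsNilpotent T := hT.isNilpotent
  have hne : R.subgroupOf T ≠ ⊤ := by
    intro h
    exact hRT.not_ge (subgroupOf_eq_top.1 h)
  have h1 := Group.normalizerCondition_of_isNilpotent (G := T) (R.subgroupOf T) (lt_top_iff_ne_top.2 hne)
  obtain ⟨x, hx1, hx2⟩ := SetLike.exists_of_lt h1
  refine ⟨x, x.2, fun h => hx2 (mem_subgroupOf.2 h), ?_⟩
  rw [mem_normalizer_iff] at hx1 ⊢
  intro y
  constructor
  · intro hy
    have := (hx1 ⟨y, hRT.le hy⟩).1 (mem_subgroupOf.2 hy)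
    simpa [mem_subgroupOf] using this
  · intro hy
    have hyT : y ∈ T := by
      have h3 : (x : G)⁻¹ * ((x : G) * y * (x : G)⁻¹) * x ∈ T :=
        mul_mem (mul_mem (inv_mem x.2) (hRT.le hy)) x.2
      have e : (x : G)⁻¹ * ((x : G) * y * (x : G)⁻¹) * x = y := by group
      rwa [e] at h3
    have := (hx1 ⟨y, hyT⟩).2 (by simpa [mem_subgroupOf] using hy)
    exact mem_subgroupOf.1 this

theorem Act.symm {E : Subgroup G} {x y : G} (h : Act E x y) : Act E y x := fun e he => (h e he).symm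

theorem Act.trans {E : Subgroup G} {x y z : G} (h : Act E x y) (h' : Act E y z) : Act E x z :=
  fun e he => (h e he).trans (h' e he)

namespace Dat

variable {S : Sylow 2 G} {L : Subgroup G} {k : ℕ} {Z : Fin k → Subgroup G} {h : Fin k → G} {p : ℕ}

/-- `N_G(E) → Aut(E)`. -/
noncomputable def phi (E : Subgroup G) : (normalizer (E : Set G) : Subgroup G) →* MulAut E := E.normalizerMonoidHom

/-- The image of `N_G(E)` in `Aut(E)`. -/
noncomputable abbrev NN (E : Subgroup G) : Subgroup (MulAut E) := (phi E).range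

theorem phi_apply {E : Subgroup G} (g : (normalizer (E : Set G) : Subgroup G)) (e : E) :
    ((phi E g e : E) : G) = g * e * (g : G)⁻¹ := rfl

theorem cl_surj (E : Subgroup G) : Function.Surjective (phi E).rangeRestrict := (phi E).rangeRestrict_surjective

theorem cl_eq {E : Subgroup G} {g g' : (normalizer (E : Set G) : Subgroup G)} :
    (phi E).rangeRestrict g = (phi E).rangeRestrict g' ↔ Act E (g : G) g' := by
  constructor
  · intro hh e he
    have h1 : phi E g = phi E g' := congrArg Subtype.val hh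
    have h2 := congrArg (fun f : MulAut E => ((f ⟨e, he⟩ : E) : G)) h1
    exact h2
  · intro hh
    apply Subtype.ext
    apply MulEquiv.ext
    intro e
    apply Subtype.ext
    exact hh e e.2

/-- `E = Ω₁ Z(L)` is commutative. -/
@[reducible] def commE (L : Subgroup G) : CommGroup (zc L) :=
  { (inferInstance : Group (zc L)) with mul_comm := fun a b => Subtype.ext (zc_comm L a a.2 b b.2) }

attribute [local instance] commE

/-- The action of `NN E` on `E`, written additively. -/
def rho (L : Subgroup G) : NN (zc L) →* AddMonoid.End (Additive (zc L)) where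
  toFun n := MonoidHom.toAdditive (n : MulAut (zc L)).toMonoidHom
  map_one' := rfl
  map_mul' _ _ := rfl

theorem rho_apply (L : Subgroup G) (g : (normalizer (zc L : Set G) : Subgroup G)) (e : zc L) :
    ((Additive.toMul (rho L ((phi (zc L)).rangeRestrict g) (Additive.ofMul e)) : zc L) : G) = g * e * (g : G)⁻¹ := rfl

/-- subgroups of `E`, written additively. -/
def ad (L : Subgroup G) (X : Subgroup G) : AddSubgroup (Additive (zc L)) := Subgroup.toAddSubgroup (X.subgroupOf (zc L))

theorem mem_ad {L X : Subgroup G} {a : Additive (zc L)} : a ∈ ad L X ↔ ((Additive.toMul a : zc L) : G) ∈ X := Iff.rfl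

variable (D : Dat S L Z h p)

include D

theorem S_le : (S : Subgroup G) ≤ normalizer (zc L : Set G) := D.nor.trans (normalizer_le_normalizer_zc L)

theorem h_mem (l : Fin k) : h l ∈ normalizer (zc L : Set G) := normalizer_le_normalizer_zc L (D.hL l)

/-- the image of `h l`. -/
noncomputable abbrev hh (D : Dat S L Z h p) (l : Fin k) : NN (zc L) := (phi (zc L)).rangeRestrict ⟨h l, D.h_mem l⟩

/-- the image of `S`. -/
noncomputable abbrev SS (D : Dat S L Z h p) : Sylow 2 (NN (zc L)) :=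
  haveI : Fact (Nat.Prime 2) := ⟨Nat.prime_two⟩
  (S.subtype D.S_le).mapSurjective (cl_surj (zc L))

theorem mem_SS {n : NN (zc L)} : n ∈ (D.SS : Subgroup (NN (zc L))) ↔
    ∃ s, ∃ hs : s ∈ (S : Subgroup G), (phi (zc L)).rangeRestrict ⟨s, D.S_le hs⟩ = n := by
  constructor
  · rintro ⟨s, hs, rfl⟩
    exact ⟨s, hs, rfl⟩
  · rintro ⟨s, hs, rfl⟩
    exact ⟨⟨s, D.S_le hs⟩, hs, rfl⟩

/-- **the data in `N_G(E) / C_G(E)`** -/
theorem abs : Abs (rho L) D.SS D.hh (fun l => ad L (Z l)) p where
  two a := by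
    apply Additive.toMul.injective
    apply Subtype.ext
    have h1 := zc_sq L _ (Additive.toMul a).2
    rw [pow_two] at h1
    exact h1
  inj := by
    intro a b hab
    apply Subtype.ext
    apply MulEquiv.ext
    intro e
    exact congrArg (fun f : AddMonoid.End (Additive (zc L)) => Additive.toMul (f (Additive.ofMul e))) hab
  prime := D.prime
  odd := D.odd
  hcomm l m := by
    rw [← map_mul, ← map_mul, cl_eq]
    exact D.hcomm l m
  hp l := by
    rw [← map_pow, ← map_one (phi (zc L)).rangeRestrict, cl_eq]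
    exact D.hp l
  perm := by
    intro s hs'
    obtain ⟨s, hs, rfl⟩ := D.mem_SS.1 hs'
    obtain ⟨σ, hσ⟩ := D.perm s hs
    refine ⟨σ, fun l => ?_⟩
    obtain ⟨r, hr⟩ := hσ l
    refine ⟨r, ?_⟩
    rw [← map_mul, ← map_inv, ← map_mul, ← map_pow, cl_eq]
    exact hr
  field := by
    intro s hs' hc
    obtain ⟨s, hs, rfl⟩ := D.mem_SS.1 hs'
    have h1 : s ∈ L := D.field s hs fun l => by
      have := hc l
      rw [← map_mul, ← map_mul, cl_eq] at this
      exact this
    rw [← map_one (phi (zc L)).rangeRestrict, cl_eq]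
    intro e he
    have h2 := (mem_zc.1 he).2.1 s h1
    simp [h2]
  Zne l hl := by
    apply D.Zne l
    rw [eq_bot_iff]
    intro z hz
    have h1 : Additive.ofMul (⟨z, D.ZE l hz⟩ : zc L) ∈ ad L (Z l) := hz
    rw [hl, AddSubgroup.mem_bot] at h1
    have h2 := congrArg (fun a : Additive (zc L) => ((Additive.toMul a : zc L) : G)) h1
    exact h2
  Znor l z hz := by
    rw [mem_ad] at hz ⊢
    exact ((mem_normalizer_iff.1 (D.Znor l)) _).1 hz
  Zfpf l z hz hfix := by
    apply Additive.toMul.injective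
    apply Subtype.ext
    refine D.Zfpf l _ hz ?_
    have h1 := congrArg (fun a : Additive (zc L) => ((Additive.toMul a : zc L) : G)) hfix
    have h2 : h l * ((Additive.toMul z : zc L) : G) * (h l)⁻¹ = ((Additive.toMul z : zc L) : G) := h1
    rw [← h2]
    simp only [h2]
    rw [mul_inv_eq_iff_eq_mul] at h2
    exact h2
  Zcent l m hlm z hz := by
    apply Additive.toMul.injective
    apply Subtype.ext
    have h1 : h m * ((Additive.toMul z : zc L) : G) = ((Additive.toMul z : zc L) : G) * h m := D.Zcent l m hlm _ hz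
    change h m * ((Additive.toMul z : zc L) : G) * (h m)⁻¹ = ((Additive.toMul z : zc L) : G)
    rw [h1, mul_inv_cancel_right]
  fix a ha := by
    have h1 : ((Additive.toMul a : zc L) : G) ∈ zc (S : Subgroup G) := by
      refine mem_zc.2 ⟨D.LS (zc_le L (Additive.toMul a).2), fun s hs => ?_, zc_sq L _ (Additive.toMul a).2⟩
      have h2 := ha _ (D.mem_SS.2 ⟨s, hs, rfl⟩)
      have h3 := congrArg (fun a : Additive (zc L) => ((Additive.toMul a : zc L) : G)) h2
      have h4 : s * ((Additive.toMul a : zc L) : G) * s⁻¹ = ((Additive.toMul a : zc L) : G) := h3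
      rw [mul_inv_eq_iff_eq_mul] at h4
      exact h4
    have h2 := D.fix h1
    have h3 : (⨆ l, Z l) ≤ (AddSubgroup.toSubgroup' (⨆ l, ad L (Z l))).map (zc L).subtype := by
      refine iSup_le fun l z hz => ?_
      exact ⟨⟨z, D.ZE l hz⟩, (le_iSup (fun l => ad L (Z l)) l) (show Additive.ofMul (⟨z, D.ZE l hz⟩ : zc L) ∈ _ from hz),
        rfl⟩
    obtain ⟨b, hb, hb'⟩ := h3 h2
    have h4 : b = Additive.toMul a := Subtype.ext hb'
    rw [h4] at hb
    exact hb

/-- **THEOREM C, case `q ≥ 4`, on the data**: a 2-subgroup `W` normalised by `L`, the `h l` and the elements of `S`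
which normalise all `⟨h l⟩` modulo `C(E)` centralises `E = Ω₁ Z(L)`. -/
theorem main {W : Subgroup G} (hW : IsPGroup 2 W) (hLW : L ≤ normalizer (W : Set G))
    (hhW : ∀ l, h l ∈ normalizer (W : Set G))
    (hSW : ∀ s ∈ (S : Subgroup G), (∀ l, ∃ r : ℕ, Act (zc L) (s * h l * s⁻¹) (h l ^ r)) →
      s ∈ normalizer (W : Set G)) : W ≤ centralizer (zc L : Set G) := by
  by_contra hcon
  -- `L` is a 2-group
  have hL2 : IsPGroup 2 L := S.isPGroup'.to_le D.LS
  have hWL : IsPGroup 2 (W ⊔ L : Subgroup G) := by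
    have := IsPGroup.to_sup_of_normal_left' hW hL2 hLW
    exact this
  have hLC : L ≤ centralizer (zc L : Set G) := le_centralizer_zc L
  -- `K = C_W(E)`
  set K : Subgroup G := W ⊓ centralizer (zc L : Set G) with hK
  have hKL : K ⊔ L < W ⊔ L := by
    refine lt_of_le_of_ne (sup_le_sup_right inf_le_left L) fun he => hcon ?_
    have h1 : K ⊔ L ≤ centralizer (zc L : Set G) := sup_le inf_le_right hLC
    exact (le_sup_left.trans he.ge).trans h1
  obtain ⟨x, hx, hxK, hxn⟩ := exists_grow hWL hKL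
  obtain ⟨w, hw, l, hl, rfl⟩ : ∃ w ∈ W, ∃ l ∈ L, w * l = x := by
    have h1 : x ∈ ((W ⊔ L : Subgroup G) : Set G) := hx
    rw [coe_mul_of_right_le_normalizer_left W L hLW] at h1
    obtain ⟨a, ha, b, hb, hab⟩ := h1
    exact ⟨a, ha, b, hb, hab⟩
  have hln : l ∈ normalizer ((K ⊔ L : Subgroup G) : Set G) := le_normalizer (mem_sup_right hl)
  have hwn : w ∈ normalizer ((K ⊔ L : Subgroup G) : Set G) := by
    have := mul_mem hxn (inv_mem hln)
    rwa [mul_inv_cancel_right] at this
  have hwK : w ∉ centralizer (zc L : Set G) := by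
    intro hwc
    exact hxK (mul_mem (mem_sup_left ⟨hw, hwc⟩) (mem_sup_right hl))
  have hzc : zc (K ⊔ L) = zc L := by
    apply le_antisymm
    · intro e he
      have h1 := mem_zc.1 he
      have h2 : e ∈ L := D.cL (mem_centralizer_iff.2 fun y hy => h1.2.1 y (mem_sup_right hy))
      exact mem_zc.2 ⟨h2, fun b hb => h1.2.1 b (mem_sup_right hb), h1.2.2⟩
    · intro e he
      have h1 := mem_zc.1 he
      refine mem_zc.2 ⟨mem_sup_right h1.1, fun b hb => ?_, h1.2.2⟩
      have h2 : b ∈ centralizer (zc L : Set G) := (sup_le inf_le_right hLC : K ⊔ L ≤ _) hb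
      exact (mem_centralizer_iff.1 h2 e he).symm
  have hwE : w ∈ normalizer (zc L : Set G) := by
    have := normalizer_le_normalizer_zc _ hwn
    rwa [hzc] at this
  -- the image of `N_W(E)`
  set WW : Subgroup (NN (zc L)) := (W.subgroupOf (normalizer (zc L : Set G))).map (phi (zc L)).rangeRestrict with hWW
  have hmem : ∀ {y : G} (hy : y ∈ normalizer (zc L : Set G)), y ∈ normalizer (W : Set G) →
      (phi (zc L)).rangeRestrict ⟨y, hy⟩ ∈ normalizer (WW : Set (NN (zc L))) := by
    intro y hy hyW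
    have key : ∀ {y : G} (hy : y ∈ normalizer (zc L : Set G)), y ∈ normalizer (W : Set G) → ∀ n ∈ WW,
        (phi (zc L)).rangeRestrict ⟨y, hy⟩ * n * ((phi (zc L)).rangeRestrict ⟨y, hy⟩)⁻¹ ∈ WW := by
      rintro y hy hyW _ ⟨v, hv, rfl⟩
      rw [← map_inv, ← map_mul, ← map_mul]
      exact mem_map_of_mem _ ((mem_normalizer_iff.1 hyW v).1 hv)
    rw [mem_normalizer_iff]
    intro n
    refine ⟨key hy hyW n, fun hn => ?_⟩
    have h1 := key (inv_mem hy) (inv_mem hyW) _ hn
    have h2 : (phi (zc L)).rangeRestrict ⟨y⁻¹, inv_mem hy⟩ = ((phi (zc L)).rangeRestrict ⟨y, hy⟩)⁻¹ := by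
      rw [← map_inv]; rfl
    rw [h2] at h1
    have e : ((phi (zc L)).rangeRestrict ⟨y, hy⟩)⁻¹ * ((phi (zc L)).rangeRestrict ⟨y, hy⟩ * n *
      ((phi (zc L)).rangeRestrict ⟨y, hy⟩)⁻¹) * ((phi (zc L)).rangeRestrict ⟨y, hy⟩)⁻¹⁻¹ = n := by group
    rwa [e] at h1
  have hWW2 : IsPGroup 2 WW := (hW.comap_of_injective _ (subtype_injective _)).map _
  have hbot := D.abs.main (W := WW) hWW2 (fun l => hmem (D.h_mem l) (hhW l)) (by
    intro s hs' hc
    obtain ⟨s, hs, rfl⟩ := D.mem_SS.1 hs'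
    refine hmem (D.S_le hs) (hSW s hs fun l => ?_)
    obtain ⟨r, hr⟩ := hc l
    refine ⟨r, ?_⟩
    rw [← map_mul, ← map_inv, ← map_mul, ← map_pow, cl_eq] at hr
    exact hr)
  apply hwK
  have h1 : (phi (zc L)).rangeRestrict ⟨w, hwE⟩ ∈ WW := mem_map_of_mem _ (show w ∈ W from hw)
  rw [hbot, mem_bot, ← map_one (phi (zc L)).rangeRestrict, cl_eq] at h1
  rw [mem_centralizer_iff]
  intro e he
  have h2 := h1 e he
  simp only [OneMemClass.coe_one, one_mul, inv_one, mul_one] at h2
  rw [mul_inv_eq_iff_eq_mul] at h2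
  exact h2.symm

/-- the same with the stabiliser of all `Z l`. -/
theorem main' (hZ : ∀ s ∈ (S : Subgroup G), ∀ l, ∃ m, ∀ v, v ∈ Z l ↔ s * v * s⁻¹ ∈ Z m) {W : Subgroup G}
    (hW : IsPGroup 2 W) (hLW : L ≤ normalizer (W : Set G)) (hhW : ∀ l, h l ∈ normalizer (W : Set G))
    (hSW : ∀ s ∈ (S : Subgroup G), (∀ l, s ∈ normalizer (Z l : Set G)) → s ∈ normalizer (W : Set G)) :
    W ≤ centralizer (zc L : Set G) := by
  refine D.main hW hLW hhW fun s hs hc => hSW s hs fun l => ?_
  obtain ⟨m, hm⟩ := hZ s hs l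
  have hml : m = l := by
    by_contra hne
    obtain ⟨r, hr⟩ := hc l
    apply D.Zne l
    rw [eq_bot_iff]
    intro v hv
    rw [mem_bot]
    refine D.Zfpf l v hv ?_
    have h1 := hr _ (D.ZE m ((hm v).1 hv))
    have h2 : ∀ n : ℕ, h l ^ n * (s * v * s⁻¹) * (h l ^ n)⁻¹ = s * v * s⁻¹ := by
      intro n
      induction n with
      | zero => group
      | succ n ih =>
        have h3 := D.Zcent m l hne _ ((hm v).1 hv)
        calc h l ^ (n + 1) * (s * v * s⁻¹) * (h l ^ (n + 1))⁻¹
            = h l ^ n * (h l * (s * v * s⁻¹) * (h l)⁻¹) * (h l ^ n)⁻¹ := by rw [pow_succ]; group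
          _ = s * v * s⁻¹ := by rw [h3, mul_inv_cancel_right, ih]
    rw [h2 r] at h1
    have h4 : s * (h l * v * (h l)⁻¹) * s⁻¹ = s * v * s⁻¹ := by
      calc s * (h l * v * (h l)⁻¹) * s⁻¹ = s * h l * s⁻¹ * (s * v * s⁻¹) * (s * h l * s⁻¹)⁻¹ := by group
        _ = s * v * s⁻¹ := h1
    have h5 : h l * v * (h l)⁻¹ = v := by
      have := mul_right_cancel (mul_left_cancel (a := s) (b := h l * v * (h l)⁻¹ * s⁻¹) (c := v * s⁻¹) (by
        rw [← mul_assoc, h4, mul_assoc]))
      exact this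
    rw [mul_inv_eq_iff_eq_mul] at h5
    exact h5
  rw [hml] at hm
  rw [mem_normalizer_iff]
  exact hm

end Dat

end Cfsg.Agent.Omega.ThmC.Four

namespace Cfsg.Agent.Omega.ThmC.FourOf

open Subgroup Cfsg Cfsg.Agent.ZN Cfsg.Agent.Omega.IId Cfsg.Agent.Omega.ThmC.Four
open Cfsg.Agent.ZN.ChoiceBase hiding mem_zc
open Cfsg.Agent.Omega.MinPar Cfsg.Agent.Omega.FFThm

universe u

variable {G : Type u} [Group G] [Finite G] {F : Type} [Field F] [Finite F] [CharP F 2] {S : Sylow 2 G}
  {P : Subgroup G} {k : ℕ}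

/-- **THEOREM C, case `q ≥ 4`.** -/
theorem cc (hc : IsCharacteristicTwoType G) (hP : IsParS (S : Subgroup G) P)
    (M : NatK F (S : Subgroup G) P (zl (S : Subgroup G) P) ⊥ k) (hF : 4 ≤ Nat.card F) : CC M := by
  obtain ⟨t, p, h, T⟩ := exists_tor (M := M) hc hP hF
  refine cc_of hc hP T fun W h1 h2 h3 h4 => (T.dat hc hP).main' (fun s hs l => ⟨sg M (hP.le hs) l, fun v => ?_⟩)
    h1 h2 h3 h4
  have h5 := conj_line M hP.le hs l
  have h6 : s * v * s⁻¹ ∈ cj s (line M l) ↔ v ∈ line M l := by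
    rw [mem_cj_iff]
    have e : s⁻¹ * (s * v * s⁻¹) * s = v := by group
    rw [e]
  rw [← h5]
  exact h6.symm

end Cfsg.Agent.Omega.ThmC.FourOf
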