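import Mathlib

/-!
# THEOREM C, `q ≥ 4`: the choice of `p` and `t`

`F` a finite field of characteristic 2, `|F| ≥ 4`. There are an odd prime `p` and `t ∈ F` of order `p` such that an
automorphism of `F` of 2-power order which fixes `t` is trivial (`exists_t`).
-/

set_option autoImplicit false

namespace Cfsg.Agent.Omega.ThmC

variable {F : Type*} [Field F] [Finite F] [CharP F 2]

omit [Finite F] in
theorem isCyclic_ringAut [Finite F] : IsCyclic (F ≃+* F) := by
  have : Fact (Nat.Prime 2) := ⟨Nat.prime_two⟩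
  let _ : Algebra (ZMod 2) F := ZMod.algebra F 2
  let e : (F ≃ₐ[ZMod 2] F) →* (F ≃+* F) :=
    { toFun := fun φ => φ.toRingEquiv
      map_one' := rfl
      map_mul' := fun _ _ => rfl }
  refine isCyclic_of_surjective e fun φ => ?_
  refine ⟨AlgEquiv.ofRingEquiv (f := φ) (fun a => ?_), ?_⟩
  · have : (φ : F →+* F).comp (algebraMap (ZMod 2) F) = algebraMap (ZMod 2) F := Subsingleton.elim _ _
    exact RingHom.congr_fun this a
  · ext
    rfl

/-- There is at most one involution in `Aut F`. -/
theorem invol_unique {a b : F ≃+* F} (ha : a ≠ 1) (hb : b ≠ 1) (ha2 : a ^ 2 = 1) (hb2 : b ^ 2 = 1) : a = b := by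
  classical
  by_contra hab
  have hcyc : IsCyclic (F ≃+* F) := isCyclic_ringAut
  have hfin : Finite (F ≃+* F) := Finite.of_injective (fun f : F ≃+* F => (f : F → F)) DFunLike.coe_injective
  let _ : Fintype (F ≃+* F) := Fintype.ofFinite _
  have h := IsCyclic.card_pow_eq_one_le (α := F ≃+* F) (n := 2) (by norm_num)
  have h2 : ({1, a, b} : Finset (F ≃+* F)) ⊆ Finset.univ.filter fun x => x ^ 2 = 1 := by
    intro x hx
    simp only [Finset.mem_insert, Finset.mem_singleton] at hx
    simp only [Finset.mem_filter, Finset.mem_univ, true_and]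
    rcases hx with rfl | rfl | rfl
    · exact one_pow 2
    · exact ha2
    · exact hb2
  have h3 : ({1, a, b} : Finset (F ≃+* F)).card = 3 := by
    rw [Finset.card_insert_of_notMem, Finset.card_pair hab]
    simp only [Finset.mem_insert, Finset.mem_singleton, not_or]
    exact ⟨Ne.symm ha, Ne.symm hb⟩
  have h4 := Finset.card_le_card h2
  omega

omit [Finite F] [CharP F 2] in
/-- a nontrivial element of 2-power order has an involution among its powers -/
theorem exists_invol {τ : F ≃+* F} {n : ℕ} (hn : τ ^ 2 ^ n = 1) (h1 : τ ≠ 1) : ∃ j : ℕ, τ ^ j ≠ 1 ∧ (τ ^ j) ^ 2 = 1 := by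
  induction n with
  | zero => exact absurd (by simpa using hn) h1
  | succ n ih =>
    by_cases h : τ ^ 2 ^ n = 1
    · exact ih h
    · exact ⟨2 ^ n, h, by rw [← pow_mul, ← pow_succ]; exact hn⟩

omit [Finite F] [CharP F 2] in
theorem pow_fix {τ : F ≃+* F} {t : F} (h : τ t = t) (j : ℕ) : (τ ^ j) t = t := by
  induction j with
  | zero => rfl
  | succ j ih =>
    rw [pow_succ]
    change (τ ^ j) (τ t) = t
    rw [h, ih]

omit [Finite F] in
theorem eq_one_of_sq {t : F} (h : t * t = 1) : t = 1 := by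
  have h1 : (t - 1) * (t - 1) = 0 := by
    have h2 : (2 : F) = 0 := CharTwo.two_eq_zero
    linear_combination h + (1 - t) * h2
  have h3 : t - 1 = 0 := by
    rcases mul_eq_zero.1 h1 with h | h <;> exact h
  exact sub_eq_zero.1 h3

theorem exists_t (h4 : 4 ≤ Nat.card F) : ∃ (p : ℕ) (t : F), p.Prime ∧ p ≠ 2 ∧ t ≠ 1 ∧ t ^ p = 1 ∧
    ∀ (τ : F ≃+* F) (n : ℕ), τ ^ 2 ^ n = 1 → τ t = t → τ = 1 := by
  classical
  by_cases hex : ∃ τ₀ : F ≃+* F, τ₀ ≠ 1 ∧ τ₀ ^ 2 = 1
  · obtain ⟨τ₀, h1, h2⟩ := hex
    obtain ⟨x, hx⟩ : ∃ x, τ₀ x ≠ x := by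
      by_contra hcon
      push Not at hcon
      exact h1 (RingEquiv.ext hcon)
    have hx0 : x ≠ 0 := by
      rintro rfl
      exact hx (map_zero τ₀)
    have hτx0 : τ₀ x ≠ 0 := fun h => hx0 ((map_eq_zero_iff τ₀ τ₀.injective).1 h)
    have hττ : ∀ y, τ₀ (τ₀ y) = y := fun y => by
      have := congrArg (fun f : F ≃+* F => f y) h2
      rwa [pow_two] at this
    set y := x / τ₀ x with hy
    have hy1 : y ≠ 1 := by
      intro h
      rw [hy, div_eq_one_iff_eq hτx0] at h
      exact hx h.symm
    have hyy : y * τ₀ y = 1 := by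
      rw [hy, map_div₀, hττ]
      field_simp
    have hy0 : y ≠ 0 := div_ne_zero hx0 hτx0
    -- an element of prime order
    set u := Units.mk0 y hy0 with hu
    have hu1 : orderOf u ≠ 1 := by
      intro h
      rw [orderOf_eq_one_iff] at h
      exact hy1 (congrArg Units.val h)
    have hupos : 0 < orderOf u := orderOf_pos u
    have hp := Nat.minFac_prime hu1
    set p := (orderOf u).minFac with hpdef
    obtain ⟨c, hc⟩ := Nat.minFac_dvd (orderOf u)
    rw [← hpdef] at hc
    have hc0 : c ≠ 0 := by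
      rintro rfl
      omega
    have ht1 : y ^ c ≠ 1 := by
      intro h
      have h3 : u ^ c = 1 := Units.ext (by rw [Units.val_pow_eq_pow_val]; exact h)
      have h4 := orderOf_dvd_of_pow_eq_one h3
      have h5 := Nat.le_of_dvd (Nat.pos_of_ne_zero hc0) h4
      rw [hc] at h5
      have h6 := hp.two_le
      nlinarith [Nat.pos_of_ne_zero hc0]
    have htp : (y ^ c) ^ p = 1 := by
      rw [← pow_mul, mul_comm c p, ← hc]
      have := pow_orderOf_eq_one u
      have h3 := congrArg Units.val this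
      rw [Units.val_pow_eq_pow_val] at h3
      exact h3
    have htt : y ^ c * τ₀ (y ^ c) = 1 := by rw [map_pow, ← mul_pow, hyy, one_pow]
    refine ⟨p, y ^ c, hp, ?_, ht1, htp, fun τ n hn hfix => ?_⟩
    · intro h
      rw [h, pow_two] at htp
      exact ht1 (eq_one_of_sq htp)
    · by_contra hτ
      obtain ⟨j, hj1, hj2⟩ := exists_invol hn hτ
      have h5 : τ ^ j = τ₀ := invol_unique hj1 h1 hj2 h2
      have h6 := pow_fix hfix j
      rw [h5] at h6
      rw [h6] at htt
      exact ht1 (eq_one_of_sq htt)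
  · push Not at hex
    let _ : Fintype F := Fintype.ofFinite F
    have hcard : Fintype.card Fˣ = Fintype.card F - 1 := Fintype.card_units F
    rw [Nat.card_eq_fintype_card] at h4
    have h5 : Fintype.card Fˣ ≠ 1 := by omega
    have hp := Nat.minFac_prime h5
    have : Fact (Fintype.card Fˣ).minFac.Prime := ⟨hp⟩
    obtain ⟨u, hu⟩ := exists_prime_orderOf_dvd_card _ (Nat.minFac_dvd (Fintype.card Fˣ))
    have hu1 : (u : F) ≠ 1 := by
      intro h
      have h6 : u = 1 := Units.ext h
      rw [h6, orderOf_one] at hu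
      exact hp.one_lt.ne hu
    have hup : (u : F) ^ (Fintype.card Fˣ).minFac = 1 := by
      have := pow_orderOf_eq_one u
      rw [hu] at this
      have h3 := congrArg Units.val this
      rw [Units.val_pow_eq_pow_val] at h3
      exact h3
    refine ⟨_, u, hp, ?_, hu1, hup, fun τ n hn hfix => ?_⟩
    · intro h
      rw [h, pow_two] at hup
      exact hu1 (eq_one_of_sq hup)
    · by_contra hτ
      obtain ⟨j, hj1, hj2⟩ := exists_invol hn hτ
      exact hex _ hj1 hj2

end Cfsg.Agent.Omega.ThmC
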