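import Cfsg.Agent.Omega.Half.Gen

/-!
# THEOREM C, plug: coprime action on elementary abelian 2-groups (helper334)

* `tr` : a group `K` acts on the elementary abelian 2-group `A`, the 2-elements of `K` act trivially: an element of
  `⁅K, A⁆` centralised by `K` is trivial;
* `le_centralizer_of_fixed` : if moreover a 2-group `S` normalises `K` and `A` and `C_A(S)` is centralised by `K`,
  then `K` centralises `A`.
-/

set_option autoImplicit false

namespace Cfsg.Agent.Omega.ThmC

open Subgroup

universe u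

variable {G : Type u} [Group G] [Finite G]

/-- `K` acts on the elementary abelian 2-group `A`, the 2-elements of `K` act trivially. An element of `⁅K, A⁆`
centralised by `K` is trivial. -/
theorem eq_one_of_fixed {A K : Subgroup G} (hcomm : ∀ a ∈ A, ∀ b ∈ A, a * b = b * a) (hsq : ∀ a ∈ A, a ^ 2 = 1)
    (hKA : K ≤ normalizer (A : Set G)) (h2 : ∀ x ∈ K, ∀ n : ℕ, x ^ 2 ^ n = 1 → ∀ a ∈ A, x * a = a * x)
    {b : G} (hb : b ∈ ⁅K, A⁆) (hbK : ∀ x ∈ K, x * b = b * x) : b = 1 := by
  classical
  have : Fintype G := Fintype.ofFinite G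
  let _ : CommGroup A := { (inferInstance : Group A) with mul_comm := fun a b => Subtype.ext (hcomm a a.2 b b.2) }
  -- the action
  let φ : K →* MulAut A :=
    { toFun := fun x =>
        { toFun := fun a => ⟨x * a * (x : G)⁻¹, (mem_normalizer_iff.1 (hKA x.2) a).1 a.2⟩
          invFun := fun a => ⟨(x : G)⁻¹ * a * x, by
            have := (mem_normalizer_iff.1 (inv_mem (hKA x.2)) a).1 a.2
            rwa [inv_inv] at this⟩
          left_inv := fun a => Subtype.ext (by simp only; group)
          right_inv := fun a => Subtype.ext (by simp only; group)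
          map_mul' := fun a b => Subtype.ext (by simp only [Subgroup.coe_mul]; group) }
      map_one' := by ext a; simp
      map_mul' := fun x y => by ext a; simp [mul_assoc] }
  have hφ : ∀ (x : K) (a : A), ((φ x a : A) : G) = x * a * (x : G)⁻¹ := fun _ _ => rfl
  have hfin : Finite (φ.range) := inferInstance
  have : Fintype φ.range := Fintype.ofFinite _
  -- the image has odd order
  have hodd : ¬ 2 ∣ Fintype.card φ.range := by
    intro hdvd
    have : Fact (Nat.Prime 2) := ⟨Nat.prime_two⟩
    obtain ⟨⟨g, x, rfl⟩, hg⟩ := exists_prime_orderOf_dvd_card 2 hdvd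
    have hx2 : φ x ^ 2 = 1 := by
      have h := pow_orderOf_eq_one (⟨φ x, x, rfl⟩ : φ.range)
      rw [hg] at h
      exact congrArg Subtype.val h
    obtain ⟨n, N, hN, hord⟩ := Nat.exists_eq_two_pow_mul_odd (orderOf_pos (x : G)).ne'
    have h3 : φ (x ^ N) = 1 := by
      ext a
      rw [hφ]
      have h4 := h2 _ (x ^ N).2 n (by
        rw [Subgroup.coe_pow, ← pow_mul, mul_comm, ← hord, pow_orderOf_eq_one]) a a.2
      rw [h4]
      simp
    have h4 : φ x = 1 := by
      rw [map_pow] at h3
      obtain ⟨j, hj⟩ := hN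
      rw [hj, pow_add, pow_mul, hx2, one_pow, one_mul, pow_one] at h3
      exact h3
    have h5 : (⟨φ x, x, rfl⟩ : φ.range) = 1 := Subtype.ext h4
    rw [h5, orderOf_one] at hg
    exact absurd hg (by norm_num)
  -- the trace
  let tr : A →* A :=
    { toFun := fun a => ∏ g : φ.range, (g : MulAut A) a
      map_one' := by simp
      map_mul' := fun a b => by simp [Finset.prod_mul_distrib] }
  have htr : ∀ a, tr a = ∏ g : φ.range, (g : MulAut A) a := fun _ => rfl
  have htr1 : ∀ (x : K) (a : A), tr (φ x a) = tr a := by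
    intro x a
    rw [htr, htr]
    refine Fintype.prod_equiv (Equiv.mulRight (⟨φ x, x, rfl⟩ : φ.range)) _ _ fun g => ?_
    rfl
  -- the trace is trivial on the commutator subgroup
  have hKAA : ⁅K, A⁆ ≤ A := by
    rw [commutator_le]
    intro x hx a ha
    have := (mem_normalizer_iff.1 (hKA hx) a).1 ha
    rw [commutatorElement_def]
    exact mul_mem this (inv_mem ha)
  have hker : ⁅K, A⁆ ≤ (tr.ker).map A.subtype := by
    rw [commutator_le]
    intro x hx a ha
    refine ⟨φ ⟨x, hx⟩ ⟨a, ha⟩ * (⟨a, ha⟩ : A)⁻¹, ?_, ?_⟩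
    · change tr _ = 1
      rw [map_mul, htr1, map_inv, mul_inv_cancel]
    · rw [commutatorElement_def]
      rfl
  obtain ⟨c, hc, rfl⟩ := hker hb
  have h6 : tr c = c := by
    have h7 : ∀ g : φ.range, (g : MulAut A) c = c := by
      rintro ⟨g, x, rfl⟩
      apply Subtype.ext
      rw [hφ]
      have := hbK x x.2
      change (x : G) * (c : G) = c * x at this
      rw [this]
      group
    rw [htr, Finset.prod_congr rfl fun g _ => h7 g, Finset.prod_const, Finset.card_univ]
    have h8 : c ^ 2 = 1 := Subtype.ext (hsq c c.2)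
    obtain ⟨j, hj⟩ := (Nat.odd_iff.2 (Nat.two_dvd_ne_zero.1 hodd) : Odd (Fintype.card φ.range))
    rw [hj, pow_add, pow_mul, h8, one_pow, one_mul, pow_one]
  have h9 : tr c = 1 := hc
  rw [h6] at h9
  rw [h9]
  rfl

/-- If `C_A(S)` is centralised by `K`, then `K` centralises `A`. -/
theorem le_centralizer_of_fixed {A K S : Subgroup G} (hcomm : ∀ a ∈ A, ∀ b ∈ A, a * b = b * a)
    (hsq : ∀ a ∈ A, a ^ 2 = 1) (hKA : K ≤ normalizer (A : Set G))
    (h2 : ∀ x ∈ K, ∀ n : ℕ, x ^ 2 ^ n = 1 → ∀ a ∈ A, x * a = a * x) (hS : IsPGroup 2 S)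
    (hSA : S ≤ normalizer (A : Set G)) (hSK : S ≤ normalizer (K : Set G))
    (hfix : ∀ a ∈ A, (∀ s ∈ S, s * a = a * s) → ∀ x ∈ K, x * a = a * x) : K ≤ centralizer (A : Set G) := by
  rw [← commutator_eq_bot_iff_le_centralizer]
  by_contra hne
  have hKAA : ⁅K, A⁆ ≤ A := by
    rw [commutator_le]
    intro x hx a ha
    have := (mem_normalizer_iff.1 (hKA hx) a).1 ha
    rw [commutatorElement_def]
    exact mul_mem this (inv_mem ha)
  have hA2 : IsPGroup 2 A := by
    rintro ⟨a, ha⟩
    exact ⟨1, Subtype.ext (by rw [pow_one]; exact hsq a ha)⟩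
  obtain ⟨b, hb, hb1, hbS⟩ := Half.exists_fixed (hA2.to_le hKAA) hne hS
    (fun s hs => by
      have h1 : s ∈ normalizer (K : Set G) := hSK hs
      have h2 : s ∈ normalizer (A : Set G) := hSA hs
      rw [Subgroup.mem_normalizer_iff_map_conj_eq] at h1 h2 ⊢
      rw [map_commutator, h1, h2])
  apply hb1
  refine eq_one_of_fixed hcomm hsq hKA h2 hb (hfix b (hKAA hb) fun s hs => ?_)
  have := hbS s hs
  calc s * b = s * b * s⁻¹ * s := by group
    _ = b * s := by rw [this]

end Cfsg.Agent.Omega.ThmC
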