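import Cfsg.Agent.Omega.ThmC.FourDat
import Cfsg.Agent.Omega.ThmC.Fixed
import Cfsg.Agent.Omega.ThmC.FieldT
import Cfsg.Agent.Omega.IId.LineAct
import Cfsg.Agent.Omega.IId.TwoOfC

/-!
# THEOREM C, `q ≥ 4`: the data from a minimal parabolic (helper334)

`M : NatK F S P (zl S P) ⊥ k`, `LS M` = the elements of `S` which act as elements of `SL₂(F)^k`.
-/

set_option autoImplicit false
set_option linter.unusedSectionVars false

namespace Cfsg.Agent.Omega.ThmC.FourOf

open Subgroup Cfsg Cfsg.Agent.ZN Cfsg.Agent.Omega.IId Cfsg.Agent.Omega.ThmC.Four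
open Cfsg.Agent.ZN.ChoiceBase hiding mem_zc
open Cfsg.Agent.Omega.MinPar Cfsg.Agent.Omega.FFThm
open Cfsg.Agent.MinSimple.VModule (le_normalizer_zl mem_zc zc_le zc_le_zl)
open Cfsg.Agent.Lib.SL2Mat
open Cfsg.Agent.Omega.NatPair (ap ap_mul ap_one ap_inv_ap ap_ap_inv exists_ap ap_add ap_inj ap_smul)

universe u

section gen

variable {G : Type u} [Group G]

/-- conjugacy of maximal 2-subgroups of `U` -/
theorem conj_sylow [Finite G] {U L L' : Subgroup G} (hLU : L ≤ U) (hL'U : L' ≤ U) (hL : IsPGroup 2 L)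
    (hL' : IsPGroup 2 L') (hmax : ∀ R : Subgroup G, IsPGroup 2 R → L ≤ R → R ≤ U → R = L)
    (hcard : Nat.card L' = Nat.card L) : ∃ c ∈ U, cj c L' = L := by
  have : Fact (Nat.Prime 2) := ⟨Nat.prime_two⟩
  have h1 : IsPGroup 2 (L.subgroupOf U) := hL.comap_of_injective U.subtype U.subtype_injective
  have h2 : IsPGroup 2 (L'.subgroupOf U) := hL'.comap_of_injective U.subtype U.subtype_injective
  obtain ⟨T, hT⟩ := h1.exists_le_sylow
  obtain ⟨T', hT'⟩ := h2.exists_le_sylow
  have hTL : (T : Subgroup U).map U.subtype = L := by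
    refine hmax _ (T.isPGroup'.map _) ?_ (Subgroup.map_subtype_le _)
    intro x hx
    exact ⟨⟨x, hLU hx⟩, hT (by rw [mem_subgroupOf]; exact hx), rfl⟩
  obtain ⟨g, hg⟩ := MulAction.exists_smul_eq U T' T
  refine ⟨g, g.2, ?_⟩
  refine eq_of_le_of_card_ge ?_ ?_
  · intro x hx
    rw [mem_cj] at hx
    have h3 : (⟨(g : G)⁻¹ * x * g, hL'U hx⟩ : U) ∈ T' := hT' (by rw [mem_subgroupOf]; exact hx)
    have h4 : g * ⟨(g : G)⁻¹ * x * g, hL'U hx⟩ * g⁻¹ ∈ ((g • T' : Sylow 2 U) : Subgroup U) := by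
      rw [Sylow.coe_subgroup_smul, Subgroup.mem_pointwise_smul_iff_inv_smul_mem]
      have h5 : ∀ y : U, (MulAut.conj g)⁻¹ • (g * y * g⁻¹) = y := fun y => by
        rw [MulAut.smul_def, MulAut.conj_inv_apply]
        group
      rw [h5]
      exact h3
    rw [hg] at h4
    rw [← hTL]
    refine ⟨_, h4, ?_⟩
    simp only [Subgroup.coe_subtype, Subgroup.coe_mul, Subgroup.coe_inv]
    group
  · rw [card_cj, hcard]

theorem eq_one_of_pow {F : Type*} [Field F] [CharP F 2] {a : F} {n : ℕ} (h : a ^ 2 ^ n = 1) : a = 1 := by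
  induction n with
  | zero => simpa using h
  | succ n ih =>
    apply ih
    apply eq_one_of_sq
    rw [← pow_two, ← pow_mul, ← pow_succ]
    exact h

end gen

section basic

variable {G : Type u} [Group G] {F : Type} [Field F] {S P : Subgroup G} {k : ℕ} {M : NatK F S P (zl S P) ⊥ k}

/-- the action determines the matrices -/
theorem acts_unique {g : G} {A B : Fin k → Matrix.SpecialLinearGroup (Fin 2) F}
    (hA : ActsSL M.e (zl S P) ⊥ g A) (hB : ActsSL M.e (zl S P) ⊥ g B) : A = B := by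
  funext i
  refine ap_inj fun x => ?_
  obtain ⟨v, hv, hx⟩ := exists_fac M i x
  rw [← hx, ← hA.1 v hv.1 i, hB.1 v hv.1 i]

/-- the matrices determine the action -/
theorem acts_eq {g h : G} (hg : g ∈ P) (hh : h ∈ P) {A : Fin k → Matrix.SpecialLinearGroup (Fin 2) F}
    (hA : ActsSL M.e (zl S P) ⊥ g A) (hB : ActsSL M.e (zl S P) ⊥ h A) {v : G} (hv : v ∈ zl S P) :
    g * v * g⁻¹ = h * v * h⁻¹ :=
  e_inj M (IId.cj_mem hg hv) (IId.cj_mem hh hv) (funext fun i => by rw [hA.1 v hv i, hB.1 v hv i])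

theorem acts_pow {g : G} (hg : g ∈ P) {A : Fin k → Matrix.SpecialLinearGroup (Fin 2) F}
    (hA : ActsSL M.e (zl S P) ⊥ g A) (n : ℕ) : ActsSL M.e (zl S P) ⊥ (g ^ n) (A ^ n) := by
  induction n with
  | zero => rw [pow_zero, pow_zero]; exact acts_one M
  | succ n ih => rw [pow_succ, pow_succ]; exact acts_mul hg ih hA

theorem acts_of_cent {g : G} (hg : g ∈ centralizer (zl S P : Set G)) : ActsSL M.e (zl S P) ⊥ g 1 := by
  refine ⟨fun v hv i => ?_, fun d hd => ?_⟩
  · have h1 := mem_centralizer_iff.1 hg v hv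
    have h2 : g * v * g⁻¹ = v := by rw [← h1]; group
    rw [h2, Pi.one_apply, ap_one]
  · rw [mem_bot] at hd
    rw [hd]
    group

theorem cent_of_acts {g : G} (hg : g ∈ P) (hA : ActsSL M.e (zl S P) ⊥ g 1) :
    g ∈ centralizer (zl S P : Set G) := by
  rw [mem_centralizer_iff]
  intro v hv
  have h1 := acts_eq hg (one_mem P) hA (acts_one M) hv
  have h2 : g * v * g⁻¹ = v := by rw [h1]; group
  calc v * g = (g * v * g⁻¹) * g := by rw [h2]
    _ = g * v := by group

/-- an element of 2-power order of `S` acting as an element of `SL₂(F)^k` is unipotent -/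
theorem exists_up [CharP F 2] (hSP : S ≤ P) (hS : IsPGroup 2 S) {s : G} (hs : s ∈ S)
    {A : Fin k → Matrix.SpecialLinearGroup (Fin 2) F} (hA : ActsSL M.e (zl S P) ⊥ s A) :
    ∀ i, A i = up (ent (A i) 0 1) := by
  intro i
  have hsg : sg M (hSP hs) i = i := by
    rw [← mem_normalizer_fac_iff]
    exact grp_normalizes M Set.univ {i} ⟨hSP hs, A, hA, fun j hj => absurd (Set.mem_univ j) hj⟩
  obtain ⟨v, hv, hve⟩ := exists_fac M i ![1, 0]
  have h10 : ent (A i) 1 0 = 0 := by
    have h1 := (e_conj_line M hSP hs hv.1 i).2 (by rw [hve]; rfl)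
    rw [hsg, hA.1 v hv.1 i, hve, NatPair.ap_one'] at h1
    simpa using h1
  have hap : ∀ j : ℕ, ap ((A i) ^ j) ![1, 0] = ![(ent (A i) 0 0) ^ j, 0] := by
    intro j
    induction j with
    | zero => rw [pow_zero, pow_zero, ap_one]
    | succ j ih =>
      have h2 : ap (A i) ![1, 0] = ent (A i) 0 0 • ![1, 0] := by
        apply NatPair.ext2
        · rw [NatPair.ap_zero']; simp
        · rw [NatPair.ap_one', h10]; simp
      rw [pow_succ, ap_mul, h2, ap_smul, ih]
      apply NatPair.ext2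
      · simp [pow_succ, mul_comm]
      · simp
  obtain ⟨n, hn⟩ := hS ⟨s, hs⟩
  have hn' : s ^ 2 ^ n = 1 := congrArg Subtype.val hn
  have h3 := acts_pow (hSP hs) hA (2 ^ n)
  rw [hn'] at h3
  have h4 := acts_unique h3 (acts_one M)
  have h5 := congrFun h4 i
  have h6 := hap (2 ^ n)
  rw [Pi.pow_apply, Pi.one_apply] at h5
  rw [h5, ap_one] at h6
  have h7 : (ent (A i) 0 0) ^ 2 ^ n = 1 := (congrFun h6 0).symm
  have h00 := eq_one_of_pow h7
  have h11 : ent (A i) 1 1 = 1 := by
    have h8 := det_eq (A i)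
    rw [h00, h10] at h8
    simpa using h8
  apply ext_ent
  · rw [h00, up_00]
  · rw [up_01]
  · rw [h10, up_10]
  · rw [h11, up_11]

/-- elements acting as `up b` centralise the lines -/
theorem comm_lines {g : G} (hg : g ∈ P) {b : Fin k → F} (hA : ActsSL M.e (zl S P) ⊥ g fun i => up (b i)) {v : G}
    (hv : v ∈ lines M Set.univ) : g * v * g⁻¹ = v := by
  refine e_inj M (IId.cj_mem hg hv.1.1) hv.1.1 (funext fun i => ?_)
  rw [hA.1 v hv.1.1 i]
  apply NatPair.ext2
  · rw [NatPair.ap_zero', up_00, up_01, hv.2 i]; ring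
  · rw [NatPair.ap_one', up_10, up_11, hv.2 i]; ring

end basic

section main

variable {G : Type u} [Group G] [Finite G] {F : Type} [Field F] [Finite F] [CharP F 2] {S : Sylow 2 G}
  {P : Subgroup G} {k : ℕ} (M : NatK F (S : Subgroup G) P (zl (S : Subgroup G) P) ⊥ k)

/-- `S^L`: the elements of `S` acting as elements of `SL₂(F)^k` -/
def LS : Subgroup G := (S : Subgroup G) ⊓ grp M Set.univ

variable {M}

theorem LS_le : LS M ≤ S := inf_le_left

theorem grp_univ_normal (hP : P ≤ normalizer (zl (S : Subgroup G) P : Set G)) :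
    P ≤ normalizer (grp M Set.univ : Set G) := by
  intro g hg
  apply normalizer_grp M hg
  rw [part_univ]
  exact hP hg

theorem S_le_normalizer_LS (hSP : (S : Subgroup G) ≤ P) : (S : Subgroup G) ≤ normalizer (LS M : Set G) := by
  have h1 : (S : Subgroup G) ≤ normalizer ((S : Subgroup G) : Set G) := le_normalizer
  have h2 : (S : Subgroup G) ≤ normalizer (grp M Set.univ : Set G) :=
    hSP.trans (grp_univ_normal (le_normalizer_zl _ _))
  intro s hs
  rw [mem_normalizer_iff_cj]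
  rw [LS, cj_inf, cj_eq_of_mem_normalizer (h1 hs), cj_eq_of_mem_normalizer (h2 hs)]

theorem exists_b (hSP : (S : Subgroup G) ≤ P) {s : G} (hs : s ∈ LS M) :
    ∃ b : Fin k → F, ActsSL M.e (zl (S : Subgroup G) P) ⊥ s fun i => up (b i) := by
  obtain ⟨hsS, hsP, A, hA, -⟩ := hs
  refine ⟨fun i => ent (A i) 0 1, ?_⟩
  have h1 : A = fun i => up (ent (A i) 0 1) := funext fun i => exists_up hSP S.isPGroup' hsS hA i
  rwa [← h1]

theorem mem_LS {s : G} (hSP : (S : Subgroup G) ≤ P) (hs : s ∈ (S : Subgroup G))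
    {A : Fin k → Matrix.SpecialLinearGroup (Fin 2) F}
    (hA : ActsSL M.e (zl (S : Subgroup G) P) ⊥ s A) : s ∈ LS M :=
  ⟨hs, hSP hs, A, hA, fun i hi => absurd (Set.mem_univ i) hi⟩

theorem mem_LS_of_cent {s : G} (hSP : (S : Subgroup G) ≤ P) (hs : s ∈ (S : Subgroup G))
    (hc : s ∈ centralizer (zl (S : Subgroup G) P : Set G)) : s ∈ LS M :=
  mem_LS hSP hs (acts_of_cent hc)

/-- `LS` is a maximal 2-subgroup of `grp M univ` -/
theorem LS_max (hSP : (S : Subgroup G) ≤ P) {R : Subgroup G} (hR : IsPGroup 2 R) (h1 : LS M ≤ R)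
    (h2 : R ≤ grp M Set.univ) : R = LS M := by
  obtain ⟨g, hg, hgS⟩ := Half.SymA.exists_conj_le S hSP hR (h2.trans (grp_le M _))
  have h3 : cj g R ≤ LS M := by
    intro x hx
    have hx' := mem_cj.1 hx
    have h4 : x = g * (g⁻¹ * x * g) * g⁻¹ := by group
    refine ⟨?_, ?_⟩
    · rw [h4]
      exact hgS _ hx'
    · rw [h4]
      exact (mem_normalizer_iff.1 (grp_univ_normal (le_normalizer_zl _ _) hg) _).1 (h2 hx')
  symm
  refine eq_of_le_of_card_ge h1 ?_
  calc Nat.card R = Nat.card (cj g R) := (card_cj g R).symm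
    _ ≤ Nat.card (LS M) := Nat.card_le_card_of_injective _ (inclusion_injective h3)

theorem LS_isPGroup : IsPGroup 2 (LS M) := S.isPGroup'.to_le LS_le

/-! ### The ambient facts -/

variable (hc : IsCharacteristicTwoType G) (hP : IsParS (S : Subgroup G) P)

include hc hP

theorem zl_comm' : ∀ x ∈ zl (S : Subgroup G) P, ∀ y ∈ zl (S : Subgroup G) P, x * y = y * x :=
  (Half.amb_of_loc hc S hP.isLoc).comm

theorem V_le_LS : zl (S : Subgroup G) P ≤ LS M := by
  intro v hv
  refine mem_LS_of_cent hP.le ((Half.amb_of_loc hc S hP.isLoc).VT hv) ?_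
  rw [mem_centralizer_iff]
  intro w hw
  exact zl_comm' hc hP w hw v hv

theorem o2_le_LS : o2 P ≤ LS M := by
  have h1 := hP.inf_centralizer S hc
  intro x hx
  rw [← h1] at hx
  exact mem_LS_of_cent hP.le hx.1 hx.2

/-- `C_G(O₂(P)) ≤ O₂(P)` -/
theorem cent_o2 : centralizer (o2 P : Set G) ≤ o2 P := by
  have h0 : P ≤ normalizer (o2 P : Set G) := MinSimple.VModule.le_normalizer_o2 P
  have h1 : o2 (normalizer (o2 P : Set G)) ≤ o2 P := o2_le_o2 S hP.le h0
  have h2 : o2 P ≤ o2 (normalizer (o2 P : Set G)) :=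
    MinSimple.VModule.le_o2 le_normalizer (MinSimple.VModule.o2_isPGroup _) le_rfl
  have h3 := MinSimple.Basic.char2_normalizer hc (MinSimple.VModule.o2_isPGroup P) hP.o2_ne
  refine le_trans (le_inf (centralizer_le_normalizer _) ?_) (h3.trans h1)
  exact centralizer_le h1

theorem cent_LS : centralizer (LS M : Set G) ≤ LS M :=
  (centralizer_le (o2_le_LS hc hP)).trans ((cent_o2 hc hP).trans (o2_le_LS hc hP))

theorem lines_le_zc : lines M Set.univ ≤ zc (LS M) := by
  intro v hv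
  rw [mem_zc]
  refine ⟨V_le_LS hc hP hv.1.1, fun s hs => ?_, ?_⟩
  · obtain ⟨b, hb⟩ := exists_b hP.le hs
    have := comm_lines (hP.le hs.1) hb hv
    calc s * v = (s * v * s⁻¹) * s := by group
      _ = v * s := by rw [this]
  · exact (Half.amb_of_loc hc S hP.isLoc).sq v hv.1.1

theorem zc_S_le : zc (S : Subgroup G) ≤ lines M Set.univ := by
  intro v hv
  have hvV := zc_le_zl _ P hv
  refine ⟨⟨hvV, fun i hi => absurd (Set.mem_univ i) hi⟩, fun i => ?_⟩
  classical
  obtain ⟨t, ht, hact⟩ := M.unip (Function.update 0 i 1)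
  have h1 := (mem_zc.1 hv).2.1 t ht
  have h2 : t * v * t⁻¹ = v := by rw [h1]; group
  have h3 := congrFun (hact.1 v hvV i) 0
  rw [h2, NatPair.ap_zero'] at h3
  simp only [Function.update_self, up_00, up_01, one_mul] at h3
  exact left_eq_add.1 h3

/-- `C_P(V) ∩ N(S^L)` centralises `E = Ω₁ Z(S^L)` -/
theorem cent_E : P ⊓ centralizer (zl (S : Subgroup G) P : Set G) ⊓ normalizer (LS M : Set G) ≤
    centralizer (zc (LS M) : Set G) := by
  have hnor : normalizer (LS M : Set G) ≤ normalizer (zc (LS M) : Set G) :=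
    MinSimple.VModule.normalizer_le_normalizer_zc _
  refine le_centralizer_of_fixed (S := (S : Subgroup G)) (MinSimple.VModule.zc_comm _) (MinSimple.VModule.zc_sq _)
    (inf_le_right.trans hnor) ?_ S.isPGroup' ((S_le_normalizer_LS hP.le).trans hnor) ?_ ?_
  · -- 2-elements
    rintro x ⟨⟨hxP, hxV⟩, hxN⟩ n hn a ha
    have hx2 : IsPGroup 2 (zpowers x) := by
      rintro ⟨y, j, rfl⟩
      refine ⟨n, Subtype.ext ?_⟩
      change (x ^ j) ^ 2 ^ n = 1
      rw [← zpow_natCast, ← zpow_mul, mul_comm j, zpow_mul, zpow_natCast, hn, one_zpow]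
    have hR : IsPGroup 2 (LS M ⊔ zpowers x : Subgroup G) :=
      IsPGroup.to_sup_of_normal_left' LS_isPGroup hx2 (zpowers_le.2 hxN)
    have h1 := LS_max hP.le hR le_sup_left (sup_le inf_le_right (zpowers_le.2
      ⟨hxP, 1, acts_of_cent hxV, fun _ _ => rfl⟩))
    have h2 : x ∈ LS M := by
      rw [← h1]
      exact (le_sup_right : zpowers x ≤ _) (mem_zpowers x)
    exact (mem_zc.1 ha).2.1 x h2
  · -- `S` normalises the group
    have h1 : (S : Subgroup G) ≤ normalizer (P : Set G) := hP.le.trans le_normalizer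
    have h2 : (S : Subgroup G) ≤ normalizer (centralizer (zl (S : Subgroup G) P : Set G) : Set G) := by
      have h3 : (S : Subgroup G) ≤ normalizer (zl (S : Subgroup G) P : Set G) := hP.le.trans (le_normalizer_zl _ _)
      intro s hs
      rw [mem_normalizer_iff_cj, cj_centralizer, cj_eq_of_mem_normalizer (h3 hs)]
    have h3 : (S : Subgroup G) ≤ normalizer (normalizer (LS M : Set G) : Set G) := by
      intro s hs
      rw [mem_normalizer_iff_cj, cj_normalizer, cj_eq_of_mem_normalizer (S_le_normalizer_LS hP.le hs)]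
    intro s hs
    rw [mem_normalizer_iff_cj, cj_inf, cj_inf, cj_eq_of_mem_normalizer (h1 hs), cj_eq_of_mem_normalizer (h2 hs),
      cj_eq_of_mem_normalizer (h3 hs)]
  · -- fixed points
    rintro a ha hfix x ⟨⟨-, hxV⟩, -⟩
    have h1 : a ∈ zc (S : Subgroup G) := by
      rw [mem_zc]
      exact ⟨LS_le (zc_le _ ha), hfix, (mem_zc.1 ha).2.2⟩
    exact (mem_centralizer_iff.1 hxV a (zc_le_zl _ P h1)).symm

/-- elements of `P ∩ N(S^L)` with the same action on `V` have the same action on `E` -/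
theorem act_of_eq {x y : G} (hx : x ∈ P) (hxN : x ∈ normalizer (LS M : Set G)) (hy : y ∈ P)
    (hyN : y ∈ normalizer (LS M : Set G)) {A : Fin k → Matrix.SpecialLinearGroup (Fin 2) F}
    (hA : ActsSL M.e (zl (S : Subgroup G) P) ⊥ x A) (hB : ActsSL M.e (zl (S : Subgroup G) P) ⊥ y A) :
    Act (zc (LS M)) x y := by
  have h1 : y⁻¹ * x ∈ centralizer (zc (LS M) : Set G) := by
    have h0 : y⁻¹ * x ∈ P := mul_mem (inv_mem hy) hx
    have h0' : y⁻¹ * x ∈ normalizer (LS M : Set G) := mul_mem (inv_mem hyN) hxN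
    refine cent_E (M := M) hc hP ⟨⟨h0, cent_of_acts (M := M) h0 ?_⟩, h0'⟩
    have := acts_mul hx (acts_inv hy hB) hA
    rwa [inv_mul_cancel] at this
  intro e he
  have h2 := mem_centralizer_iff.1 h1 e he
  calc x * e * x⁻¹ = y * ((y⁻¹ * x) * e) * x⁻¹ := by group
    _ = y * (e * (y⁻¹ * x)) * x⁻¹ := by rw [h2]
    _ = y * e * y⁻¹ := by group

omit [Finite G] [Finite F] [CharP F 2] hc hP in
/-- an upper triangular matrix normalises the unitriangular group -/
theorem tri_up {A : Matrix.SpecialLinearGroup (Fin 2) F} (hA : ent A 1 0 = 0) (b : F) :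
    A * up b * A⁻¹ = up (ent A 0 0 ^ 2 * b) := by
  have hd := det_eq A
  rw [hA, mul_zero, sub_zero] at hd
  apply mul_right_cancel (b := A)
  rw [inv_mul_cancel_right]
  apply ext_ent
  · rw [ent_mul, ent_mul, up_00, up_10, up_00, up_01, hA]; ring
  · rw [ent_mul, ent_mul, up_01, up_11, up_00, up_01]
    linear_combination (-(ent A 0 0 * b)) * hd
  · rw [ent_mul, ent_mul, up_00, up_10, up_10, up_11, hA]; ring
  · rw [ent_mul, ent_mul, up_01, up_11, up_10, up_11, hA]; ring

/-- the elements of `P` acting as unitriangular elements -/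
def uni (M : NatK F (S : Subgroup G) P (zl (S : Subgroup G) P) ⊥ k) : Subgroup G where
  carrier := {g | g ∈ P ∧ ∃ b : Fin k → F, ActsSL M.e (zl (S : Subgroup G) P) ⊥ g fun i => up (b i)}
  one_mem' := ⟨one_mem P, 0, by
    have : (fun i => up ((0 : Fin k → F) i)) = (1 : Fin k → Matrix.SpecialLinearGroup (Fin 2) F) :=
      funext fun i => up_zero
    rw [this]
    exact acts_one M⟩
  mul_mem' := by
    rintro g h ⟨hg, b, hb⟩ ⟨hh, c, hc⟩
    refine ⟨mul_mem hg hh, b + c, ?_⟩
    have h1 := acts_mul hh hb hc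
    have : ((fun i => up (b i)) * fun i => up (c i)) = fun i => up ((b + c) i) :=
      funext fun i => up_mul _ _
    rwa [this] at h1
  inv_mem' := by
    rintro g ⟨hg, b, hb⟩
    refine ⟨inv_mem hg, -b, ?_⟩
    have h1 := acts_inv hg hb
    have : (fun i => up (b i))⁻¹ = fun i => up ((-b) i) := funext fun i => up_inv _
    rwa [this] at h1

/-- every upper triangular element of `SL₂(F)^k` is induced by an element of `P ∩ N(S^L)` -/
theorem exists_norm (A : Fin k → Matrix.SpecialLinearGroup (Fin 2) F) (hA : ∀ i, ent (A i) 1 0 = 0) :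
    ∃ h ∈ P, h ∈ normalizer (LS M : Set G) ∧ ActsSL M.e (zl (S : Subgroup G) P) ⊥ h A := by
  obtain ⟨g, hg, hgA⟩ := M.lift A
  have hLU : LS M ≤ uni M := fun s hs => ⟨hP.le hs.1, exists_b hP.le hs⟩
  have hL'U : cj g (LS M) ≤ uni M := by
    intro x hx
    rw [mem_cj] at hx
    obtain ⟨b, hb⟩ := exists_b hP.le hx
    have h1 := acts_mul (inv_mem hg) (acts_mul (hP.le hx.1) hgA hb) (acts_inv hg hgA)
    have h2 : g * (g⁻¹ * x * g) * g⁻¹ = x := by group
    rw [h2] at h1
    refine ⟨?_, fun i => ent (A i) 0 0 ^ 2 * b i, ?_⟩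
    · rw [← h2]
      exact mul_mem (mul_mem hg (hP.le hx.1)) (inv_mem hg)
    · have h3 : A * (fun i => up (b i)) * A⁻¹ = fun i => up (ent (A i) 0 0 ^ 2 * b i) :=
        funext fun i => tri_up (hA i) (b i)
      rwa [h3] at h1
  have hmax : ∀ R : Subgroup G, IsPGroup 2 R → LS M ≤ R → R ≤ uni M → R = LS M := by
    intro R hR h1 h2
    refine LS_max hP.le hR h1 fun x hx => ?_
    obtain ⟨h3, b, hb⟩ := h2 hx
    exact ⟨h3, _, hb, fun i hi => absurd (Set.mem_univ i) hi⟩
  obtain ⟨c, ⟨hcP, b, hcb⟩, hcc⟩ := conj_sylow hLU hL'U LS_isPGroup (isPGroup_cj g LS_isPGroup) hmax (card_cj g _)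
  obtain ⟨t, ht, htb⟩ := M.unip b
  have htP := hP.le ht
  have htL : t ∈ LS M := mem_LS hP.le ht htb
  refine ⟨t⁻¹ * c * g, mul_mem (mul_mem (inv_mem htP) hcP) hg, ?_, ?_⟩
  · rw [mem_normalizer_iff_cj, ← cj_cj, ← cj_cj, hcc]
    exact cj_eq_of_mem_normalizer (inv_mem (le_normalizer htL))
  · have h1 := acts_mul hg (acts_mul hcP (acts_inv htP htb) hcb) hgA
    rwa [inv_mul_cancel, one_mul] at h1

/-! ### The torus -/

omit [Finite G] [Finite F] [CharP F 2] hc hP in
theorem dg_pow (t : F) (ht : t ≠ 0) (n : ℕ) : (dg t ht) ^ n = dg (t ^ n) (pow_ne_zero n ht) := by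
  induction n with
  | zero =>
    apply ext_ent <;> simp
  | succ n ih =>
    rw [pow_succ, ih]
    apply ext_ent
    · rw [ent_mul, dg_00, dg_00, dg_01, dg_10, dg_00]; ring
    · rw [ent_mul, dg_00, dg_01, dg_01, dg_01]; ring
    · rw [ent_mul, dg_10, dg_00, dg_11, dg_10, dg_10]; ring
    · rw [ent_mul, dg_10, dg_01, dg_11, dg_11, dg_11]
      rw [pow_succ, mul_inv]; ring

omit [Finite G] [Finite F] [CharP F 2] hc hP in
theorem ap_pow_tri {A : Matrix.SpecialLinearGroup (Fin 2) F} (hA : ent A 1 0 = 0) (j : ℕ) :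
    ap (A ^ j) ![1, 0] = ![(ent A 0 0) ^ j, 0] := by
  induction j with
  | zero => rw [pow_zero, pow_zero, ap_one]
  | succ j ih =>
    have h2 : ap A ![1, 0] = ent A 0 0 • ![1, 0] := by
      apply NatPair.ext2
      · rw [NatPair.ap_zero']; simp
      · rw [NatPair.ap_one', hA]; simp
    rw [pow_succ, ap_mul, h2, ap_smul, ih]
    apply NatPair.ext2
    · simp [pow_succ, mul_comm]
    · simp

/-- `C_V(S^L)` is the sum of the lines -/
theorem mem_lines_of_cent {v : G} (hv : v ∈ zl (S : Subgroup G) P) (h : ∀ s ∈ LS M, s * v = v * s) :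
    v ∈ lines M Set.univ := by
  classical
  refine ⟨⟨hv, fun i hi => absurd (Set.mem_univ i) hi⟩, fun i => ?_⟩
  obtain ⟨t, ht, hact⟩ := M.unip (Function.update 0 i 1)
  have h1 := h t (mem_LS hP.le ht hact)
  have h2 : t * v * t⁻¹ = v := by rw [h1]; group
  have h3 := congrFun (hact.1 v hv i) 0
  rw [h2, NatPair.ap_zero'] at h3
  simp only [Function.update_self, up_00, up_01, one_mul] at h3
  exact left_eq_add.1 h3

/-- elements of `P ∩ N(S^L)` normalise the sum of the lines -/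
theorem norm_lines {x : G} (hx : x ∈ P) (hxN : x ∈ normalizer (LS M : Set G)) {v : G}
    (hv : v ∈ lines M Set.univ) : x * v * x⁻¹ ∈ lines M Set.univ := by
  refine mem_lines_of_cent hc hP (IId.cj_mem hx hv.1.1) fun s hs => ?_
  have h1 : x⁻¹ * s * x ∈ LS M := by
    have := (mem_normalizer_iff.1 (inv_mem hxN) s).1 hs
    rwa [inv_inv] at this
  have h2 := (mem_zc.1 (lines_le_zc hc hP hv)).2.1 _ h1
  calc s * (x * v * x⁻¹) = x * ((x⁻¹ * s * x) * v) * x⁻¹ := by group
    _ = x * (v * (x⁻¹ * s * x)) * x⁻¹ := by rw [h2]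
    _ = x * v * x⁻¹ * s := by group

/-- an element of `P ∩ N(S^L)` acting as `B` is upper triangular -/
theorem tri_of_norm {x : G} (hx : x ∈ P) (hxN : x ∈ normalizer (LS M : Set G))
    {B : Fin k → Matrix.SpecialLinearGroup (Fin 2) F} (hB : ActsSL M.e (zl (S : Subgroup G) P) ⊥ x B) (i : Fin k) :
    ent (B i) 1 0 = 0 := by
  obtain ⟨v, hv, hve⟩ := exists_fac M i ![1, 0]
  have h1 : v ∈ lines M Set.univ := by
    refine ⟨⟨hv.1, fun j hj => absurd (Set.mem_univ j) hj⟩, fun j => ?_⟩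
    by_cases hj : j = i
    · rw [hj, hve]; rfl
    · rw [hv.2 j hj]; rfl
  have h2 := (norm_lines hc hP hx hxN h1).2 i
  rw [hB.1 v hv.1 i, hve, NatPair.ap_one'] at h2
  simpa using h2

end main

end Cfsg.Agent.Omega.ThmC.FourOf
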