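import Cfsg.Agent.Omega.ThmC.TwoOf
import Cfsg.Agent.Omega.ThmC.FourFix

/-!
# THEOREM C (#15545, helper610) from the case `q = 2` (helper334)

* `thmC_of : (∀ G, Stmt G) → IId.ThmC` (`q ≥ 4`: `FourOf.cc`; `q = 2`: `TwoOf.cc`);
* `wrTwo_of_stmt : (∀ G, Stmt G) → WrTwo K`.
-/

set_option autoImplicit false

namespace Cfsg.Agent.Omega.ThmC.Of

open Subgroup Cfsg Cfsg.Agent.ZN Cfsg.Agent.Omega.IId
open Cfsg.Agent.Omega.MinPar Cfsg.Agent.Omega.Frame Cfsg.Agent.Omega.FFThm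

universe u

/-- a finite field of characteristic 2 has two or at least four elements -/
theorem card_cases {F : Type} [Field F] [Finite F] [CharP F 2] : Nat.card F = 2 ∨ 4 ≤ Nat.card F := by
  have : Fact (Nat.Prime 2) := ⟨Nat.prime_two⟩
  let _ := Fintype.ofFinite F
  obtain ⟨n, -, hn⟩ := FiniteField.card F 2
  rw [Nat.card_eq_fintype_card, hn]
  have h1 : (n : ℕ) ≠ 0 := n.pos.ne'
  rcases Nat.lt_or_ge (n : ℕ) 2 with h | h
  · left
    have h2 : (n : ℕ) = 1 := by omega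
    rw [h2, pow_one]
  · right
    calc 4 = 2 ^ 2 := by norm_num
      _ ≤ 2 ^ (n : ℕ) := Nat.pow_le_pow_right (by norm_num) h

/-- **THEOREM C** from the case `q = 2`. -/
theorem thmC_of (h : ∀ (G : Type u) [Group G] [Finite G], IsCharacteristicTwoType G → ThmC.Stmt G) :
    IId.ThmC.{u} := by
  intro G _ _ hc S P hP F _ _ _ k M
  rcases card_cases (F := F) with hF | hF
  · exact TwoOf.cc (h G hc) hc hP M hF
  · exact FourOf.cc hc hP M hF

theorem wrTwo_of_stmt (h : ∀ (G : Type u) [Group G] [Finite G], IsCharacteristicTwoType G → ThmC.Stmt G)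
    (K : Cls.{u}) : WrTwo K := wrTwo_of (thmC_of h) K

end Cfsg.Agent.Omega.ThmC.Of
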