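import Cfsg.Agent.Omega.ThmC.TwoK

/-!
# THEOREM C, `q = 2`, step (2): the weights

`Dat.wdat` : `W'/K` acting on `Ω₁Z(KQ)` satisfies `TwoW.WDat`.
-/

set_option autoImplicit false
set_option linter.unusedSectionVars false

namespace Cfsg.Agent.Omega.ThmC

open scoped Pointwise
open Subgroup Cfsg Cfsg.Agent.MinSimple.VModule
open Cfsg.Agent.ZN (zc o2)
open Cfsg.Agent.Omega.IITwo.Count (conj_mem conj_mem' mem_norm)

universe u

variable {G : Type u} [Group G]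

namespace Dat

variable {S : Sylow 2 G} {Q : Subgroup G} {ι : Type} {Z : ι → Subgroup G} {x z : ι → G}

section
variable [Finite G] [Finite ι] (D : Dat S Q Z x z) {o : ι}

open Classical in
/-- `x l` on `Ω₁Z(KQ)`. -/
noncomputable def xh (D : Dat S Q Z x z) (o l : ι) : ↥(NG (KQ S Q (z o))) :=
  if h : l ≠ o then phi (D.x_nor_ZK h) else 1

theorem xh_eq {l : ι} (h : l ≠ o) : D.xh o l = phi (D.x_nor_ZK h) := dif_pos h

/-- the projections on `Ω₁Z(KQ)`. -/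
abbrev pK (D : Dat S Q Z x z) (o l : ι) : Md (KQ S Q (z o)) →+ Md (KQ S Q (z o)) := D.pX D.ZK_le D.pr_ZK l

include D in
theorem pr_comm_S0 {s : G} (hs : s ∈ S0 (S : Subgroup G) Z) (l : ι) {v : G} (hv : v ∈ zc Q) :
    s * pr (x l) v * s⁻¹ = pr (x l) (s * v * s⁻¹) := by
  have h2 := D.pr_conj (S0_le hs) l hv
  rwa [(D.mem_S0_iff (S0_le hs)).mp hs l] at h2

theorem Ux {u : ↥(NG (KQ S Q (z o)))} (hu : u ∈ img (KQ S Q (z o)) (S0 (S : Subgroup G) Z)) {l : ι}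
    (hl : l ≠ o) : u * D.xh o l * u⁻¹ = D.xh o l ∨ u * D.xh o l * u⁻¹ = (D.xh o l)⁻¹ := by
  obtain ⟨s, hsN, hs, rfl⟩ := mem_img.mp hu
  rw [D.xh_eq hl, phi_mul, phi_inv, phi_mul, phi_inv, phi_eq_iff, phi_eq_iff]
  have h1 := (D.sg_spec (S0_le hs) l).2
  rw [(D.mem_S0_iff (S0_le hs)).mp hs l] at h1
  rcases h1 with h1 | h1
  · exact Or.inl fun v hv => h1 v (D.ZK_le hv)
  · exact Or.inr fun v hv => by rw [inv_inv]; exact h1 v (D.ZK_le hv)

/-- the elements of `W'` commuting with all `x l`, `l ≠ o`, on `Ω₁Z(KQ)`. -/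
def CX (S : Sylow 2 G) (Q : Subgroup G) (x z : ι → G) (o : ι) : Subgroup G where
  carrier := {g | g ∈ Wp S Q (z o) ∧ ∀ l, l ≠ o → ∀ v ∈ zc (KQ S Q (z o)),
    g * (x l * v * (x l)⁻¹) * g⁻¹ = x l * (g * v * g⁻¹) * (x l)⁻¹}
  one_mem' := ⟨one_mem _, fun l _ v _ => by group⟩
  mul_mem' := by
    rintro a b ⟨ha1, ha2⟩ ⟨hb1, hb2⟩
    refine ⟨mul_mem ha1 hb1, fun l hl v hv => ?_⟩
    have h1 := hb2 l hl v hv
    have h2 := ha2 l hl _ (conj_mem (Wp_nor_ZK hb1) hv)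
    calc a * b * (x l * v * (x l)⁻¹) * (a * b)⁻¹ = a * (b * (x l * v * (x l)⁻¹) * b⁻¹) * a⁻¹ := by group
      _ = x l * (a * (b * v * b⁻¹) * a⁻¹) * (x l)⁻¹ := by rw [h1, h2]
      _ = _ := by group
  inv_mem' := by
    rintro a ⟨ha1, ha2⟩
    refine ⟨inv_mem ha1, fun l hl v hv => ?_⟩
    have h2 := ha2 l hl _ (conj_mem (Wp_nor_ZK (inv_mem ha1)) hv)
    calc a⁻¹ * (x l * v * (x l)⁻¹) * a⁻¹⁻¹ =
        a⁻¹ * (x l * (a * (a⁻¹ * v * a⁻¹⁻¹) * a⁻¹) * (x l)⁻¹) * a := by group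
      _ = a⁻¹ * (a * (x l * (a⁻¹ * v * a⁻¹⁻¹) * (x l)⁻¹) * a⁻¹) * a := by rw [h2]
      _ = _ := by group

theorem mem_CX {g : G} : g ∈ CX S Q x z o ↔ g ∈ Wp S Q (z o) ∧ ∀ l, l ≠ o → ∀ v ∈ zc (KQ S Q (z o)),
    g * (x l * v * (x l)⁻¹) * g⁻¹ = x l * (g * v * g⁻¹) * (x l)⁻¹ := Iff.rfl

theorem mem_CX' {g : G} (hg : g ∈ Wp S Q (z o)) :
    g ∈ CX S Q x z o ↔ ∀ l, l ≠ o → phi (Wp_nor_ZK hg) * D.xh o l = D.xh o l * phi (Wp_nor_ZK hg) := by
  rw [mem_CX]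
  constructor
  · rintro ⟨-, h⟩ l hl
    rw [D.xh_eq hl, phi_mul, phi_mul, phi_eq_iff]
    intro v hv
    calc g * x l * v * (g * x l)⁻¹ = g * (x l * v * (x l)⁻¹) * g⁻¹ := by group
      _ = _ := h l hl v hv
      _ = _ := by group
  · intro h
    refine ⟨hg, fun l hl v hv => ?_⟩
    have h1 := h l hl
    rw [D.xh_eq hl, phi_mul, phi_mul, phi_eq_iff] at h1
    calc g * (x l * v * (x l)⁻¹) * g⁻¹ = g * x l * v * (g * x l)⁻¹ := by group
      _ = _ := h1 v hv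
      _ = _ := by group

include D in
theorem S0_nor_CX : S0 (S : Subgroup G) Z ≤ normalizer (CX S Q x z o : Set G) := by
  intro s hs
  refine mem_norm fun g hg => ?_
  have hgW : g ∈ Wp S Q (z o) := (mem_CX.mp hg).1
  have hgN := Wp_nor_ZK hgW
  have hsN := D.S0_nor_ZK (o := o) hs
  rw [D.mem_CX' hgW] at hg
  rw [D.mem_CX' (D.S0_conj_Wp hs hgW)]
  intro l hl
  have h1 : phi (Wp_nor_ZK (D.S0_conj_Wp hs hgW)) = phi hsN * phi hgN * (phi hsN)⁻¹ := by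
    rw [phi_mul, phi_inv, phi_mul]
  rw [h1]
  have hc : Commute (phi hgN) (D.xh o l) := hg l hl
  have hu : (phi hsN)⁻¹ ∈ img (KQ S Q (z o)) (S0 (S : Subgroup G) Z) := inv_mem (phi_mem_img hsN hs)
  have h2 : Commute (phi hgN) ((phi hsN)⁻¹ * D.xh o l * (phi hsN)⁻¹⁻¹) := by
    rcases D.Ux hu hl with h | h
    · rw [h]; exact hc
    · rw [h]; exact hc.inv_right
  have h3 := (Commute.conj_iff (phi hsN)).mpr h2
  have h4 : phi hsN * ((phi hsN)⁻¹ * D.xh o l * (phi hsN)⁻¹⁻¹) * (phi hsN)⁻¹ = D.xh o l := by group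
  rw [h4] at h3
  exact h3

include D in
/-- `w ∈ C_{W'}(D)` acts trivially on `Ω₁Z(KQ)`. -/
theorem CX_le [Fintype ι] : CX S Q x z o ≤ S0 (S : Subgroup G) Z := by
  by_contra hne
  have hA : IsPGroup 2 ↥(S0 (S : Subgroup G) Z ⊔ CX S Q x z o) :=
    (S.2.to_le S0_le : IsPGroup 2 ↥(S0 (S : Subgroup G) Z)).to_sup_of_normal_right'
      ((WW_two (z o)).to_le (fun g hg => Wp_le (mem_CX.mp hg).1)) D.S0_nor_CX
  obtain ⟨n, hn, hn1, hn2⟩ := exists_normalizer hA le_sup_left (fun h => hne (le_sup_right.trans h))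
  have h1 : n ∈ (S0 (S : Subgroup G) Z : Set G) * (CX S Q x z o : Set G) := by
    rw [← coe_mul_of_left_le_normalizer_right _ _ D.S0_nor_CX]
    exact hn
  obtain ⟨s, hs, c, hc, rfl⟩ := h1
  have hcN : c ∈ normalizer (S0 (S : Subgroup G) Z : Set G) := by
    have := mul_mem (inv_mem (le_normalizer hs)) hn2
    simpa using this
  have hcS : c ∉ S0 (S : Subgroup G) Z := fun h => hn1 (mul_mem hs h)
  apply hcS
  have hcE : c ∈ normalizer (zc (S0 (S : Subgroup G) Z) : Set G) := normalizer_le_normalizer_zc _ hcN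
  have hcW : c ∈ Wp S Q (z o) := (mem_CX.mp hc).1
  have hcK := Wp_nor_ZK hcW
  have hc2 : ∃ n : ℕ, c ^ 2 ^ n = 1 := by
    obtain ⟨n, hn⟩ := WW_two (z o) ⟨c, Wp_le hcW⟩
    exact ⟨n, congrArg Subtype.val hn⟩
  refine D.mem_S0_of hc2 ?_ hcN
  rw [← phi_eq_one_iff hcE]
  have hcomm : ∀ l, l ≠ o → ∀ v ∈ zc (KQ S Q (z o)), c * pr (x l) v * c⁻¹ = pr (x l) (c * v * c⁻¹) := by
    intro l hl v hv
    have h1 := (mem_CX.mp hc).2 l hl
    have h2 := h1 v hv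
    have h3 := h1 _ (conj_mem (D.x_nor_ZK hl) hv)
    unfold pr
    rw [← h2, ← h3]; group
  obtain ⟨n, hn⟩ := hc2
  refine TwoN.eq_one D.ndat ⟨n, ?_⟩ ?_
  · rw [pow_phi, phi_eq_one_iff, hn]; exact one_mem _
  · have hl0 : ∀ l, l ≠ o → ∀ a, phi hcE • D.pE l a = D.pE l (phi hcE • a) := by
      intro l hl a
      apply Md.ext
      rw [val_phi, val_pX, val_pX, val_phi]
      exact hcomm l hl _ (D.E_le_ZK a.val_mem)
    intro l a
    rcases eq_or_ne l o with rfl | hl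
    · classical
      have h1 := D.pX_sum (hX := D.E_le) (h := D.pr_E) a
      have h2 := D.pX_sum (hX := D.E_le) (h := D.pr_E) (phi hcE • a)
      rw [← Finset.add_sum_erase _ _ (Finset.mem_univ l)] at h1 h2
      have h3 := congrArg (fun b => phi hcE • b) h1
      simp only [smul_add, Finset.smul_sum] at h3
      have h4 : ∑ m ∈ Finset.univ.erase l, phi hcE • D.pE m a = ∑ m ∈ Finset.univ.erase l, D.pE m (phi hcE • a) :=
        Finset.sum_congr rfl fun m hm => hl0 m (Finset.ne_of_mem_erase hm) a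
      rw [h4] at h3
      exact add_right_cancel (h3.trans h2.symm)
    · exact hl0 l hl a

theorem wdat [Fintype ι] : TwoW.WDat o (D.pK o) (D.xh o) (img (KQ S Q (z o)) (Wp S Q (z o)))
    (img (KQ S Q (z o)) (S0 (S : Subgroup G) Z)) where
  two := Md.two
  faith _ h := NG_faith h
  idem l a := D.pX_idem l a
  orth l m h a := D.pX_orth h a
  sum a := D.pX_sum a
  px := by
    intro l hl a
    rw [D.xh_eq hl]
    exact Md.ext rfl
  xt := by
    intro l hl m hm a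
    rw [D.xh_eq hl]
    apply Md.ext
    rw [val_phi]
    exact D.triv l m hm.symm _ (D.pX_mem m a)
  H2 := img_isPGroup ((WW_two (z o)).to_le Wp_le)
  U2 := img_isPGroup (S.2.to_le S0_le)
  xH := by
    intro l hl h hh
    obtain ⟨w, hwN, hw, rfl⟩ := mem_img.mp hh
    rw [D.xh_eq hl, phi_mul, phi_inv, phi_mul]
    exact phi_mem_img _ (D.x_conj_Wp hl hw)
  UH := by
    intro u hu h hh
    obtain ⟨w, hwN, hw, rfl⟩ := mem_img.mp hh
    obtain ⟨s, hsN, hs, rfl⟩ := mem_img.mp hu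
    rw [phi_mul, phi_inv, phi_mul]
    exact phi_mem_img _ (D.S0_conj_Wp hs hw)
  Ux := fun u hu l hl => D.Ux hu hl
  Uπ := by
    intro u hu l a
    obtain ⟨s, hsN, hs, rfl⟩ := mem_img.mp hu
    apply Md.ext
    rw [val_phi, val_pX, val_pX, val_phi]
    exact D.pr_comm_S0 hs l (D.ZK_le a.val_mem)
  CH := by
    intro h hh hc
    obtain ⟨w, hwN, hw, rfl⟩ := mem_img.mp hh
    have h1 : w ∈ CX S Q x z o := (D.mem_CX' hw).mpr hc
    rw [phi_eq_one_iff]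
    exact D.K_le_C (mem_inf.mpr ⟨Wp_le hw, S0_le (D.CX_le h1)⟩)

include D in
/-- an element of `W'` commuting with `S⁰` on `Ω₁Z(KQ)` normalises `S⁰`. -/
theorem nor_S0_of {w : G} (hw : w ∈ Wp S Q (z o))
    (h : ∀ u : ↥(NG (KQ S Q (z o))), u ∈ img (KQ S Q (z o)) (S0 (S : Subgroup G) Z) →
      u * phi (Wp_nor_ZK hw) * u⁻¹ = phi (Wp_nor_ZK hw)) :
    w ∈ normalizer (S0 (S : Subgroup G) Z : Set G) := by
  refine mem_norm fun s hs => ?_
  have hsN := D.S0_nor_ZK (o := o) hs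
  have h1 := h _ (phi_mem_img hsN hs)
  have h2 : w * s * w⁻¹ * s⁻¹ ∈ Wp S Q (z o) := by
    have := mul_mem hw (D.S0_conj_Wp hs (inv_mem hw))
    have e : w * (s * w⁻¹ * s⁻¹) = w * s * w⁻¹ * s⁻¹ := by group
    rwa [e] at this
  have h3 : w * s * w⁻¹ * s⁻¹ ∈ centralizer (zc (KQ S Q (z o)) : Set G) := by
    rw [← phi_eq_one_iff (Wp_nor_ZK h2)]
    have h4 : phi (Wp_nor_ZK h2) = phi (Wp_nor_ZK hw) * (phi hsN * phi (Wp_nor_ZK hw) * (phi hsN)⁻¹)⁻¹ := by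
      rw [phi_mul, phi_inv, phi_mul, phi_inv, phi_mul]
      rw [phi_eq_iff]
      intro v _
      group
    rw [h4, h1, mul_inv_cancel]
  have h5 := D.inf_le_S0 (D.Wp_faith h2 h3)
  have h6 : w * s * w⁻¹ = (w * s * w⁻¹ * s⁻¹) * s := by group
  rw [h6]
  exact mul_mem h5 hs

end

end Dat

end Cfsg.Agent.Omega.ThmC
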