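import Cfsg.Agent.Omega.ThmC.TwoData

/-!
# THEOREM C, `q = 2`: the module `Md X = Ω₁Z(X)`, written additively

`val : Md X → G`, `cjE hg : MulAut (zc X)` = conjugation by `g ∈ N(zc X)`, `lft` = additive
endomorphisms of `Md X` from functions on `G`, `inc : Md X →+ Md Y`.
-/

set_option autoImplicit false

namespace Cfsg.Agent.Omega.ThmC

open Subgroup Cfsg Cfsg.Agent.MinSimple.VModule
open Cfsg.Agent.ZN (zc o2)

universe u

variable {G : Type u} [Group G]

/-- `Ω₁Z(X)`, additively. -/
def Md (X : Subgroup G) : Type u := Additive ↥(zc X)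

namespace Md

variable {X Y : Subgroup G}

instance : AddGroup (Md X) := inferInstanceAs (AddGroup (Additive ↥(zc X)))

instance : AddCommGroup (Md X) :=
  { (inferInstance : AddGroup (Md X)) with
    add_comm := fun a b => by
      apply Additive.toMul.injective
      exact Subtype.ext (zc_comm X _ (Additive.toMul a : ↥(zc X)).2 _ (Additive.toMul b : ↥(zc X)).2) }

instance [Finite G] : Finite (Md X) := inferInstanceAs (Finite (Additive ↥(zc X)))

instance : DistribMulAction (MulAut ↥(zc X)) (Md X) where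
  smul f a := Additive.ofMul (f (Additive.toMul a))
  one_smul _ := rfl
  mul_smul _ _ _ := rfl
  smul_zero f := congrArg Additive.ofMul (map_one f)
  smul_add f a b := congrArg Additive.ofMul (map_mul f _ _)

/-- the underlying element of `G`. -/
def val (a : Md X) : G := ((Additive.toMul (α := ↥(zc X)) a : ↥(zc X)) : G)

/-- the element of `Md X` of an element of `zc X`. -/
def mk (v : G) (hv : v ∈ zc X) : Md X := Additive.ofMul (⟨v, hv⟩ : ↥(zc X))

theorem val_mem (a : Md X) : val a ∈ zc X := (Additive.toMul (α := ↥(zc X)) a : ↥(zc X)).2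

@[simp] theorem val_mk (v : G) (hv : v ∈ zc X) : val (mk v hv) = v := rfl

theorem ext {a b : Md X} (h : val a = val b) : a = b :=
  Additive.toMul.injective (Subtype.ext h)

theorem val_inj {a b : Md X} : val a = val b ↔ a = b := ⟨ext, congrArg val⟩

@[simp] theorem val_zero : val (0 : Md X) = 1 := rfl

@[simp] theorem val_add (a b : Md X) : val (a + b) = val a * val b := rfl

theorem val_eq_one {a : Md X} : val a = 1 ↔ a = 0 := ⟨fun h => ext (by simpa using h), fun h => by simp [h]⟩

theorem two (a : Md X) : a + a = 0 := by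
  apply ext
  have := zc_sq X _ (val_mem a)
  rw [pow_two] at this
  simpa using this

theorem neg_eq (a : Md X) : -a = a := neg_eq_of_add_eq_zero_left (two a)

/-- conjugation by `g ∈ N(zc X)`. -/
def cjE {g : G} (hg : g ∈ normalizer (zc X : Set G)) : MulAut ↥(zc X) :=
  (zc X).normalizerMonoidHom ⟨g, hg⟩

@[simp] theorem val_cjE {g : G} (hg : g ∈ normalizer (zc X : Set G)) (a : Md X) :
    val (cjE hg • a) = g * val a * g⁻¹ := rfl

theorem val_smul (f : MulAut ↥(zc X)) (a : Md X) : val (f • a) = ((f ⟨val a, val_mem a⟩ : ↥(zc X)) : G) :=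
  rfl

theorem faith {f : MulAut ↥(zc X)} (h : ∀ a : Md X, f • a = a) : f = 1 := by
  ext v
  exact congrArg val (h (mk (v : G) v.2))

theorem ext_smul {f g : MulAut ↥(zc X)} (h : ∀ a : Md X, f • a = g • a) : f = g := by
  have : g⁻¹ * f = 1 := faith (fun a => by rw [mul_smul, h, inv_smul_smul])
  exact (inv_mul_eq_one.mp this).symm

/-- endomorphisms from functions on `G`. -/
def lft (f : G → G) (h1 : ∀ v ∈ zc X, f v ∈ zc X) (h2 : ∀ v ∈ zc X, ∀ w ∈ zc X, f (v * w) = f v * f w) :
    Md X →+ Md X :=
  AddMonoidHom.mk' (fun a => mk (f (val a)) (h1 _ (val_mem a))) (fun a b => ext (by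
    simp only [val_mk, val_add]
    exact h2 _ (val_mem a) _ (val_mem b)))

@[simp] theorem val_lft (f : G → G) (h1 : ∀ v ∈ zc X, f v ∈ zc X)
    (h2 : ∀ v ∈ zc X, ∀ w ∈ zc X, f (v * w) = f v * f w) (a : Md X) :
    val (lft f h1 h2 a) = f (val a) := rfl

/-- inclusion. -/
def inc (h : zc X ≤ zc Y) : Md X →+ Md Y :=
  AddMonoidHom.mk' (fun a => mk (val a) (h (val_mem a))) (fun a b => ext (by simp))

@[simp] theorem val_inc (h : zc X ≤ zc Y) (a : Md X) : val (inc h a) = val a := rfl

theorem inc_inj (h : zc X ≤ zc Y) {a b : Md X} (hab : inc h a = inc h b) : a = b :=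
  ext (by simpa using congrArg val hab)

end Md

end Cfsg.Agent.Omega.ThmC
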