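import Cfsg.Agent.Lib.CoprimeHyperplane

/-!
# THEOREM C, case `q ≥ 4` (bb OMEGA 16418, helper522): the coprime lemma

Commuting elements `h l` of order dividing the odd prime `p` normalise the `2`-group `W ≠ 1` and have no common fixed
point on `W`: for one `a`, all the `h l * (h a ^ n l)⁻¹` have a common fixed point `w ≠ 1` in `W`.
-/

set_option autoImplicit false

namespace Cfsg.Agent.Omega.ThmC.Four

open Subgroup

/-- in an elementary abelian `p`-group `H`, an element outside of a hyperplane `B` generates `H` modulo `B` -/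
theorem exists_pow_mem {N : Type*} [Group N] [Finite N] {p : ℕ} (hp : p.Prime) {H B : Subgroup N}
    (hc : ∀ x ∈ H, ∀ y ∈ H, x * y = y * x) (hi : B.relIndex H = p) {x y : N} (hx : x ∈ H)
    (hy : y ∈ H) (hyB : y ∉ B) : ∃ n : ℕ, x * (y ^ n)⁻¹ ∈ B := by
  have : Fact p.Prime := ⟨hp⟩
  have hn : (B.subgroupOf H).Normal := ⟨fun b hb g => by
    rw [mem_subgroupOf] at hb ⊢
    have h1 : ((g * b * g⁻¹ : H) : N) = b := by
      rw [coe_mul, coe_mul, coe_inv, hc _ g.2 _ b.2, mul_inv_cancel_right]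
    rw [h1]; exact hb⟩
  have hcard : Nat.card (H ⧸ B.subgroupOf H) = p := by
    rw [← Subgroup.index_eq_card]
    exact hi
  have hy1 : (QuotientGroup.mk (⟨y, hy⟩ : H) : H ⧸ B.subgroupOf H) ≠ 1 := by
    rw [Ne, QuotientGroup.eq_one_iff, mem_subgroupOf]
    exact hyB
  obtain ⟨n, hn⟩ := mem_powers_of_prime_card (g' := (QuotientGroup.mk (⟨x, hx⟩ : H) : H ⧸ B.subgroupOf H))
    hcard hy1
  refine ⟨n, ?_⟩
  have h2 : (QuotientGroup.mk ((⟨x, hx⟩ : H) * ((⟨y, hy⟩ : H) ^ n)⁻¹) : H ⧸ B.subgroupOf H) = 1 := by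
    rw [QuotientGroup.mk_mul, QuotientGroup.mk_inv, QuotientGroup.mk_pow]
    rw [← hn]
    exact mul_inv_cancel _
  rw [QuotientGroup.eq_one_iff, mem_subgroupOf] at h2
  exact h2

theorem exists_hyperplane {N : Type*} [Group N] [Finite N] {p : ℕ} (hp : p.Prime) (hp2 : p ≠ 2) {k : ℕ}
    {h : Fin k → N} (hc : ∀ l m, h l * h m = h m * h l) (hpow : ∀ l, h l ^ p = 1) {W : Subgroup N}
    (hW : IsPGroup 2 W) (hne : W ≠ ⊥) (hn : ∀ l, h l ∈ normalizer (W : Set N))
    (hfix : ∀ w ∈ W, (∀ l, w * h l = h l * w) → w = 1) :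
    ∃ (a : Fin k) (n : Fin k → ℕ), n a = 1 ∧ ∃ w ∈ W, w ≠ 1 ∧
      ∀ l, w * (h l * (h a ^ n l)⁻¹) = (h l * (h a ^ n l)⁻¹) * w := by
  classical
  have : Fact p.Prime := ⟨hp⟩
  set H : Subgroup N := closure (Set.range h) with hH
  have hhH : ∀ l, h l ∈ H := fun l => subset_closure ⟨l, rfl⟩
  have hcen : H ≤ centralizer (Set.range h) := by
    rw [hH, closure_le]
    rintro _ ⟨l, rfl⟩
    rw [SetLike.mem_coe, mem_centralizer_iff]
    rintro _ ⟨m, rfl⟩
    exact hc m l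
  have hcen2 : H ≤ centralizer (H : Set N) := by
    conv_lhs => rw [hH]
    rw [closure_le]
    rintro _ ⟨l, rfl⟩
    rw [SetLike.mem_coe, mem_centralizer_iff]
    intro x hx
    exact (mem_centralizer_iff.1 (hcen hx) (h l) ⟨l, rfl⟩).symm
  have hcomm : ∀ x ∈ H, ∀ y ∈ H, x * y = y * x := fun x hx y hy =>
    mem_centralizer_iff.1 (hcen2 hy) x hx
  have hHp : ∀ x ∈ H, x ^ p = 1 := by
    intro x hx
    induction hx using closure_induction with
    | mem x hx => obtain ⟨l, rfl⟩ := hx; exact hpow l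
    | one => exact one_pow p
    | mul x y hx hy h1 h2 => rw [(show Commute x y from hcomm x hx y hy).mul_pow, h1, h2, one_mul]
    | inv x hx h1 => rw [inv_pow, h1, inv_one]
  have hel : Cfsg.IsElementaryAbelian p H :=
    ⟨⟨⟨fun a b => Subtype.ext (hcomm a a.2 b b.2)⟩⟩, hHp⟩
  have hHn : H ≤ normalizer (W : Set N) := by
    rw [hH, closure_le]
    rintro _ ⟨l, rfl⟩
    exact hn l
  have hH1 : H ≠ ⊥ := by
    intro h1
    apply hne
    rw [eq_bot_iff]
    intro w hw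
    rw [mem_bot]
    refine hfix w hw fun l => ?_
    have h2 : h l = 1 := by
      have := hhH l
      rwa [h1, mem_bot] at this
    rw [h2, one_mul, mul_one]
  have hpW : ¬ p ∣ Nat.card W := by
    obtain ⟨n, hn⟩ := IsPGroup.iff_card.1 hW
    rw [hn]
    intro h1
    exact hp2 ((Nat.prime_dvd_prime_iff_eq hp Nat.prime_two).1 (hp.dvd_of_dvd_pow h1))
  have hgen := Cfsg.Agent.Lib.CoprimeHyperplane.iSup_centralizer_hyperplane hel hH1 hpW hHn
  obtain ⟨B, hB⟩ : ∃ B : {B : Subgroup N // B ≤ H ∧ B.relIndex H = p},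
      W ⊓ centralizer ((B : Subgroup N) : Set N) ≠ ⊥ := by
    by_contra h1
    push Not at h1
    apply hne
    rw [← hgen, iSup_eq_bot]
    exact h1
  obtain ⟨B, hBH, hBi⟩ := B
  obtain ⟨w, hw, hw1⟩ := (Subgroup.bot_or_exists_ne_one _).resolve_left hB
  obtain ⟨hwW, hwB⟩ := mem_inf.1 hw
  obtain ⟨a, ha⟩ : ∃ a, h a ∉ B := by
    by_contra h1
    push Not at h1
    exact hw1 (hfix w hwW fun l => (mem_centralizer_iff.1 hwB (h l) (h1 l)).symm)
  have hex : ∀ l, ∃ n : ℕ, (l = a → n = 1) ∧ h l * (h a ^ n)⁻¹ ∈ B := by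
    intro l
    by_cases hla : l = a
    · refine ⟨1, fun _ => rfl, ?_⟩
      rw [hla, pow_one, mul_inv_cancel]
      exact B.one_mem
    · obtain ⟨n, hn⟩ := exists_pow_mem hp hcomm hBi (hhH l) (hhH a) ha
      exact ⟨n, fun h => absurd h hla, hn⟩
  choose n hn1 hn2 using hex
  exact ⟨a, n, hn1 a rfl, w, hwW, hw1, fun l => (mem_centralizer_iff.1 hwB _ (hn2 l)).symm⟩

end Cfsg.Agent.Omega.ThmC.Four
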