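import Cfsg.Agent.Omega.ThmC.FourDat

/-!
# THEOREM C, case `q ≥ 4`: sums of operators over subgroups

`avg ρ X = ∑_{x ∈ X} ρ x` : if `|X|` is odd and `2A = 0`, this is the projection onto `C_A(X)`.
-/

set_option autoImplicit false

namespace Cfsg.Agent.Omega.ThmC.Four

open Subgroup Cfsg

universe u v

section avg

variable {N : Type u} {A : Type v} [Group N] [Finite N] [AddCommGroup A] (ρ : N →* AddMonoid.End A)

/-- The sum of the operators `ρ x`, `x ∈ X`. -/
noncomputable def avg (X : Subgroup N) : AddMonoid.End A := ∑ᶠ x : X, ρ (x : N)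

theorem mul_avg (X : Subgroup N) (T : AddMonoid.End A) : T * avg ρ X = ∑ᶠ x : X, T * ρ (x : N) :=
  mul_finsum' _ _ (Set.toFinite _)

theorem avg_mul (X : Subgroup N) (T : AddMonoid.End A) : avg ρ X * T = ∑ᶠ x : X, ρ (x : N) * T :=
  finsum_mul' _ _ (Set.toFinite _)

theorem avg_apply (X : Subgroup N) (a : A) : avg ρ X a = ∑ᶠ x : X, ρ (x : N) a := by
  exact (AddMonoidHom.eval a : (A →+ A) →+ A).map_finsum (f := fun x : X => ρ (x : N)) (Set.toFinite _)

theorem avg_conj (X : Subgroup N) (s : N) :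
    ρ s * avg ρ X = avg ρ (X.map (MulAut.conj s).toMonoidHom) * ρ s := by
  rw [mul_avg, avg_mul]
  rw [← finsum_comp_equiv (X.equivMapOfInjective (MulAut.conj s).toMonoidHom (MulAut.conj s).injective).toEquiv]
  refine finsum_congr fun x => ?_
  rw [← map_mul, ← map_mul]
  have : (((X.equivMapOfInjective (MulAut.conj s).toMonoidHom (MulAut.conj s).injective).toEquiv x :
      X.map (MulAut.conj s).toMonoidHom) : N) = s * x * s⁻¹ := rfl
  rw [this, inv_mul_cancel_right]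

theorem left_avg {X : Subgroup N} {y : N} (hy : y ∈ X) : ρ y * avg ρ X = avg ρ X := by
  rw [mul_avg]
  calc (∑ᶠ x : X, ρ y * ρ (x : N)) = ∑ᶠ x : X, ρ ((Equiv.mulLeft (⟨y, hy⟩ : X) x : X) : N) := by
        refine finsum_congr fun x => ?_
        rw [← map_mul]
        rfl
    _ = _ := finsum_comp_equiv (Equiv.mulLeft (⟨y, hy⟩ : X)) (f := fun x : X => ρ (x : N))

theorem avg_right {X : Subgroup N} {y : N} (hy : y ∈ X) : avg ρ X * ρ y = avg ρ X := by
  rw [avg_mul]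
  calc (∑ᶠ x : X, ρ (x : N) * ρ y) = ∑ᶠ x : X, ρ ((Equiv.mulRight (⟨y, hy⟩ : X) x : X) : N) := by
        refine finsum_congr fun x => ?_
        rw [← map_mul]
        rfl
    _ = _ := finsum_comp_equiv (Equiv.mulRight (⟨y, hy⟩ : X)) (f := fun x : X => ρ (x : N))

theorem commute_avg {X : Subgroup N} {T : AddMonoid.End A} (h : ∀ x ∈ X, T * ρ x = ρ x * T) :
    T * avg ρ X = avg ρ X * T := by
  rw [mul_avg, avg_mul]
  exact finsum_congr fun x => h x x.2

/-- `T + T = 0`. -/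
theorem End_two (h2 : ∀ a : A, a + a = 0) (T : AddMonoid.End A) : T + T = 0 := by
  ext a
  exact h2 _

theorem odd_nsmul {M : Type*} [AddCommGroup M] (h2 : ∀ a : M, a + a = 0) {n : ℕ} (hn : Odd n) (a : M) :
    n • a = a := by
  obtain ⟨m, rfl⟩ := hn
  rw [add_smul, mul_comm, mul_smul, two_smul, h2, smul_zero, zero_add, one_smul]

theorem finsum_odd_const {M : Type*} [AddCommGroup M] (h2 : ∀ a : M, a + a = 0) {X : Subgroup N}
    (hX : Odd (Nat.card X)) (a : M) : (∑ᶠ _ : X, a) = a := by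
  classical
  let _ := Fintype.ofFinite X
  rw [finsum_eq_sum_of_fintype, Finset.sum_const, Finset.card_univ, ← Nat.card_eq_fintype_card]
  exact odd_nsmul h2 hX a

theorem avg_mul_of_fix (h2 : ∀ a : A, a + a = 0) {X : Subgroup N} (hX : Odd (Nat.card X))
    {T : AddMonoid.End A} (h : ∀ x ∈ X, ρ x * T = T) : avg ρ X * T = T := by
  rw [avg_mul]
  calc (∑ᶠ x : X, ρ (x : N) * T) = ∑ᶠ _ : X, T := finsum_congr fun x => h x x.2
    _ = T := finsum_odd_const (End_two h2) hX T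

theorem mul_avg_of_fix (h2 : ∀ a : A, a + a = 0) {X : Subgroup N} (hX : Odd (Nat.card X))
    {T : AddMonoid.End A} (h : ∀ x ∈ X, T * ρ x = T) : T * avg ρ X = T := by
  rw [mul_avg]
  calc (∑ᶠ x : X, T * ρ (x : N)) = ∑ᶠ _ : X, T := finsum_congr fun x => h x x.2
    _ = T := finsum_odd_const (End_two h2) hX T

theorem avg_apply_of_fix (h2 : ∀ a : A, a + a = 0) {X : Subgroup N} (hX : Odd (Nat.card X))
    {a : A} (h : ∀ x ∈ X, ρ x a = a) : avg ρ X a = a := by
  rw [avg_apply]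
  calc (∑ᶠ x : X, ρ (x : N) a) = ∑ᶠ _ : X, a := finsum_congr fun x => h x x.2
    _ = a := finsum_odd_const h2 hX a

/-- `ρ y` fixes `avg X a` for `y ∈ X`. -/
theorem fix_avg_apply {X : Subgroup N} {y : N} (hy : y ∈ X) (a : A) : ρ y (avg ρ X a) = avg ρ X a :=
  congrArg (fun T : AddMonoid.End A => T a) (left_avg ρ hy)

theorem avg_mem {X : Subgroup N} {Z : AddSubgroup A} (h : ∀ x ∈ X, ∀ z ∈ Z, ρ x z ∈ Z) {z : A} (hz : z ∈ Z) :
    avg ρ X z ∈ Z := by
  rw [avg_apply]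
  exact finsum_induction (p := fun a => a ∈ Z) Z.zero_mem (fun _ _ => Z.add_mem) fun x => h _ x.2 z hz

theorem avg_mul_avg (h2 : ∀ a : A, a + a = 0) {X Y Z : Subgroup N} (hX : Odd (Nat.card X))
    (hY : Odd (Nat.card Y)) (hZ : Odd (Nat.card Z)) (hXZ : X ≤ Z) (hYZ : Y ≤ Z) (hle : Z ≤ X ⊔ Y)
    (hc : ∀ x ∈ X, ∀ y ∈ Y, x * y = y * x) : avg ρ X * avg ρ Y = avg ρ Z := by
  have h1 : avg ρ Z * avg ρ X = avg ρ Z := mul_avg_of_fix ρ h2 hX fun x hx => avg_right ρ (hXZ hx)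
  have h3 : avg ρ Z * avg ρ Y = avg ρ Z := mul_avg_of_fix ρ h2 hY fun x hx => avg_right ρ (hYZ hx)
  have hXY : avg ρ X * avg ρ Y = avg ρ Y * avg ρ X := by
    refine commute_avg ρ fun y hy => ?_
    refine (commute_avg ρ (T := ρ y) fun x hx => ?_).symm
    rw [← map_mul, ← map_mul, hc x hx y hy]
  have h4 : ∀ z ∈ X ⊔ Y, ρ z * (avg ρ X * avg ρ Y) = avg ρ X * avg ρ Y := by
    intro z hz
    rw [Subgroup.sup_eq_closure] at hz
    induction hz using Subgroup.closure_induction with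
    | mem z hz =>
      rcases hz with hx | hy
      · rw [← mul_assoc, left_avg ρ hx]
      · rw [hXY, ← mul_assoc, left_avg ρ hy]
    | one => rw [map_one, one_mul]
    | mul a b ha hb iha ihb => rw [map_mul, mul_assoc, ihb, iha]
    | inv a ha iha =>
      calc ρ a⁻¹ * (avg ρ X * avg ρ Y) = ρ a⁻¹ * (ρ a * (avg ρ X * avg ρ Y)) := by rw [iha]
        _ = _ := by rw [← mul_assoc, ← map_mul, inv_mul_cancel, map_one, one_mul]
  calc avg ρ X * avg ρ Y = avg ρ Z * (avg ρ X * avg ρ Y) :=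
        (avg_mul_of_fix ρ h2 hZ fun z hz => h4 z (hle hz)).symm
    _ = avg ρ Z := by rw [← mul_assoc, h1, h3]

end avg

end Cfsg.Agent.Omega.ThmC.Four
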