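import Cfsg.Agent.Omega.ThmC.FourOf

/-!
# THEOREM C, `q ≥ 4`: elements of `S` which commute with the torus elements of order `p` (helper334)

`t ∈ F` is not fixed by a nontrivial automorphism of 2-power order. An element `s ∈ S` which normalises the factor `l`
and commutes on `line M l` with the multiplication by `t` acts as `up b` on the factor `l` (`act_up`).
-/

set_option autoImplicit false
set_option linter.unusedSectionVars false

namespace Cfsg.Agent.Omega.ThmC.FourOf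

open Subgroup Cfsg Cfsg.Agent.ZN Cfsg.Agent.Omega.IId Cfsg.Agent.Omega.ThmC.Four
open Cfsg.Agent.ZN.ChoiceBase hiding mem_zc
open Cfsg.Agent.Omega.MinPar Cfsg.Agent.Omega.FFThm
open Cfsg.Agent.MinSimple.VModule (le_normalizer_zl mem_zc zc_le zc_le_zl)
open Cfsg.Agent.Lib.SL2Mat
open Cfsg.Agent.Omega.NatPair (ap ap_mul ap_one ap_inv_ap ap_ap_inv exists_ap ap_add ap_inj ap_smul)

universe u

variable {G : Type u} [Group G] [Finite G] {F : Type} [Field F] [Finite F] [CharP F 2] {S : Sylow 2 G}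
  {P : Subgroup G} {k : ℕ} {M : NatK F (S : Subgroup G) P (zl (S : Subgroup G) P) ⊥ k}

/-- semilinearity -/
theorem exists_tau {s : G} (hs : s ∈ P) {l : Fin k} (hsl : s ∈ normalizer (fac M l : Set G)) :
    ∃ τ : F ≃+* F, ∀ v ∈ fac M l, ∀ w ∈ fac M l, ∀ c : F, M.e w l = c • M.e v l →
      M.e (s * w * s⁻¹) l = τ c • M.e (s * v * s⁻¹) l := by
  classical
  have hfac : ∀ {g : G}, g ∈ normalizer (fac M l : Set G) → ∀ v ∈ fac M l, g * v * g⁻¹ ∈ fac M l :=
    fun hg v hv => (mem_normalizer_iff.1 hg v).1 hv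
  choose u hu hue using fun x => exists_fac M l x
  have hu' : ∀ v ∈ fac M l, u (M.e v l) = v := fun v hv => ext_fac M (hu _) hv (hue _)
  let T : (Fin 2 → F) → (Fin 2 → F) := fun x => M.e (s * u x * s⁻¹) l
  let T' : (Fin 2 → F) → (Fin 2 → F) := fun x => M.e (s⁻¹ * u x * s⁻¹⁻¹) l
  have hT : ∀ v ∈ fac M l, T (M.e v l) = M.e (s * v * s⁻¹) l := fun v hv => by
    change M.e (s * u (M.e v l) * s⁻¹) l = _
    rw [hu' v hv]
  have hT' : ∀ v ∈ fac M l, T' (M.e v l) = M.e (s⁻¹ * v * s⁻¹⁻¹) l := fun v hv => by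
    change M.e (s⁻¹ * u (M.e v l) * s⁻¹⁻¹) l = _
    rw [hu' v hv]
  have hsl' : s⁻¹ ∈ normalizer (fac M l : Set G) := inv_mem hsl
  have hadd : ∀ x y, T (x + y) = T x + T y := by
    intro x y
    have h1 : u x * u y = u (x + y) := by
      refine ext_fac M (mul_mem (hu x) (hu y)) (hu _) ?_
      rw [M.mul _ (hu x).1 _ (hu y).1, Pi.add_apply, hue, hue, hue]
    change M.e (s * u (x + y) * s⁻¹) l = M.e (s * u x * s⁻¹) l + M.e (s * u y * s⁻¹) l
    have h2 : s * u (x + y) * s⁻¹ = (s * u x * s⁻¹) * (s * u y * s⁻¹) := by rw [← h1]; group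
    rw [h2, M.mul _ (hfac hsl _ (hu x)).1 _ (hfac hsl _ (hu y)).1, Pi.add_apply]
  have h1 : ∀ x, T' (T x) = x := by
    intro x
    have h2 := hT' _ (hfac hsl _ (hu x))
    change T' (T x) = _ at h2
    rw [h2]
    have h3 : s⁻¹ * (s * u x * s⁻¹) * s⁻¹⁻¹ = u x := by group
    rw [h3, hue]
  have h2 : ∀ x, T (T' x) = x := by
    intro x
    have h2 := hT _ (hfac hsl' _ (hu x))
    change T (T' x) = _ at h2
    rw [h2]
    have h3 : s * (s⁻¹ * u x * s⁻¹⁻¹) * s⁻¹ = u x := by group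
    rw [h3, hue]
  have hn : ∀ A : Matrix.SpecialLinearGroup (Fin 2) F, ∃ B : Matrix.SpecialLinearGroup (Fin 2) F,
      ∀ x, T' (ap A (T x)) = ap B x := by
    intro A
    obtain ⟨h, hh, hA, -⟩ := M.lift (Function.update 1 l A)
    obtain ⟨B, hB⟩ := M.norm s⁻¹ (inv_mem hs) h hh _ hA
    have hhl : h ∈ normalizer (fac M l : Set G) := by
      refine grp_normalizes M {l} {l} ⟨hh, Function.update 1 l A, ⟨hA, fun d hd => ?_⟩, fun i hi => ?_⟩
      · rw [mem_bot] at hd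
        rw [hd]
        group
      · exact Function.update_of_ne hi _ _
    refine ⟨B l, fun x => ?_⟩
    have h3 := hB (u x) (hu x).1 l
    rw [hue] at h3
    rw [← h3]
    have h4 : ap A (T x) = M.e (h * (s * u x * s⁻¹) * h⁻¹) l := by
      rw [hA _ (hfac hsl _ (hu x)).1 l, Function.update_self]
    rw [h4, hT' _ (hfac hhl _ (hfac hsl _ (hu x)))]
    have e : s⁻¹ * (h * (s * u x * s⁻¹) * h⁻¹) * s⁻¹⁻¹ = s⁻¹ * h * s⁻¹⁻¹ * u x * (s⁻¹ * h * s⁻¹⁻¹)⁻¹ := by group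
    rw [e]
  obtain ⟨σ, hσ⟩ := NatPair.exists_semi T T' hadd h1 h2 hn
  obtain ⟨τ, hτ⟩ := NatPair.exists_ringEquiv T T' hadd h1 σ hσ
  refine ⟨τ, fun v hv w hw c hc => ?_⟩
  rw [← hT v hv, ← hT w hw, hc, hτ]

/-- powers -/
theorem tau_pow {s : G} {l : Fin k} (hsl : s ∈ normalizer (fac M l : Set G)) {τ : F ≃+* F}
    (hτ : ∀ v ∈ fac M l, ∀ w ∈ fac M l, ∀ c : F, M.e w l = c • M.e v l →
      M.e (s * w * s⁻¹) l = τ c • M.e (s * v * s⁻¹) l) (j : ℕ) :
    ∀ v ∈ fac M l, ∀ w ∈ fac M l, ∀ c : F, M.e w l = c • M.e v l →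
      M.e (s ^ j * w * (s ^ j)⁻¹) l = (τ ^ j) c • M.e (s ^ j * v * (s ^ j)⁻¹) l := by
  induction j with
  | zero =>
    intro v _ w _ c hc
    simp only [pow_zero, one_mul, inv_one, mul_one]
    exact hc
  | succ j ih =>
    intro v hv w hw c hc
    have hj : s ^ j ∈ normalizer (fac M l : Set G) := pow_mem hsl j
    have h1 := hτ _ ((mem_normalizer_iff.1 hj v).1 hv) _ ((mem_normalizer_iff.1 hj w).1 hw) _ (ih v hv w hw c hc)
    have e1 : ∀ x : G, s ^ (j + 1) * x * (s ^ (j + 1))⁻¹ = s * (s ^ j * x * (s ^ j)⁻¹) * s⁻¹ := fun x => by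
      rw [pow_succ']
      group
    rw [e1, e1, h1, pow_succ']
    rfl

/-- **The field automorphism.** `t ∈ F` is not fixed by a nontrivial automorphism of 2-power order, `s ∈ S` normalises the
factor `l` and commutes on the line with the multiplication by `t`: `s` acts as a root element on the factor `l`. -/
theorem act_up (hSP : (S : Subgroup G) ≤ P) {t : F}
    (ht : ∀ (τ : F ≃+* F) (n : ℕ), τ ^ 2 ^ n = 1 → τ t = t → τ = 1) {s : G} (hs : s ∈ (S : Subgroup G)) {l : Fin k}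
    (hsl : s ∈ normalizer (fac M l : Set G))
    (hst : ∀ v ∈ line M l, ∀ w ∈ line M l, M.e w l = t • M.e v l →
      M.e (s * w * s⁻¹) l = t • M.e (s * v * s⁻¹) l) :
    ∃ b : F, ∀ v ∈ zl (S : Subgroup G) P, M.e (s * v * s⁻¹) l = ap (up b) (M.e v l) := by
  classical
  obtain ⟨τ, hτ⟩ := exists_tau (M := M) (hSP hs) hsl
  have hfac : ∀ j : ℕ, ∀ v ∈ fac M l, s ^ j * v * (s ^ j)⁻¹ ∈ fac M l := fun j v hv =>
    (mem_normalizer_iff.1 (pow_mem hsl j : s ^ j ∈ normalizer (fac M l : Set G)) v).1 hv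
  have hfac1 : ∀ v ∈ fac M l, s * v * s⁻¹ ∈ fac M l := fun v hv => (mem_normalizer_iff.1 hsl v).1 hv
  -- the order of `τ`
  obtain ⟨n, hn⟩ := S.isPGroup' ⟨s, hs⟩
  have hn' : s ^ 2 ^ n = 1 := congrArg Subtype.val hn
  have hτn : τ ^ 2 ^ n = 1 := by
    ext c
    obtain ⟨v, hv, hve⟩ := exists_fac M l ![1, 0]
    obtain ⟨w, hw, hwe⟩ := exists_fac M l (c • ![1, 0])
    have h1 := tau_pow hsl hτ (2 ^ n) v hv w hw c (by rw [hve, hwe])
    rw [hn', one_mul, one_mul, inv_one, mul_one, mul_one, hve, hwe] at h1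
    have h2 := congrFun h1 0
    simpa using h2.symm
  -- `τ t = t`
  have hsg : sg M (hSP hs) l = l := (mem_normalizer_fac_iff M (hSP hs)).1 hsl
  have hline : ∀ v ∈ line M l, s * v * s⁻¹ ∈ line M l := by
    intro v hv
    have h1 := stab_normalizes_line M hSP l ⟨hs, hsl⟩
    exact (mem_normalizer_iff.1 h1 v).1 hv
  obtain ⟨v, hv, hve⟩ := exists_fac M l ![1, 0]
  have hvl : v ∈ line M l := (mem_line M).2 ⟨hv, by rw [hve]; rfl⟩
  have hv1 : v ≠ 1 := by
    intro h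
    rw [h, e_one] at hve
    exact zero_ne_one (congrFun hve 0)
  have hsv0 : M.e (s * v * s⁻¹) l 0 ≠ 0 := by
    intro h0
    have h1 := hline v hvl
    have h2 : s * v * s⁻¹ = 1 := by
      rw [← fac_eq_one M h1.1]
      exact NatPair.ext2 h0 (((mem_line M).1 h1).2)
    apply hv1
    have h3 : v = s⁻¹ * (s * v * s⁻¹) * s := by group
    rw [h3, h2]
    group
  have hτt : τ t = t := by
    obtain ⟨w, hw, hwe⟩ := exists_fac M l (t • ![1, 0])
    have hwl : w ∈ line M l := (mem_line M).2 ⟨hw, by rw [hwe]; simp⟩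
    have h1 := hτ v hv w hw t (by rw [hve, hwe])
    have h2 := hst v hvl w hwl (by rw [hve, hwe])
    rw [h2] at h1
    have h3 := congrFun h1 0
    exact (mul_right_cancel₀ hsv0 h3).symm
  have hτ1 := ht τ n hτn hτt
  subst hτ1
  have hlin : ∀ v ∈ fac M l, ∀ w ∈ fac M l, ∀ c : F, M.e w l = c • M.e v l →
      M.e (s * w * s⁻¹) l = c • M.e (s * v * s⁻¹) l := hτ
  -- the image of `(1, 0)`
  obtain ⟨c, hce⟩ : ∃ c, M.e (s * v * s⁻¹) l = ![c, 0] := by
    refine ⟨M.e (s * v * s⁻¹) l 0, ?_⟩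
    apply NatPair.ext2
    · rfl
    · exact ((mem_line M).1 (hline v hvl)).2
  have hcpow : ∀ j : ℕ, M.e (s ^ j * v * (s ^ j)⁻¹) l = ![c ^ j, 0] := by
    intro j
    induction j with
    | zero => simpa using hve
    | succ j ih =>
      have e1 : s ^ (j + 1) * v * (s ^ (j + 1))⁻¹ = s * (s ^ j * v * (s ^ j)⁻¹) * s⁻¹ := by
        rw [pow_succ']
        group
      rw [e1, hlin v hv _ (hfac j v hv) (c ^ j) (by
        rw [ih, hve]
        apply NatPair.ext2 <;> simp), hce]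
      apply NatPair.ext2
      · simp [pow_succ]
      · simp
  have hc1 : c = 1 := by
    have h1 := congrFun (hcpow (2 ^ n)) 0
    rw [hn', one_mul, inv_one, mul_one, hve] at h1
    exact eq_one_of_pow h1.symm
  rw [hc1] at hce
  -- the image of `(0, 1)`
  obtain ⟨w, hw, hwe⟩ := exists_fac M l ![0, 1]
  obtain ⟨b, d, hbd⟩ : ∃ b d, M.e (s * w * s⁻¹) l = ![b, d] :=
    ⟨_, _, NatPair.ext2 (x := M.e (s * w * s⁻¹) l) (y := ![M.e (s * w * s⁻¹) l 0, M.e (s * w * s⁻¹) l 1]) rfl rfl⟩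
  -- the general formula
  have hgen : ∀ x ∈ fac M l, M.e (s * x * s⁻¹) l = ![M.e x l 0 + b * M.e x l 1, d * M.e x l 1] := by
    intro x hx
    obtain ⟨x0, hx0, hx0e⟩ := exists_fac M l (M.e x l 0 • ![1, 0])
    obtain ⟨x1, hx1, hx1e⟩ := exists_fac M l (M.e x l 1 • ![0, 1])
    have h1 : x = x0 * x1 := by
      refine ext_fac M hx (mul_mem hx0 hx1) ?_
      rw [M.mul _ hx0.1 _ hx1.1, Pi.add_apply, hx0e, hx1e]
      apply NatPair.ext2 <;> simp
    have h2 : s * x * s⁻¹ = (s * x0 * s⁻¹) * (s * x1 * s⁻¹) := by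
      conv_lhs => rw [h1]
      group
    rw [h2, M.mul _ (hfac1 _ hx0).1 _ (hfac1 _ hx1).1, Pi.add_apply,
      hlin v hv x0 hx0 (M.e x l 0) (by rw [hx0e, hve]), hlin w hw x1 hx1 (M.e x l 1) (by rw [hx1e, hwe]), hce, hbd]
    apply NatPair.ext2
    · simp; ring
    · simp; ring
  have hdpow : ∀ j : ℕ, M.e (s ^ j * w * (s ^ j)⁻¹) l 1 = d ^ j := by
    intro j
    induction j with
    | zero => simp [hwe]
    | succ j ih =>
      have e1 : s ^ (j + 1) * w * (s ^ (j + 1))⁻¹ = s * (s ^ j * w * (s ^ j)⁻¹) * s⁻¹ := by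
        rw [pow_succ']
        group
      rw [e1, hgen _ (hfac j w hw)]
      change d * M.e (s ^ j * w * (s ^ j)⁻¹) l 1 = _
      rw [ih, pow_succ']
  have hd1 : d = 1 := by
    have h1 := hdpow (2 ^ n)
    rw [hn', one_mul, inv_one, mul_one, hwe] at h1
    exact eq_one_of_pow h1.symm
  refine ⟨b, fun x hx => ?_⟩
  obtain ⟨y, hy, z, hz, rfl⟩ := exists_comp M hx {l}
  have hz' : z ∈ zl (S : Subgroup G) P := hz.1
  have hzl : M.e z l = 0 := hz.2 l fun h => h rfl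
  have h2 : M.e (s * z * s⁻¹) l = 0 := by
    have h3 := (sg_spec M (hSP hs) hz' l).2 hzl
    rwa [hsg] at h3
  have h3 : s * (y * z) * s⁻¹ = (s * y * s⁻¹) * (s * z * s⁻¹) := by group
  have hy' : y ∈ fac M l := hy
  rw [h3, M.mul _ (hfac1 y hy').1 _ (IId.cj_mem (hSP hs) hz'), M.mul _ hy.1 _ hz', Pi.add_apply, Pi.add_apply, h2, hzl,
    add_zero, add_zero, hgen y hy', hd1]
  apply NatPair.ext2
  · rw [NatPair.ap_zero', up_00, up_01]; simp
  · rw [NatPair.ap_one', up_10, up_11]; simp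

end Cfsg.Agent.Omega.ThmC.FourOf
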