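import Cfsg.Agent.Omega.ThmC.FourDec

/-!
# THEOREM C, case `q ≥ 4`, (2): no four-group all of whose involutions have the same commutator space
-/

set_option autoImplicit false
set_option linter.unusedSectionVars false
set_option linter.unusedVariables false

namespace Cfsg.Agent.Omega.ThmC.Four

open Subgroup Cfsg

universe u

/-- `[A, f]`. -/
def im {N A : Type u} [Group N] [AddCommGroup A] (ρ : N →* AddMonoid.End A) (f : N) : AddSubgroup A :=
  AddMonoidHom.range (1 + ρ f : AddMonoid.End A)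

theorem mem_im {N A : Type u} [Group N] [AddCommGroup A] {ρ : N →* AddMonoid.End A} {f : N} {a : A} :
    a ∈ im ρ f ↔ ∃ b, b + ρ f b = a := Iff.rfl

theorem rho_mul {N A : Type u} [Group N] [AddCommGroup A] (ρ : N →* AddMonoid.End A) (f g : N) (a : A) :
    ρ (f * g) a = ρ f (ρ g a) := by rw [map_mul]; rfl

theorem rho_one {N A : Type u} [Group N] [AddCommGroup A] (ρ : N →* AddMonoid.End A) (a : A) :
    ρ 1 a = a := by rw [map_one]; rfl

namespace Abs

variable {N A : Type u} [Group N] [Finite N] [AddCommGroup A] [Finite A] {ρ : N →* AddMonoid.End A}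
  {S : Sylow 2 N} {k : ℕ} {h : Fin k → N} {Z : Fin k → AddSubgroup A} {p : ℕ}

theorem Perm.mul {s t : N} {σ τ : Equiv.Perm (Fin k)} (hs : Perm h s σ) (ht : Perm h t τ) :
    Perm h (s * t) (σ * τ) := by
  intro l
  obtain ⟨r, hr⟩ := ht l
  obtain ⟨r', hr'⟩ := hs (τ l)
  refine ⟨r' * r, ?_⟩
  calc s * t * h l * (s * t)⁻¹ = s * (t * h l * t⁻¹) * s⁻¹ := by group
    _ = (s * h (τ l) * s⁻¹) ^ r := by rw [hr, conj_pow]
    _ = h ((σ * τ) l) ^ (r' * r) := by rw [hr', ← pow_mul]; rfl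

theorem conj_eps_apply {s : N} {σ : Equiv.Perm (Fin k)} (hs : Perm h s σ) (l : Fin k) (a : A) :
    ρ s (eps ρ h l a) = eps ρ h (σ l) (ρ s a) :=
  congrArg (fun T : AddMonoid.End A => T a) (conj_eps hs l)

theorem idem_apply (d : Abs ρ S h Z p) (l : Fin k) (a : A) : eps ρ h l (eps ρ h l a) = eps ρ h l a :=
  congrArg (fun T : AddMonoid.End A => T a) (d.eps_idem l)

theorem orth_apply (d : Abs ρ S h Z p) {l m : Fin k} (hlm : l ≠ m) (a : A) : eps ρ h l (eps ρ h m a) = 0 :=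
  congrArg (fun T : AddMonoid.End A => T a) (d.eps_orth hlm)

theorem sq_apply {g : N} (hgg : g * g = 1) (a : A) : ρ g (ρ g a) = a := by
  rw [← rho_mul, hgg, rho_one]

/-- elements of `[A, g]` are fixed by the involution `g`. -/
theorem fix_im {g : N} (hgg : g * g = 1) {a : A} (ha : a ∈ im ρ g) : ρ g a = a := by
  obtain ⟨b, rfl⟩ := mem_im.1 ha
  rw [map_add, sq_apply hgg, add_comm]

theorem stepA1 (d : Abs ρ S h Z p) {f g : N} {σ τ : Equiv.Perm (Fin k)} (hf : Perm h f σ) (hg : Perm h g τ)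
    (hgg : g * g = 1) (him : im ρ f ≤ im ρ g) {x : Fin k} (hx : σ x ≠ x) : τ x ≠ x := by
  intro hτ
  have key : ∀ a, ∃ b, eps ρ h x a = eps ρ h x b + ρ g (eps ρ h x b) := by
    intro a
    obtain ⟨b, hb⟩ := mem_im.1 (him (mem_im.2 ⟨eps ρ h x a, rfl⟩))
    refine ⟨b, ?_⟩
    have h1 := congrArg (eps ρ h x) hb
    rw [map_add, map_add, d.idem_apply, conj_eps_apply hf, d.orth_apply hx.symm, add_zero] at h1
    rw [conj_eps_apply hg, hτ]
    exact h1.symm
  have hfix : ∀ a, ρ g (eps ρ h x a) = eps ρ h x a := by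
    intro a
    obtain ⟨b, hb⟩ := key a
    rw [hb, map_add, sq_apply hgg, add_comm]
  obtain ⟨a, ha⟩ := d.eps_ne x
  obtain ⟨b, hb⟩ := key a
  rw [hfix, d.two] at hb
  exact ha hb

theorem stepA2 (d : Abs ρ S h Z p) {f g : N} {σ τ : Equiv.Perm (Fin k)} (hf : Perm h f σ) (hg : Perm h g τ)
    (hgg : g * g = 1) (him : im ρ f ≤ im ρ g) {x : Fin k} (hx : σ x ≠ x) (hx' : τ x ≠ x) : τ (σ x) = x := by
  by_contra hne
  obtain ⟨a, ha⟩ := d.eps_ne x
  have h1 := fix_im hgg (him (mem_im.2 ⟨eps ρ h x a, rfl⟩))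
  have h2 := congrArg (eps ρ h x) h1
  rw [map_add, map_add, map_add, d.idem_apply, conj_eps_apply hf, d.orth_apply hx.symm, add_zero,
    conj_eps_apply hg, conj_eps_apply hg, d.orth_apply (Ne.symm hx'), d.orth_apply (Ne.symm hne), add_zero] at h2
  exact ha h2.symm

theorem stepA (d : Abs ρ S h Z p) {f g : N} {σ τ : Equiv.Perm (Fin k)} (hf : Perm h f σ) (hg : Perm h g τ)
    (hgg : g * g = 1) (hgf : g * f * (g * f) = 1) (h1 : im ρ f = im ρ g) (h2 : im ρ f = im ρ (g * f))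
    (x : Fin k) : σ x = x := by
  by_contra hx
  have h3 := d.stepA1 hf hg hgg h1.le hx
  have h4 := d.stepA2 hf hg hgg h1.le hx h3
  exact d.stepA1 hf (hg.mul hf) hgf h2.le hx h4

theorem inv_or (d : Abs ρ S h Z p) {f : N} (hff : f * f = 1) {l : Fin k} {r : ℕ}
    (hr : f * h l * f⁻¹ = h l ^ r) : f * h l = h l * f ∨ f * h l = (h l)⁻¹ * f := by
  have hfi : f⁻¹ = f := by rw [inv_eq_iff_mul_eq_one, hff]
  have h1 : h l ^ ((r : ℤ) * r) = h l ^ (1 : ℤ) := by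
    have e1 : f * (f * h l * f⁻¹) * f⁻¹ = h l := by
      calc f * (f * h l * f⁻¹) * f⁻¹ = (f * f) * h l * (f * f)⁻¹ := by group
        _ = h l := by rw [hff]; group
    have e2 : f * h l ^ r * f⁻¹ = h l ^ (r * r) := by
      rw [← conj_pow, hr, ← pow_mul]
    rw [hr, e2] at e1
    rw [zpow_one, ← Nat.cast_mul, zpow_natCast, e1]
  rw [← orderOf_dvd_sub_iff_zpow_eq_zpow, d.orderOf_h] at h1
  have h2 : (r : ℤ) * r - 1 = (r - 1) * (r - (-1)) := by ring
  rw [h2] at h1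
  have key : ∀ n : ℤ, (p : ℤ) ∣ r - n → f * h l = h l ^ n * f := by
    intro n hn
    rw [← d.orderOf_h l, orderOf_dvd_sub_iff_zpow_eq_zpow, zpow_natCast, ← hr] at hn
    rw [← hn, inv_mul_cancel_right]
  rcases (Nat.prime_iff_prime_int.1 d.prime).dvd_or_dvd h1 with h3 | h3
  · left
    rw [key 1 h3, zpow_one]
  · right
    rw [key (-1) h3, zpow_neg_one]

theorem sq_fix (d : Abs ρ S h Z p) {l : Fin k} {a : A} (ha : ρ (h l) (ρ (h l) a) = a) : ρ (h l) a = a := by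
  have h1 : ρ (h l ^ 2) a = a := by rw [pow_two, rho_mul, ha]
  refine pow_fix h1 ?_
  obtain ⟨m, hm⟩ := d.prime.odd_of_ne_two d.odd
  refine ⟨(m + 1 : ℕ), ?_⟩
  change (h l ^ 2) ^ ((m + 1 : ℕ) : ℤ) = h l
  rw [zpow_natCast, ← pow_mul, show 2 * (m + 1) = p + 1 by omega, pow_succ, d.hp, one_mul]

theorem fpf' (d : Abs ρ S h Z p) {l : Fin k} {a : A} (he : eps ρ h l a = a) (ha : ρ (h l) a = a) : a = 0 := by
  have := d.fpf (l := l) (a := a) (by rw [he, ha])
  rwa [he] at this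

theorem commute_eps_apply (d : Abs ρ S h Z p) {x : N} {l : Fin k} (hx : x * h l = h l * x) (a : A) :
    ρ x (eps ρ h l a) = eps ρ h l (ρ x a) :=
  congrArg (fun T : AddMonoid.End A => T a) (d.commute_eps hx)

/-- If `f` inverts `h l` and `im f = im f''` where `f''` commutes with `h l`: contradiction. -/
theorem stepB (d : Abs ρ S h Z p) {f f' : N} (hff : f * f = 1) {l : Fin k}
    (hfc : ∀ a, ρ f (eps ρ h l a) = eps ρ h l (ρ f a)) (hf : f * h l = (h l)⁻¹ * f)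
    (hf' : f' * h l = h l * f') (him : im ρ f = im ρ f') : False := by
  -- `f` is trivial on the vectors `c` with `f c = c`, `f (h c) = h c`
  have key : ∀ c, eps ρ h l c = c → ρ f c = c → ρ f (ρ (h l) c) = ρ (h l) c → c = 0 := by
    intro c hc h1 h2
    refine d.fpf' hc (d.sq_fix ?_)
    have h3 : ρ f (ρ (h l) c) = ρ (h l)⁻¹ c := by
      rw [← rho_mul, hf, rho_mul, h1]
    rw [h2] at h3
    rw [h3, ← rho_mul, mul_inv_cancel, rho_one]
  have hh : ∀ a, ρ (h l) (eps ρ h l a) = eps ρ h l (ρ (h l) a) := fun a => d.commute_eps_apply rfl a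
  have h1 : ∀ a, ρ f (eps ρ h l a) = eps ρ h l a := by
    intro a
    have h0 : eps ρ h l a + ρ f (eps ρ h l a) = 0 := by
      set c := eps ρ h l a + ρ f (eps ρ h l a) with hc
      have hcim : c ∈ im ρ f := mem_im.2 ⟨_, rfl⟩
      have hce : eps ρ h l c = c := by rw [hc, map_add, d.idem_apply, hfc, d.idem_apply]
      refine key c hce (fix_im hff hcim) ?_
      refine fix_im hff ?_
      rw [him] at hcim ⊢
      obtain ⟨b, hb⟩ := mem_im.1 hcim
      refine mem_im.2 ⟨ρ (h l) b, ?_⟩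
      rw [← hb, map_add, ← rho_mul, ← rho_mul, hf']
    calc ρ f (eps ρ h l a) = (eps ρ h l a + eps ρ h l a) + ρ f (eps ρ h l a) := by rw [d.two, zero_add]
      _ = eps ρ h l a := by rw [add_assoc, h0, add_zero]
  obtain ⟨a, ha⟩ := d.eps_ne l
  refine ha (key _ (d.idem_apply l a) (h1 a) ?_)
  rw [hh, h1]

theorem no_four_S (d : Abs ρ S h Z p) {f g : N} (hf : f ∈ (S : Subgroup N)) (hg : g ∈ (S : Subgroup N))
    (hff : f * f = 1) (hgg : g * g = 1) (hfg : f * g = g * f) (hf1 : f ≠ 1)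
    (h1 : im ρ f = im ρ g) (h2 : im ρ f = im ρ (g * f)) : False := by
  obtain ⟨σ, hσ⟩ := d.perm f hf
  obtain ⟨τ, hτ⟩ := d.perm g hg
  have hgf : g * f * (g * f) = 1 := by
    calc g * f * (g * f) = g * (f * g) * f := by group
      _ = (g * g) * (f * f) := by rw [hfg]; group
      _ = 1 := by rw [hff, hgg, one_mul]
  have hfg' : f * g * (f * g) = 1 := by rw [hfg]; exact hgf
  have hσ1 : ∀ x, σ x = x := d.stepA hσ hτ hgg hgf h1 h2
  have hτ1 : ∀ x, τ x = x := d.stepA hτ hσ hff hfg' h1.symm (by rw [← h1, h2, hfg])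
  have hσ2 : ∀ l, ∃ r : ℕ, f * h l * f⁻¹ = h l ^ r := fun l => by
    obtain ⟨r, hr⟩ := hσ l
    exact ⟨r, by rw [hr, hσ1]⟩
  have hτ2 : ∀ l, ∃ r : ℕ, g * h l * g⁻¹ = h l ^ r := fun l => by
    obtain ⟨r, hr⟩ := hτ l
    exact ⟨r, by rw [hr, hτ1]⟩
  -- some `h l` is inverted by `f`
  have hl : ∃ l, ¬ f * h l = h l * f := by
    by_contra hcon
    push Not at hcon
    exact hf1 (d.field f hf hcon)
  obtain ⟨l, hl⟩ := hl
  obtain ⟨r, hr⟩ := hσ2 l
  have hinv : f * h l = (h l)⁻¹ * f := (d.inv_or hff hr).resolve_left hl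
  have hfc : ∀ a, ρ f (eps ρ h l a) = eps ρ h l (ρ f a) := by
    intro a
    rw [conj_eps_apply hσ, hσ1]
  obtain ⟨r', hr'⟩ := hτ2 l
  rcases d.inv_or hgg hr' with hg1 | hg1
  · exact d.stepB hff hfc hinv hg1 h1
  · refine d.stepB hff hfc hinv (f' := g * f) ?_ h2
    calc g * f * h l = g * (f * h l) := by group
      _ = (g * h l * g⁻¹)⁻¹ * g * f := by rw [hinv]; group
      _ = h l * (g * f) := by rw [hg1]; group

theorem exists_conj_le {N : Type u} [Group N] [Finite N] {S : Sylow 2 N} {M : Subgroup N}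
    (hS : (S : Subgroup N) ≤ M) {T : Subgroup N} (hT : IsPGroup 2 T) (hTM : T ≤ M) :
    ∃ x ∈ M, ∀ t ∈ T, x * t * x⁻¹ ∈ (S : Subgroup N) := by
  obtain ⟨Q, hQ⟩ := (hT.comap_of_injective M.subtype M.subtype_injective).exists_le_sylow
  obtain ⟨x, hx⟩ := MulAction.exists_smul_eq M Q (S.subtype hS)
  refine ⟨x, x.2, fun t ht => ?_⟩
  have h1 : (⟨t, hTM ht⟩ : M) ∈ Q := hQ ht
  have h2 : x * ⟨t, hTM ht⟩ * x⁻¹ ∈ (x • Q : Sylow 2 M) := by
    rw [← SetLike.mem_coe, Sylow.coe_smul]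
    exact ⟨⟨t, hTM ht⟩, h1, rfl⟩
  rw [hx] at h2
  exact h2

theorem im_conj (x f : N) : im ρ (x * f * x⁻¹) = (im ρ f).map (ρ x : A →+ A) := by
  ext a
  constructor
  · intro ha
    obtain ⟨b, rfl⟩ := mem_im.1 ha
    refine ⟨ρ x⁻¹ b + ρ f (ρ x⁻¹ b), mem_im.2 ⟨_, rfl⟩, ?_⟩
    change ρ x (ρ x⁻¹ b + ρ f (ρ x⁻¹ b)) = _
    rw [map_add, ← rho_mul, mul_inv_cancel, rho_one, ← rho_mul, ← rho_mul]
  · rintro ⟨_, hc, rfl⟩
    obtain ⟨b, rfl⟩ := mem_im.1 hc
    refine mem_im.2 ⟨ρ x b, ?_⟩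
    change _ = ρ x (b + ρ f b)
    rw [map_add, ← rho_mul, ← rho_mul]
    congr 3
    group

/-- **(2)**: a 2-subgroup of `N` contains no four-group `⟨f, g⟩` with `[A, f] = [A, g] = [A, fg]`. -/
theorem no_four (d : Abs ρ S h Z p) {T : Subgroup N} (hT : IsPGroup 2 T) {f g : N} (hf : f ∈ T) (hg : g ∈ T)
    (hff : f * f = 1) (hgg : g * g = 1) (hfg : f * g = g * f) (hf1 : f ≠ 1)
    (h1 : im ρ f = im ρ g) (h2 : im ρ f = im ρ (g * f)) : False := by
  obtain ⟨x, -, hx⟩ := exists_conj_le (S := S) (M := ⊤) le_top hT le_top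
  refine d.no_four_S (hx f hf) (hx g hg) ?_ ?_ ?_ ?_ ?_ ?_
  · calc x * f * x⁻¹ * (x * f * x⁻¹) = x * (f * f) * x⁻¹ := by group
      _ = 1 := by rw [hff]; group
  · calc x * g * x⁻¹ * (x * g * x⁻¹) = x * (g * g) * x⁻¹ := by group
      _ = 1 := by rw [hgg]; group
  · calc x * f * x⁻¹ * (x * g * x⁻¹) = x * (f * g) * x⁻¹ := by group
      _ = x * g * x⁻¹ * (x * f * x⁻¹) := by rw [hfg]; group
  · intro h3
    apply hf1
    calc f = x⁻¹ * (x * f * x⁻¹) * x := by group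
      _ = 1 := by rw [h3]; group
  · rw [im_conj, im_conj, h1]
  · rw [show x * g * x⁻¹ * (x * f * x⁻¹) = x * (g * f) * x⁻¹ by group, im_conj, im_conj, h2]

end Abs

end Cfsg.Agent.Omega.ThmC.Four
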