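import Cfsg.Agent.Omega.ThmC.TwoZero
import Cfsg.Agent.Omega.ThmC.TwoSyl
import Cfsg.Agent.Omega.ThmC.TwoNE

/-!
# THEOREM C, `q = 2`: the module `E = Ω₁Z(S⁰)` and the group `N = N_G(E)/C_G(E)`
-/

set_option autoImplicit false

namespace Cfsg.Agent.Omega.ThmC

open Subgroup Cfsg Cfsg.Agent.MinSimple.VModule
open Cfsg.Agent.ZN (zc o2)
open Cfsg.Agent.Omega.IITwo.Count (conj_mem conj_mem' mem_norm)

universe u

variable {G : Type u} [Group G]

/-- `X` of characteristic `zc X ≤ zc Q` if `Q ≤ X`. -/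
theorem zc_le_of_le {Q X : Subgroup G} (hC : centralizer (Q : Set G) ≤ Q) (h : Q ≤ X) : zc X ≤ zc Q := by
  intro v hv
  rw [mem_zc] at hv ⊢
  have h1 : ∀ q ∈ Q, q * v = v * q := fun q hq => by
    have := zc_le_centralizer X (mem_zc.mpr hv)
    exact mem_centralizer_iff.mp this q (h hq)
  exact ⟨hC (mem_centralizer_iff.mpr h1), h1, hv.2.2⟩

theorem mem_zc_iff_of_le {Q X : Subgroup G} (hC : centralizer (Q : Set G) ≤ Q) (h : Q ≤ X) {v : G} :
    v ∈ zc X ↔ v ∈ zc Q ∧ ∀ s ∈ X, s * v = v * s := by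
  constructor
  · intro hv
    exact ⟨zc_le_of_le hC h hv, fun s hs => mem_centralizer_iff.mp (zc_le_centralizer X hv) s hs⟩
  · rintro ⟨hv, hs⟩
    rw [mem_zc] at hv ⊢
    exact ⟨h hv.1, hs, hv.2.2⟩

namespace Dat

variable {S : Sylow 2 G} {Q : Subgroup G} {ι : Type} {Z : ι → Subgroup G} {x z : ι → G}

section
variable (D : Dat S Q Z x z)
include D

omit D in
theorem S0_le : S0 (S : Subgroup G) Z ≤ S := inf_le_left

theorem Q_le_S0 : Q ≤ S0 (S : Subgroup G) Z := by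
  intro q hq
  rw [mem_S0]
  refine ⟨D.QS hq, fun l => ?_⟩
  rw [mem_normalizer_iff]
  have key : ∀ v ∈ Z l, q * v * q⁻¹ = v := fun v hv => by
    have : q * v = v * q := mem_centralizer_iff.mp (zc_le_centralizer Q (D.le l hv)) q hq
    rw [this]; group
  intro v
  constructor
  · intro hv; rwa [key v hv]
  · intro hv
    have h1 : q⁻¹ * (q * v * q⁻¹) * q = q * v * q⁻¹ := by
      have : q * (q * v * q⁻¹) = (q * v * q⁻¹) * q :=
        mem_centralizer_iff.mp (zc_le_centralizer Q (D.le l hv)) q hq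
      rw [mul_assoc, ← this]; group
    have h2 : v = q * v * q⁻¹ := by
      calc v = q⁻¹ * (q * v * q⁻¹) * q := by group
        _ = _ := h1
    rwa [h2]

theorem E_le : zc (S0 (S : Subgroup G) Z) ≤ zc Q := zc_le_of_le D.CQ D.Q_le_S0

theorem mem_E {v : G} : v ∈ zc (S0 (S : Subgroup G) Z) ↔
    v ∈ zc Q ∧ ∀ s ∈ S0 (S : Subgroup G) Z, s * v = v * s := mem_zc_iff_of_le D.CQ D.Q_le_S0

theorem z_mem_E [Finite G] (l : ι) : z l ∈ zc (S0 (S : Subgroup G) Z) := by
  rw [D.mem_E]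
  refine ⟨D.le l (D.zm l), fun s hs => ?_⟩
  have h1 := (D.mem_S0_iff (S0_le hs)).mp hs l
  have := (D.sg_iff_z (S0_le hs)).mp h1
  rw [mem_centralizer_singleton_iff] at this
  exact this

theorem S_le_nor_S0 [Finite G] : (S : Subgroup G) ≤ normalizer (S0 (S : Subgroup G) Z : Set G) := by
  intro s hs
  refine mem_norm fun t ht => ?_
  have ht1 := S0_le ht
  have h1 : s * t * s⁻¹ ∈ (S : Subgroup G) := mul_mem (mul_mem hs ht1) (inv_mem hs)
  rw [D.mem_S0_iff h1]
  intro l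
  rw [D.sg_mul (mul_mem hs ht1) (inv_mem hs), D.sg_mul hs ht1, (D.mem_S0_iff ht1).mp ht,
    ← D.sg_mul hs (inv_mem hs), mul_inv_cancel, D.sg_one]

theorem S_le_nor_E [Finite G] : (S : Subgroup G) ≤ normalizer (zc (S0 (S : Subgroup G) Z) : Set G) :=
  fun _ hs => normalizer_le_normalizer_zc _ (D.S_le_nor_S0 hs)

theorem inf_cE [Finite G] : (S : Subgroup G) ⊓ centralizer (zc (S0 (S : Subgroup G) Z) : Set G) =
    S0 (S : Subgroup G) Z := by
  apply le_antisymm
  · intro s hs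
    rw [mem_inf] at hs
    rw [D.mem_S0_iff hs.1]
    intro l
    exact D.sg_of_z hs.1 (mem_centralizer_iff.mp hs.2 _ (D.z_mem_E l)).symm
  · exact le_inf S0_le (le_centralizer_zc _)

/-- a 2-subgroup of `C_G(E)` normalised by `S⁰` lies in `S⁰`. -/
theorem le_S0 [Finite G] {Y : Subgroup G} (hY : IsPGroup 2 Y)
    (hYE : Y ≤ centralizer (zc (S0 (S : Subgroup G) Z) : Set G))
    (hn : S0 (S : Subgroup G) Z ≤ normalizer (Y : Set G)) : Y ≤ S0 (S : Subgroup G) Z := by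
  have h1 : centralizer (zc (S0 (S : Subgroup G) Z) : Set G) ≤
      normalizer (zc (S0 (S : Subgroup G) Z) : Set G) := centralizer_le_normalizer _
  have h2 : normalizer (zc (S0 (S : Subgroup G) Z) : Set G) ≤
      normalizer (centralizer (zc (S0 (S : Subgroup G) Z) : Set G) : Set G) := by
    intro g hg
    rw [mem_normalizer_iff]
    have key : ∀ g ∈ normalizer (zc (S0 (S : Subgroup G) Z) : Set G),
        ∀ c ∈ centralizer (zc (S0 (S : Subgroup G) Z) : Set G),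
          g * c * g⁻¹ ∈ centralizer (zc (S0 (S : Subgroup G) Z) : Set G) := by
      intro g hg c hc
      rw [mem_centralizer_iff]
      intro v hv
      have h3 := mem_centralizer_iff.mp hc _ (conj_mem' hg hv)
      calc v * (g * c * g⁻¹) = g * ((g⁻¹ * v * g) * c) * g⁻¹ := by group
        _ = g * (c * (g⁻¹ * v * g)) * g⁻¹ := by rw [h3]
        _ = g * c * g⁻¹ * v := by group
    intro c
    refine ⟨key g hg c, fun h => ?_⟩
    have := key g⁻¹ (inv_mem hg) _ h
    simpa [mul_assoc] using this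
  have h3 := le_of_normalized S D.S_le_nor_E h1 h2 hY hYE (by rw [D.inf_cE]; exact hn)
  exact (le_inf h3 hYE).trans D.inf_cE.le

/-- Frattini. -/
theorem frattini_E [Finite G] {g : G} (hg : g ∈ normalizer (zc (S0 (S : Subgroup G) Z) : Set G)) :
    ∃ c ∈ centralizer (zc (S0 (S : Subgroup G) Z) : Set G),
      c * g ∈ normalizer (S0 (S : Subgroup G) Z : Set G) := by
  have h1 : centralizer (zc (S0 (S : Subgroup G) Z) : Set G) ≤
      normalizer (zc (S0 (S : Subgroup G) Z) : Set G) := centralizer_le_normalizer _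
  have key : ∀ g ∈ normalizer (zc (S0 (S : Subgroup G) Z) : Set G),
        ∀ c ∈ centralizer (zc (S0 (S : Subgroup G) Z) : Set G),
          g * c * g⁻¹ ∈ centralizer (zc (S0 (S : Subgroup G) Z) : Set G) := by
    intro g hg c hc
    rw [mem_centralizer_iff]
    intro v hv
    have h3 := mem_centralizer_iff.mp hc _ (conj_mem' hg hv)
    calc v * (g * c * g⁻¹) = g * ((g⁻¹ * v * g) * c) * g⁻¹ := by group
      _ = g * (c * (g⁻¹ * v * g)) * g⁻¹ := by rw [h3]
      _ = g * c * g⁻¹ * v := by group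
  have h2 : normalizer (zc (S0 (S : Subgroup G) Z) : Set G) ≤
      normalizer (centralizer (zc (S0 (S : Subgroup G) Z) : Set G) : Set G) :=
    fun g hg => mem_norm (key g hg)
  obtain ⟨c, hc, hc2⟩ := sylow_normal S D.S_le_nor_E h1 h2
    (Y := (S0 (S : Subgroup G) Z).map (MulAut.conj g).toMonoidHom)
    ((S.2.to_le S0_le : IsPGroup 2 ↥(S0 (S : Subgroup G) Z)).map _) (by
      rintro _ ⟨s, hs, rfl⟩
      exact key g hg s (le_centralizer_zc _ hs))
  refine ⟨c, hc, mem_norm fun s hs => ?_⟩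
  have := hc2 (g * s * g⁻¹) ⟨s, hs, rfl⟩
  rw [D.inf_cE] at this
  have h3 : c * g * s * (c * g)⁻¹ = c * (g * s * g⁻¹) * c⁻¹ := by group
  rwa [h3]

theorem pr_E [Finite G] [Finite ι] (l : ι) : ∀ v ∈ zc (S0 (S : Subgroup G) Z), pr (x l) v ∈ zc (S0 (S : Subgroup G) Z) := by
  intro v hv
  have h1 := D.mem_E.mp hv
  rw [D.mem_E]
  refine ⟨pr_mem (D.xN l) h1.1, fun s hs => ?_⟩
  have h2 := D.pr_conj (S0_le hs) l h1.1
  rw [(D.mem_S0_iff (S0_le hs)).mp hs l] at h2
  have h3 : s * v * s⁻¹ = v := by rw [h1.2 s hs]; group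
  rw [h3] at h2
  exact mul_inv_eq_iff_eq_mul.mp h2

end

/-! ### projections on `Md X`, `zc X ≤ zc Q` -/

section proj

variable (D : Dat S Q Z x z)

/-- `π l` on `Md X`. -/
def pX (D : Dat S Q Z x z) {X : Subgroup G} (hX : zc X ≤ zc Q)
    (h : ∀ l, ∀ v ∈ zc X, pr (x l) v ∈ zc X) (l : ι) : Md X →+ Md X :=
  Md.lft (pr (x l)) (h l) (fun _ hv _ hw => pr_mul (D.xN l) (hX hv) (hX hw))

variable {X : Subgroup G} {hX : zc X ≤ zc Q} {h : ∀ l, ∀ v ∈ zc X, pr (x l) v ∈ zc X}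

@[simp] theorem val_pX (l : ι) (a : Md X) : (D.pX hX h l a).val = pr (x l) a.val := rfl

theorem inc_pX (l : ι) (a : Md X) : Md.inc hX (D.pX hX h l a) = D.pi l (Md.inc hX a) := rfl

theorem pX_idem [Finite ι] (l : ι) (a : Md X) : D.pX hX h l (D.pX hX h l a) = D.pX hX h l a :=
  Md.inc_inj hX (by rw [inc_pX, inc_pX, D.pi_idem])

theorem pX_orth [Finite ι] {l m : ι} (hlm : l ≠ m) (a : Md X) : D.pX hX h l (D.pX hX h m a) = 0 :=
  Md.inc_inj hX (by rw [inc_pX, inc_pX, D.pi_orth hlm, map_zero])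

theorem pX_sum [Fintype ι] (a : Md X) : ∑ l, D.pX hX h l a = a :=
  Md.inc_inj hX (by simp only [map_sum, inc_pX]; exact D.pi_sum (Md.inc hX a))

theorem pX_eq_iff [Finite ι] {l : ι} {a : Md X} : D.pX hX h l a = a ↔ a.val ∈ Z l := by
  rw [← Md.val_inj, val_pX, ← Md.val_inc hX a, ← D.val_pi, Md.val_inj, D.pi_eq_iff]

theorem pX_mem [Finite ι] (l : ι) (a : Md X) : (D.pX hX h l a).val ∈ Z l :=
  D.pi_mem l (Md.inc hX a)

end proj

end Dat

end Cfsg.Agent.Omega.ThmC
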