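import Mathlib

/-!
# THEOREM C (#15545), `q = 2`, piece (C) (#16454)

`Γ` acts faithfully on the elementary abelian 2-group `A = ⊕ π l A`, `x l` (`l ≠ o`) is fixed point free on `π l A`
(`x + x² = π l`) and trivial on the other summands, `H ≠ 1` is a 2-group normalised by the `x l`, `C_H(all x l) = 1`, and
the 2-group `U` normalises `H`, the summands and inverts or centralises each `x l`.
-/

set_option autoImplicit false

namespace Cfsg.Agent.Omega.ThmC.TwoW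

structure WDat {Γ : Type*} [Group Γ] {A : Type*} [AddCommGroup A] [DistribMulAction Γ A] {ι : Type*} [Fintype ι]
    (o : ι) (π : ι → A →+ A) (x : ι → Γ) (H U : Subgroup Γ) : Prop where
  two : ∀ a : A, a + a = 0
  faith : ∀ g : Γ, (∀ a : A, g • a = a) → g = 1
  idem : ∀ l a, π l (π l a) = π l a
  orth : ∀ l m, l ≠ m → ∀ a, π l (π m a) = 0
  sum : ∀ a, ∑ l, π l a = a
  px : ∀ l, l ≠ o → ∀ a, x l • a + x l • x l • a = π l a
  xt : ∀ l, l ≠ o → ∀ m, m ≠ l → ∀ a, x l • π m a = π m a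
  H2 : IsPGroup 2 H
  U2 : IsPGroup 2 U
  xH : ∀ l, l ≠ o → ∀ h ∈ H, x l * h * (x l)⁻¹ ∈ H
  UH : ∀ u ∈ U, ∀ h ∈ H, u * h * u⁻¹ ∈ H
  Ux : ∀ u ∈ U, ∀ l, l ≠ o → u * x l * u⁻¹ = x l ∨ u * x l * u⁻¹ = (x l)⁻¹
  Uπ : ∀ u ∈ U, ∀ l a, u • π l a = π l (u • a)
  CH : ∀ h ∈ H, (∀ l, l ≠ o → h * x l = x l * h) → h = 1

section Ring

variable {Γ R : Type*} [Group Γ] [Ring R] {ι : Type*} [Fintype ι]

/-- the ring form of the data -/
structure RD (o : ι) (e : ι → R) (x : ι → Γ) (ρ : Γ →* R) : Prop where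
  two : ∀ r : R, r + r = 0
  inj : Function.Injective ρ
  idem : ∀ l, e l * e l = e l
  orth : ∀ l m, l ≠ m → e l * e m = 0
  sum : ∑ l, e l = 1
  px : ∀ l, l ≠ o → ρ (x l) + ρ (x l) * ρ (x l) = e l
  xt : ∀ l, l ≠ o → ∀ m, m ≠ l → ρ (x l) * e m = e m

namespace RD

variable {o : ι} {e : ι → R} {x : ι → Γ} {ρ : Γ →* R} (D : RD o e x ρ)

include D

theorem addc {a b : R} (h : a + b = 0) : a = b := by
  have h1 := D.two b
  calc a = a + (b + b) := by rw [h1, add_zero]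
    _ = (a + b) + b := by abel
    _ = b := by rw [h, zero_add]

theorem Xe {l : ι} (hl : l ≠ o) : ρ (x l) * e l = e l * ρ (x l) := by
  rw [← D.px l hl]; noncomm_ring

/-- `u_l = (X_l + 1) = (X_l + 1) e_l` -/
theorem ue {l : ι} (hl : l ≠ o) : (ρ (x l) + 1) * e l = ρ (x l) + 1 := by
  classical
  have h1 : (ρ (x l) + 1) * ∑ m, e m = (ρ (x l) + 1) * e l := by
    rw [Finset.mul_sum]
    refine Finset.sum_eq_single l (fun m _ hm => ?_) (fun h => absurd (Finset.mem_univ _) h)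
    rw [add_mul, D.xt l hl m hm, one_mul, D.two]
  rw [← h1, D.sum, mul_one]

theorem eu {l : ι} (hl : l ≠ o) : e l * (ρ (x l) + 1) = ρ (x l) + 1 := by
  have h := D.ue hl
  rw [add_mul, D.Xe hl, one_mul] at h
  rw [mul_add, mul_one, h]

theorem uu {l : ι} (hl : l ≠ o) : (ρ (x l) + 1) * (ρ (x l) + 1) = (ρ (x l) + 1) + e l := by
  apply D.addc
  have h := D.px l hl
  calc (ρ (x l) + 1) * (ρ (x l) + 1) + (ρ (x l) + 1 + e l)
      = (ρ (x l) + ρ (x l) * ρ (x l)) + (ρ (x l) + ρ (x l)) + (1 + 1) + e l := by noncomm_ring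
    _ = 0 := by rw [h, D.two, D.two, add_zero, add_zero, D.two]

theorem uv {l m : ι} (hl : l ≠ o) (hm : m ≠ o) (h : l ≠ m) : (ρ (x l) + 1) * (ρ (x m) + 1) = 0 := by
  rw [← D.ue hl, ← D.eu hm, mul_assoc, ← mul_assoc (e l), D.orth l m h, zero_mul, mul_zero]

theorem XX {l m : ι} (hl : l ≠ o) (hm : m ≠ o) (h : l ≠ m) :
    ρ (x l * x m) = 1 + (ρ (x l) + 1) + (ρ (x m) + 1) := by
  rw [map_mul]
  apply D.addc
  have h1 := D.uv hl hm h
  calc ρ (x l) * ρ (x m) + (1 + (ρ (x l) + 1) + (ρ (x m) + 1))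
      = (ρ (x l) + 1) * (ρ (x m) + 1) + (1 + 1) := by noncomm_ring
    _ = 0 := by rw [h1, D.two, add_zero]

theorem xx {l m : ι} (hl : l ≠ o) (hm : m ≠ o) : x l * x m = x m * x l := by
  rcases eq_or_ne l m with rfl | h
  · rfl
  apply D.inj
  rw [D.XX hl hm h, D.XX hm hl h.symm]; abel

theorem x3 {l : ι} (hl : l ≠ o) : x l * x l * x l = 1 := by
  apply D.inj
  rw [map_mul, map_mul, map_one]
  apply D.addc
  have h := D.px l hl
  have h1 := D.ue hl
  have h2 : ρ (x l) * ρ (x l) = ρ (x l) + e l := by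
    apply D.addc
    rw [← h]
    calc _ = (ρ (x l) + ρ (x l)) + (ρ (x l) * ρ (x l) + ρ (x l) * ρ (x l)) := by abel
      _ = 0 := by rw [D.two, D.two, add_zero]
  calc ρ (x l) * ρ (x l) * ρ (x l) + 1 = (ρ (x l) + e l) * ρ (x l) + 1 := by rw [h2]
    _ = (ρ (x l) * ρ (x l)) + e l * ρ (x l) + 1 := by noncomm_ring
    _ = (ρ (x l) + 1) + (ρ (x l) + 1) * e l := by rw [h2, ← D.Xe hl]; noncomm_ring
    _ = 0 := by rw [h1, D.two]

/-- replace `x m` by `x m ^ 2` -/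
theorem upd [DecidableEq ι] (m : ι) (hm : m ≠ o) : RD o e (Function.update x m (x m * x m)) ρ where
  two := D.two
  inj := D.inj
  idem := D.idem
  orth := D.orth
  sum := D.sum
  px l hl := by
    rcases eq_or_ne l m with rfl | h
    · rw [Function.update_self, ← map_mul]
      have : x l * x l * (x l * x l) = x l := by rw [← mul_assoc, D.x3 hl, one_mul]
      rw [this, map_mul, add_comm, D.px l hl]
    · rw [Function.update_of_ne h, D.px l hl]
  xt l hl k hk := by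
    rcases eq_or_ne l m with rfl | h
    · rw [Function.update_self, map_mul, mul_assoc, D.xt l hl k hk, D.xt l hl k hk]
    · rw [Function.update_of_ne h, D.xt l hl k hk]

/-- `d` is `x_l x_m` or `x_l x_m²` -/
def Good (e : ι → R) (x : ι → Γ) (ρ : Γ →* R) (l m : ι) (d : Γ) : Prop :=
  ρ d + ρ d * ρ d = e l + e m ∧ ρ (x l) = ρ d * e l + (1 + e l)

theorem good_one {l m : ι} (hl : l ≠ o) (hm : m ≠ o) (h : l ≠ m) : Good e x ρ l m (x l * x m) := by
  have h1 := D.ue hl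
  have h2 := D.uu hl
  have h3 := D.uu hm
  have h4 := D.uv hl hm h
  have h5 := D.uv hm hl h.symm
  have h6 : (ρ (x m) + 1) * e l = 0 := by
    rw [← D.ue hm, mul_assoc, D.orth m l h.symm, mul_zero]
  constructor
  · rw [D.XX hl hm h]
    generalize ρ (x l) + 1 = u at *
    generalize ρ (x m) + 1 = v at *
    calc 1 + u + v + (1 + u + v) * (1 + u + v)
        = (1 + 1) + (u + u) + (v + v) + u + v + u * u + v * v + u * v + v * u := by noncomm_ring
      _ = u + v + (u + e l) + (v + e m) := by rw [D.two 1, D.two u, D.two v, h2, h3, h4, h5]; abel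
      _ = (u + u) + (v + v) + (e l + e m) := by abel
      _ = e l + e m := by rw [D.two u, D.two v]; abel
  · rw [D.XX hl hm h]
    apply D.addc
    calc ρ (x l) + ((1 + (ρ (x l) + 1) + (ρ (x m) + 1)) * e l + (1 + e l))
        = (ρ (x l) + 1) + (ρ (x l) + 1) * e l + (ρ (x m) + 1) * e l + (e l + e l) := by noncomm_ring
      _ = 0 := by rw [h1, h6, D.two (ρ (x l) + 1), D.two (e l), add_zero, add_zero]

theorem good_two {l m : ι} (hl : l ≠ o) (hm : m ≠ o) (h : l ≠ m) : Good e x ρ l m (x l * (x m * x m)) := by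
  classical
  have := (D.upd m hm).good_one hl hm h
  rw [Good, Function.update_self, Function.update_of_ne h] at this
  exact this

end RD

end Ring

section Grp

variable {Γ : Type*} [Group Γ]

theorem cm (x a b : Γ) : x * (a * b) * x⁻¹ = (x * a * x⁻¹) * (x * b * x⁻¹) := by group

theorem commute_of_conj {x a : Γ} (h : x * a * x⁻¹ = a) : Commute a x := by
  have : x * a = a * x := by
    calc x * a = (x * a * x⁻¹) * x := by group
      _ = a * x := by rw [h]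
  exact this.symm

theorem conj_of_commute {x a : Γ} (h : Commute a x) : x * a * x⁻¹ = a := by
  rw [← h.eq]; group

theorem split {Y : Subgroup Γ} {x y : Γ} (hc : ∀ a ∈ Y, ∀ b ∈ Y, a * b = b * a) (hs : ∀ a ∈ Y, a * a = 1)
    (xy : x * y = y * x) (y3 : y * y * y = 1) (hx : ∀ a ∈ Y, x * a * x⁻¹ ∈ Y) (hy : ∀ a ∈ Y, y * a * y⁻¹ ∈ Y)
    (Nx : ∀ a ∈ Y, x * (x * a * x⁻¹) * x⁻¹ = a * (x * a * x⁻¹))
    (Ny : ∀ a ∈ Y, y * (y * a * y⁻¹) * y⁻¹ = a * (y * a * y⁻¹)) {b : Γ} (hb : b ∈ Y) :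
    ∃ b₁ ∈ Y, ∃ b₂ ∈ Y, b = b₁ * b₂ ∧ Commute b₁ (x * y) ∧ Commute b₂ (x * (y * y)) ∧
      ∀ g, Commute g x → Commute g y → Commute g b → Commute g b₁ ∧ Commute g b₂ := by
  obtain ⟨p, hp⟩ : ∃ p, p = x * b * x⁻¹ := ⟨_, rfl⟩
  obtain ⟨q, hq⟩ : ∃ q, q = y * b * y⁻¹ := ⟨_, rfl⟩
  obtain ⟨r, hr⟩ : ∃ r, r = x * q * x⁻¹ := ⟨_, rfl⟩
  have pY : p ∈ Y := hp ▸ hx b hb
  have qY : q ∈ Y := hq ▸ hy b hb
  have rY : r ∈ Y := hr ▸ hx q qY
  have cr : r = y * p * y⁻¹ := by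
    rw [hr, hp, hq]
    calc x * (y * b * y⁻¹) * x⁻¹ = (x * y) * b * (x * y)⁻¹ := by group
      _ = (y * x) * b * (y * x)⁻¹ := by rw [xy]
      _ = _ := by group
  have h1 : x * p * x⁻¹ = b * p := by rw [hp]; exact Nx b hb
  have h2 : y * q * y⁻¹ = b * q := by rw [hq]; exact Ny b hb
  have h3 : x * r * x⁻¹ = q * r := by rw [hr]; exact Nx q qY
  have h4 : y * r * y⁻¹ = p * r := by rw [cr]; exact Ny p pY
  refine ⟨p * q, Y.mul_mem pY qY, q * (b * p), Y.mul_mem qY (Y.mul_mem hb pY), ?_, ?_, ?_, ?_⟩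
  · calc b = b * (p * p) := by rw [hs p pY, mul_one]
      _ = (b * p) * p := (mul_assoc _ _ _).symm
      _ = (p * b) * p := congrArg (· * p) (hc b hb p pY)
      _ = p * (b * p) := mul_assoc _ _ _
      _ = p * ((q * q) * (b * p)) := by rw [hs q qY, one_mul]
      _ = _ := by group
  · apply commute_of_conj
    calc x * y * (p * q) * (x * y)⁻¹ = x * (y * (p * q) * y⁻¹) * x⁻¹ := by group
      _ = x * (r * (b * q)) * x⁻¹ := by rw [cm y, ← cr, h2]
      _ = (q * r) * (p * r) := by rw [cm x, cm x, h3, ← hp, ← hr]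
      _ = q * (r * p) * r := by group
      _ = q * p * (r * r) := by rw [hc r rY p pY]; group
      _ = p * q := by rw [hs r rY, mul_one, hc q qY p pY]
  · apply commute_of_conj
    have e1 : x * (q * (b * p)) * x⁻¹ = r * b := by
      calc x * (q * (b * p)) * x⁻¹ = r * (p * (b * p)) := by rw [cm x, cm x, h1, ← hp, ← hr]
        _ = r * (b * (p * p)) := by rw [← mul_assoc p, hc p pY b hb, mul_assoc]
        _ = r * b := by rw [hs p pY, mul_one]
    have e2 : y * (q * (b * p)) * y⁻¹ = r * b := by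
      calc y * (q * (b * p)) * y⁻¹ = (b * q) * (q * r) := by rw [cm y, cm y, h2, ← cr, ← hq]
        _ = b * (q * q) * r := by group
        _ = r * b := by rw [hs q qY, mul_one, hc b hb r rY]
    have e3 : x * (q * (b * p)) * x⁻¹ = y * (q * (b * p)) * y⁻¹ := by rw [e1, e2]
    generalize q * (b * p) = c at *
    calc x * (y * y) * c * (x * (y * y))⁻¹ = (x * (y * y)) * c * (x * (y * y))⁻¹ := by group
      _ = ((y * y) * x) * c * ((y * y) * x)⁻¹ := by
          have : x * (y * y) = (y * y) * x := by rw [← mul_assoc, xy, mul_assoc, xy, mul_assoc]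
          rw [this]
      _ = (y * y) * (x * c * x⁻¹) * (y * y)⁻¹ := by group
      _ = (y * y * y) * c * (y * y * y)⁻¹ := by rw [e3]; group
      _ = c := by rw [y3]; group
  · intro g gx gy gb
    have gp : Commute g p := by rw [hp]; exact (gx.mul_right gb).mul_right gx.inv_right
    have gq : Commute g q := by rw [hq]; exact (gy.mul_right gb).mul_right gy.inv_right
    exact ⟨gp.mul_right gq, gq.mul_right (gb.mul_right gp)⟩

variable {ι : Type*}

/-- the involutions of `Z(H)` (and `1`) commuting with the `x a`, `a ∉ J` -/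
def CB (H : Subgroup Γ) (o : ι) (x : ι → Γ) (J : Finset ι) : Subgroup Γ where
  carrier := {b | b ∈ H ∧ (∀ h ∈ H, b * h = h * b) ∧ b * b = 1 ∧ ∀ a, a ≠ o → a ∉ J → Commute b (x a)}
  mul_mem' := by
    rintro b c ⟨h1, h2, h3, h4⟩ ⟨k1, k2, k3, k4⟩
    refine ⟨H.mul_mem h1 k1, fun h hh => ?_, ?_, fun a ha hJ => (h4 a ha hJ).mul_left (k4 a ha hJ)⟩
    · rw [mul_assoc, k2 h hh, ← mul_assoc, h2 h hh, mul_assoc]
    · calc b * c * (b * c) = b * (c * b) * c := by group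
        _ = (b * b) * (c * c) := by rw [← h2 c k1]; group
        _ = 1 := by rw [h3, k3, one_mul]
  one_mem' := ⟨H.one_mem, fun h _ => by rw [one_mul, mul_one], one_mul 1, fun a _ _ => Commute.one_left _⟩
  inv_mem' := by
    rintro b ⟨h1, h2, h3, h4⟩
    have : b⁻¹ = b := inv_eq_of_mul_eq_one_left h3
    show b⁻¹ ∈ H ∧ (∀ h ∈ H, b⁻¹ * h = h * b⁻¹) ∧ b⁻¹ * b⁻¹ = 1 ∧ ∀ a, a ≠ o → a ∉ J → Commute b⁻¹ (x a)
    rw [this]; exact ⟨h1, h2, h3, h4⟩

variable {H : Subgroup Γ} {o : ι} {x : ι → Γ} {J : Finset ι}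

theorem mem_CB {b : Γ} : b ∈ CB H o x J ↔
    b ∈ H ∧ (∀ h ∈ H, b * h = h * b) ∧ b * b = 1 ∧ ∀ a, a ≠ o → a ∉ J → Commute b (x a) := Iff.rfl

theorem CB_conj {g : Γ} (h1 : ∀ h ∈ H, g * h * g⁻¹ ∈ H) (h2 : ∀ h ∈ H, g⁻¹ * h * g ∈ H)
    (h3 : ∀ b a, a ≠ o → Commute b (x a) → Commute (g * b * g⁻¹) (x a)) {b : Γ} (hb : b ∈ CB H o x J) :
    g * b * g⁻¹ ∈ CB H o x J := by
  obtain ⟨k1, k2, k3, k4⟩ := hb
  refine ⟨h1 b k1, fun h hh => ?_, ?_, fun a ha hJ => h3 b a ha (k4 a ha hJ)⟩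
  · have := k2 _ (h2 h hh)
    calc g * b * g⁻¹ * h = g * (b * (g⁻¹ * h * g)) * g⁻¹ := by group
      _ = g * ((g⁻¹ * h * g) * b) * g⁻¹ := by rw [this]
      _ = h * (g * b * g⁻¹) := by group
  · calc g * b * g⁻¹ * (g * b * g⁻¹) = g * (b * b) * g⁻¹ := by group
      _ = 1 := by rw [k3]; group

theorem CB_univ [Finite Γ] [Fintype ι] (H2 : IsPGroup 2 H) (hH : H ≠ ⊥) :
    CB H o x (Finset.univ : Finset ι) ≠ ⊥ := by
  have : Nontrivial H := (Subgroup.nontrivial_iff_ne_bot H).2 hH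
  have := H2.center_nontrivial
  have h2 : IsPGroup 2 (Subgroup.center H) := H2.to_subgroup _
  obtain ⟨n, hn⟩ := h2.exists_card_eq
  have hcard : 2 ∣ Nat.card (Subgroup.center H) := by
    rw [hn]
    refine dvd_pow_self 2 (fun h0 => ?_)
    rw [h0, pow_zero] at hn
    exact absurd hn (Finite.one_lt_card).ne'
  obtain ⟨z, hz⟩ := exists_prime_orderOf_dvd_card' 2 hcard
  have hz1 : z ≠ 1 := fun h => by rw [h, orderOf_one] at hz; omega
  have hz2 : z * z = 1 := by rw [← pow_two, ← hz]; exact pow_orderOf_eq_one z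
  intro hbot
  have hm : ((z : H) : Γ) ∈ CB H o x (Finset.univ : Finset ι) := by
    refine ⟨(z : H).2, fun h hh => ?_, ?_, fun a _ ha => absurd (Finset.mem_univ a) ha⟩
    · have := Subgroup.mem_center_iff.1 z.2 ⟨h, hh⟩
      exact (congrArg Subtype.val this).symm
    · have := congrArg (fun w : Subgroup.center H => ((w : H) : Γ)) hz2
      simpa using this
  rw [hbot, Subgroup.mem_bot] at hm
  exact hz1 (Subtype.ext (Subtype.ext hm))

/-- a 2-group acting on a nonzero elementary abelian 2-group has a nonzero fixed vector -/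
theorem fix [Finite Γ] {A : Type*} [AddCommGroup A] [Finite A] [DistribMulAction Γ A] {P : Subgroup Γ}
    (hP : IsPGroup 2 P) (M : AddSubgroup A) (h2 : ∀ a ∈ M, a + a = 0) (hM : ∀ g ∈ P, ∀ a ∈ M, g • a ∈ M) {a : A}
    (ha : a ∈ M) (ha0 : a ≠ 0) : ∃ b ∈ M, b ≠ 0 ∧ ∀ g ∈ P, g • b = b := by
  let _ : MulAction P M :=
    { smul := fun g m => ⟨(g : Γ) • (m : A), hM g g.2 m m.2⟩
      one_smul := fun m => Subtype.ext (one_smul Γ (m : A))
      mul_smul := fun g h m => Subtype.ext (mul_smul (g : Γ) (h : Γ) (m : A)) }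
  have hcard : 2 ∣ Nat.card M := by
    have h3 : addOrderOf (⟨a, ha⟩ : M) = 2 := by
      refine addOrderOf_eq_prime (Subtype.ext ?_) (fun h => ha0 (congrArg Subtype.val h))
      show (((2 : ℕ) • (⟨a, ha⟩ : M) : M) : A) = 0
      rw [two_nsmul]; exact h2 a ha
    rw [← h3]; exact addOrderOf_dvd_natCard _
  have h0 : (0 : M) ∈ MulAction.fixedPoints P M := fun g => Subtype.ext (smul_zero (g : Γ))
  obtain ⟨b, hb, hb0⟩ := hP.exists_fixed_point_of_prime_dvd_card_of_fixed_point M hcard h0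
  refine ⟨b, b.2, fun h => hb0 (Subtype.ext h.symm), fun g hg => ?_⟩
  exact congrArg Subtype.val (hb ⟨g, hg⟩)

end Grp

section Core

variable {Γ R : Type*} [Group Γ] [Ring R] {ι : Type*} [Fintype ι] {o : ι} {e : ι → R} {x : ι → Γ} {ρ : Γ →* R}
  {H : Subgroup Γ} {J : Finset ι}

theorem cx (D : RD o e x ρ) {l : ι} (hl : l ≠ o) (hx : ∀ h ∈ H, x l * h * (x l)⁻¹ ∈ H) :
    ∀ b ∈ CB H o x J, x l * b * (x l)⁻¹ ∈ CB H o x J := by
  have hi : (x l)⁻¹ = x l * x l := (eq_inv_of_mul_eq_one_left (D.x3 hl)).symm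
  intro b hb
  refine CB_conj hx (fun h hh => ?_) (fun b a ha hc => ?_) hb
  · have h1 := hx _ (hx h hh)
    have h2 : x l * (x l * h * (x l)⁻¹) * (x l)⁻¹ = (x l)⁻¹ * h * x l := by
      calc x l * (x l * h * (x l)⁻¹) * (x l)⁻¹ = (x l * x l) * h * (x l * x l)⁻¹ := by group
        _ = (x l)⁻¹ * h * x l := by rw [← hi, inv_inv]
    rwa [h2] at h1
  · have hla : Commute (x l) (x a) := D.xx hl ha
    exact (hla.mul_left hc).mul_left hla.inv_left

omit [Fintype ι] in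
theorem cc {b : Γ} (hb : b ∈ CB H o x J) {c : Γ} (hc : c ∈ CB H o x J) : b * c = c * b := hb.2.1 c hc.1

theorem nm (D : RD o e x ρ) {l : ι} (hl : l ≠ o) (hx : ∀ h ∈ H, x l * h * (x l)⁻¹ ∈ H)
    (hJ : ∀ b ∈ CB H o x J, Commute b (x l) → b = 1) {b : Γ} (hb : b ∈ CB H o x J) :
    x l * (x l * b * (x l)⁻¹) * (x l)⁻¹ = b * (x l * b * (x l)⁻¹) := by
  obtain ⟨p, hp⟩ : ∃ p, p = x l * b * (x l)⁻¹ := ⟨_, rfl⟩
  obtain ⟨r, hr⟩ : ∃ r, r = x l * p * (x l)⁻¹ := ⟨_, rfl⟩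
  have pY : p ∈ CB H o x J := hp ▸ cx D hl hx b hb
  have rY : r ∈ CB H o x J := hr ▸ cx D hl hx p pY
  have h3 : x l * r * (x l)⁻¹ = b := by
    rw [hr, hp]
    calc x l * (x l * (x l * b * (x l)⁻¹) * (x l)⁻¹) * (x l)⁻¹
        = (x l * x l * x l) * b * (x l * x l * x l)⁻¹ := by group
      _ = b := by rw [D.x3 hl]; group
  have h4 : b * p * r = 1 := by
    refine hJ _ ((CB H o x J).mul_mem ((CB H o x J).mul_mem hb pY) rY) (commute_of_conj ?_)
    calc x l * (b * p * r) * (x l)⁻¹ = p * r * b := by rw [cm, cm, h3, ← hp, ← hr]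
      _ = b * (p * r) := (cc hb ((CB H o x J).mul_mem pY rY)).symm
      _ = b * p * r := (mul_assoc _ _ _).symm
  have h5 : (b * p) * (b * p) = 1 := ((CB H o x J).mul_mem hb pY).2.2.1
  rw [← hp, ← hr]
  exact mul_left_cancel (h4.trans h5.symm)

omit [Fintype ι] in
theorem com_ee {l m : ι} {d b : Γ} (h : RD.Good e x ρ l m d) (hb : Commute b d) :
    Commute (ρ b) (e l + e m) := by
  have h1 : Commute (ρ b) (ρ d) := hb.map ρ
  rw [← h.1]; exact h1.add_right (h1.mul_right h1)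

theorem com_e (D : RD o e x ρ) {a : ι} (ha : a ≠ o) {b : Γ} (hb : Commute b (x a)) : Commute (ρ b) (e a) := by
  have h1 : Commute (ρ b) (ρ (x a)) := hb.map ρ
  rw [← D.px a ha]; exact h1.add_right (h1.mul_right h1)

theorem pick (D : RD o e x ρ) (xH : ∀ l, l ≠ o → ∀ h ∈ H, x l * h * (x l)⁻¹ ∈ H) (ho : o ∉ J)
    (hJ : ∀ j ∈ J, ∀ b ∈ CB H o x J, Commute b (x j) → b = 1) {l m : ι} (lJ : l ∈ J) (mJ : m ∈ J)
    {b : Γ} (hb : b ∈ CB H o x J) :
    ∃ b₁ ∈ CB H o x J, ∃ b₂ ∈ CB H o x J, b = b₁ * b₂ ∧ Commute b₁ (x l * x m) ∧ Commute b₂ (x l * (x m * x m)) ∧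
      ∀ g, Commute g (x l) → Commute g (x m) → Commute g b → Commute g b₁ ∧ Commute g b₂ := by
  have hl : l ≠ o := fun h => ho (h ▸ lJ)
  have hm : m ≠ o := fun h => ho (h ▸ mJ)
  exact split (fun a ha b hb => cc ha hb) (fun a ha => ha.2.2.1) (D.xx hl hm) (D.x3 hm) (cx D hl (xH l hl))
    (cx D hm (xH m hm)) (fun a ha => nm D hl (xH l hl) (hJ l lJ) ha) (fun a ha => nm D hm (xH m hm) (hJ m mJ) ha) hb

theorem pick' (D : RD o e x ρ) (xH : ∀ l, l ≠ o → ∀ h ∈ H, x l * h * (x l)⁻¹ ∈ H) (ho : o ∉ J)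
    (hJ : ∀ j ∈ J, ∀ b ∈ CB H o x J, Commute b (x j) → b = 1) {l m : ι} (lJ : l ∈ J) (mJ : m ∈ J) (hlm : l ≠ m)
    {b : Γ} (hb : b ∈ CB H o x J) (hb1 : b ≠ 1) :
    ∃ b' ∈ CB H o x J, b' ≠ 1 ∧ (∃ d, RD.Good e x ρ l m d ∧ Commute b' d ∧ ∀ a, a ≠ o → Commute d (x a)) ∧
      ∀ g, Commute g (x l) → Commute g (x m) → Commute g b → Commute g b' := by
  have hl : l ≠ o := fun h => ho (h ▸ lJ)
  have hm : m ≠ o := fun h => ho (h ▸ mJ)
  obtain ⟨b₁, h1, b₂, h2, hbb, c1, c2, cg⟩ := pick D xH ho hJ lJ mJ hb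
  by_cases hb1' : b₁ = 1
  · refine ⟨b₂, h2, fun h => hb1 (by rw [hbb, hb1', h, one_mul]), ⟨_, D.good_two hl hm hlm, c2, fun a ha => ?_⟩,
      fun g g1 g2 g3 => (cg g g1 g2 g3).2⟩
    have k1 : Commute (x l) (x a) := D.xx hl ha
    have k2 : Commute (x m) (x a) := D.xx hm ha
    exact k1.mul_left (k2.mul_left k2)
  · refine ⟨b₁, h1, hb1', ⟨_, D.good_one hl hm hlm, c1, fun a ha => ?_⟩, fun g g1 g2 g3 => (cg g g1 g2 g3).1⟩
    have k1 : Commute (x l) (x a) := D.xx hl ha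
    have k2 : Commute (x m) (x a) := D.xx hm ha
    exact k1.mul_left k2

theorem no_three (D : RD o e x ρ) (xH : ∀ l, l ≠ o → ∀ h ∈ H, x l * h * (x l)⁻¹ ∈ H) (ho : o ∉ J)
    (hJ : ∀ j ∈ J, ∀ b ∈ CB H o x J, Commute b (x j) → b = 1) {l m n : ι} (lJ : l ∈ J) (mJ : m ∈ J) (nJ : n ∈ J)
    (hlm : l ≠ m) (hln : l ≠ n) (hmn : m ≠ n) : CB H o x J = ⊥ := by
  have hl : l ≠ o := fun h => ho (h ▸ lJ)
  have hn : n ≠ o := fun h => ho (h ▸ nJ)
  rw [Subgroup.eq_bot_iff_forall]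
  intro b hb
  by_contra hb1
  obtain ⟨b₁, h1, h11, ⟨d, hd, cd, dx⟩, -⟩ := pick' D xH ho hJ lJ mJ hlm hb hb1
  obtain ⟨b₂, h2, h21, ⟨d', hd', cd', -⟩, cg⟩ := pick' D xH ho hJ lJ nJ hln h1 h11
  have k1 : Commute b₂ d := (cg d (dx l hl) (dx n hn) cd.symm).symm
  have k2 := com_ee hd k1
  have k3 := com_ee hd' cd'
  have k4 : (e l + e m) * (e l + e n) = e l := by
    rw [add_mul, mul_add, mul_add, D.idem, D.orth l n hln, D.orth m l hlm.symm, D.orth m n hmn, add_zero, add_zero,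
      add_zero]
  have k5 : Commute (ρ b₂) (e l) := by rw [← k4]; exact k2.mul_right k3
  have k6 : Commute (ρ b₂) (ρ (x l)) := by
    rw [hd.2]
    exact ((k1.map ρ).mul_right k5).add_right ((Commute.one_right _).add_right k5)
  have k7 : Commute b₂ (x l) := D.inj (by rw [map_mul, map_mul]; exact k6.eq)
  exact h21 (hJ l lJ b₂ h2 k7)

theorem com_lm (D : RD o e x ρ) (xH : ∀ l, l ≠ o → ∀ h ∈ H, x l * h * (x l)⁻¹ ∈ H) (ho : o ∉ J)
    (hJ : ∀ j ∈ J, ∀ b ∈ CB H o x J, Commute b (x j) → b = 1) {l m : ι} (lJ : l ∈ J) (mJ : m ∈ J) (hlm : l ≠ m)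
    {b : Γ} (hb : b ∈ CB H o x J) : Commute (ρ b) (e l + e m) := by
  have hl : l ≠ o := fun h => ho (h ▸ lJ)
  have hm : m ≠ o := fun h => ho (h ▸ mJ)
  obtain ⟨b₁, h1, b₂, h2, hbb, c1, c2, -⟩ := pick D xH ho hJ lJ mJ hb
  rw [hbb, map_mul]
  exact (com_ee (D.good_one hl hm hlm) c1).mul_left (com_ee (D.good_two hl hm hlm) c2)

theorem com_o (D : RD o e x ρ) {b : Γ} {l m : ι} (hlm : l ≠ m) (hl : l ≠ o) (hm : m ≠ o)
    (h1 : Commute (ρ b) (e l + e m)) (h2 : ∀ a, a ≠ o → a ≠ l → a ≠ m → Commute (ρ b) (e a)) :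
    Commute (ρ b) (e o) := by
  classical
  have k1 := Finset.add_sum_erase Finset.univ e (Finset.mem_univ o)
  have k2 := Finset.add_sum_erase (Finset.univ.erase o) e (Finset.mem_erase.2 ⟨hl, Finset.mem_univ l⟩)
  have k3 := Finset.add_sum_erase ((Finset.univ.erase o).erase l) e
    (Finset.mem_erase.2 ⟨hlm.symm, Finset.mem_erase.2 ⟨hm, Finset.mem_univ m⟩⟩)
  have k4 : Commute (ρ b) (∑ a ∈ ((Finset.univ.erase o).erase l).erase m, e a) := by
    refine Commute.sum_right _ _ _ fun a ha => ?_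
    simp only [Finset.mem_erase, Finset.mem_univ, and_true] at ha
    exact h2 a ha.2.2 ha.2.1 ha.1
  have k5 : e o = 1 - ((e l + e m) + ∑ a ∈ ((Finset.univ.erase o).erase l).erase m, e a) := by
    rw [← D.sum, ← k1, ← k2, ← k3]; abel
  rw [k5]
  exact (Commute.one_right _).sub_right (h1.add_right k4)

theorem core [Finite Γ] (D : RD o e x ρ) (xH : ∀ l, l ≠ o → ∀ h ∈ H, x l * h * (x l)⁻¹ ∈ H) (H2 : IsPGroup 2 H)
    (CH : ∀ h ∈ H, (∀ l, l ≠ o → h * x l = x l * h) → h = 1) (hH : H ≠ ⊥) :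
    ∃ J : Finset ι, CB H o x J ≠ ⊥ ∧ o ∉ J ∧ (∀ j ∈ J, ∀ b ∈ CB H o x J, Commute b (x j) → b = 1) ∧
      ((∃ j, J = {j}) ∨ ∃ l m, l ≠ m ∧ l ∈ J ∧ m ∈ J ∧ ∀ a ∈ J, a = l ∨ a = m) := by
  classical
  obtain ⟨J, hJ0, hmin⟩ := Set.exists_min_image {J : Finset ι | CB H o x J ≠ ⊥} Finset.card (Set.toFinite _)
    ⟨Finset.univ, CB_univ H2 hH⟩
  replace hJ0 : CB H o x J ≠ ⊥ := hJ0
  have herase : ∀ j ∈ J, CB H o x (J.erase j) = ⊥ := by
    intro j hj
    by_contra hne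
    have := hmin _ hne
    rw [Finset.card_erase_of_mem hj] at this
    have : 0 < J.card := Finset.card_pos.2 ⟨j, hj⟩
    omega
  have hJ : ∀ j ∈ J, ∀ b ∈ CB H o x J, Commute b (x j) → b = 1 := by
    intro j hj b hb hc
    have : b ∈ CB H o x (J.erase j) := by
      refine ⟨hb.1, hb.2.1, hb.2.2.1, fun a ha haJ => ?_⟩
      by_cases h : a ∈ J
      · have : a = j := by
          by_contra h'
          exact haJ (Finset.mem_erase.2 ⟨h', h⟩)
        rw [this]; exact hc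
      · exact hb.2.2.2 a ha h
    rwa [herase j hj, Subgroup.mem_bot] at this
  have ho : o ∉ J := by
    intro ho
    apply hJ0
    rw [Subgroup.eq_bot_iff_forall]
    intro b hb
    have : b ∈ CB H o x (J.erase o) := by
      refine ⟨hb.1, hb.2.1, hb.2.2.1, fun a ha haJ => hb.2.2.2 a ha fun h => haJ (Finset.mem_erase.2 ⟨ha, h⟩)⟩
    rwa [herase o ho, Subgroup.mem_bot] at this
  refine ⟨J, hJ0, ho, hJ, ?_⟩
  have h0 : J.card ≠ 0 := by
    intro h
    rw [Finset.card_eq_zero] at h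
    apply hJ0
    rw [Subgroup.eq_bot_iff_forall]
    intro b hb
    refine CH b hb.1 fun l hl => (hb.2.2.2 l hl (by rw [h]; exact Finset.notMem_empty l)).eq
  have h3 : ¬ 2 < J.card := by
    intro h
    obtain ⟨l, lJ, m, mJ, n, nJ, h1, h2, h3⟩ := Finset.two_lt_card.1 h
    exact hJ0 (no_three D xH ho hJ lJ mJ nJ h1 h2 h3)
  have h12 : J.card = 1 ∨ J.card = 2 := by omega
  rcases h12 with h | h
  · exact Or.inl (Finset.card_eq_one.1 h)
  · obtain ⟨l, m, hlm, rfl⟩ := Finset.card_eq_two.1 h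
    refine Or.inr ⟨l, m, hlm, ?_, ?_, ?_⟩ <;> simp

end Core

section Main

variable {Γ : Type*} [Group Γ] {A : Type*} [AddCommGroup A] [DistribMulAction Γ A] {ι : Type*} [Fintype ι] {o : ι}
  {π : ι → A →+ A} {x : ι → Γ} {H U : Subgroup Γ}

theorem rd (D : WDat o π x H U) :
    RD (R := AddMonoid.End A) o (fun l => (π l : AddMonoid.End A)) x (DistribMulAction.toAddMonoidEnd Γ A) where
  two r := AddMonoidHom.ext fun a => D.two (r a)
  inj g h hgh := by
    have h1 : ∀ a : A, g • a = h • a := fun a => DFunLike.congr_fun hgh a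
    have h2 := D.faith (h⁻¹ * g) fun a => by rw [mul_smul, h1, inv_smul_smul]
    exact (inv_mul_eq_one.1 h2).symm
  idem l := AddMonoidHom.ext (D.idem l)
  orth l m h := AddMonoidHom.ext (D.orth l m h)
  sum := AddMonoidHom.ext fun a => (AddMonoidHom.finsetSum_apply _ _ a).trans (D.sum a)
  px l hl := AddMonoidHom.ext (D.px l hl)
  xt l hl m hm := AddMonoidHom.ext (D.xt l hl m hm)

/-- the cube lemma -/
theorem cube (D : WDat o π x H U) {j a : ι} (hj : j ≠ o) (haj : a ≠ j) {b : Γ} (hb2 : b * b = 1)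
    (hn : x j * (x j * b * (x j)⁻¹) * (x j)⁻¹ = b * (x j * b * (x j)⁻¹)) (hc : ∀ y, b • π a y = π a (b • y)) (y : A) :
    b • π a y = π a y := by
  have hx : ∀ z, x j • π a z = π a z := D.xt j hj a haj
  have hi : ∀ z, (x j)⁻¹ • π a z = π a z := fun z => by rw [inv_smul_eq_iff, hx]
  have e1 : (x j * b * (x j)⁻¹) • π a y = b • π a y := by
    rw [mul_smul, hi, mul_smul, hc, hx]
  have e2 : (x j * (x j * b * (x j)⁻¹) * (x j)⁻¹) • π a y = b • π a y := by
    rw [mul_smul, hi, mul_smul, e1, hc, hx]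
  have e3 : (b * (x j * b * (x j)⁻¹)) • π a y = π a y := by
    rw [mul_smul, e1, ← mul_smul, hb2, one_smul]
  rw [← e2, hn, e3]

theorem BU (D : WDat o π x H U) {J : Finset ι} : ∀ u ∈ U, ∀ b ∈ CB H o x J, u * b * u⁻¹ ∈ CB H o x J := by
  intro u hu b hb
  refine CB_conj (D.UH u hu) (fun h hh => ?_) (fun b a ha hc => ?_) hb
  · have := D.UH u⁻¹ (U.inv_mem hu) h hh
    rwa [inv_inv] at this
  · have h1 : Commute b (u⁻¹ * x a * u⁻¹⁻¹) := by
      rcases D.Ux u⁻¹ (U.inv_mem hu) a ha with h | h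
      · rw [h]; exact hc
      · rw [h]; exact hc.inv_right
    show u * b * u⁻¹ * x a = x a * (u * b * u⁻¹)
    calc u * b * u⁻¹ * x a = u * (b * (u⁻¹ * x a * u⁻¹⁻¹)) * u⁻¹ := by group
      _ = u * ((u⁻¹ * x a * u⁻¹⁻¹) * b) * u⁻¹ := by rw [h1.eq]
      _ = x a * (u * b * u⁻¹) := by group

end Main

theorem main {Γ : Type*} [Group Γ] [Finite Γ] {A : Type*} [AddCommGroup A] [Finite A] [DistribMulAction Γ A]
    {ι : Type*} [Fintype ι] {o : ι} {π : ι → A →+ A} {x : ι → Γ} {H U : Subgroup Γ} (D : WDat o π x H U) (hH : H ≠ ⊥) :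
    ∃ (B : Subgroup Γ) (p q : ι), B ≤ H ∧ B ≠ ⊥ ∧ p ≠ q ∧ (∀ b ∈ B, b * b = 1) ∧ (∀ u ∈ U, ∀ b ∈ B, u * b * u⁻¹ ∈ B) ∧
      (∀ b ∈ B, ∀ l, l ≠ p → l ≠ q → ∀ a, b • π l a = π l a) ∧ (∀ b ∈ B, ∀ l, l ≠ p → l ≠ q → ∀ a, π l (b • a) = π l a) ∧
      ((p = o ∧ ∀ b ∈ B, x q * b * (x q)⁻¹ ∈ B ∧ (x q * b * (x q)⁻¹ = b → b = 1)) ∨
        (p ≠ o ∧ q ≠ o ∧ ∃ a : A, a ≠ 0 ∧ (π p a = a ∨ π q a = a) ∧ (∀ u ∈ U, u • a = a) ∧ ∀ b ∈ B, b • a = a)) := by
  have R := rd D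
  obtain ⟨J, hJ0, ho, hJ, hcase⟩ := core R D.xH D.H2 D.CH hH
  have hjo : ∀ j ∈ J, j ≠ o := fun j hj h => ho (h ▸ hj)
  have hBH : CB H o x J ≤ H := fun b hb => hb.1
  have hsq : ∀ b ∈ CB H o x J, b * b = 1 := fun b hb => hb.2.2.1
  have hcom : ∀ b ∈ CB H o x J, ∀ a, a ≠ o → a ∉ J → ∀ y, b • π a y = π a (b • y) := fun b hb a ha haJ y =>
    DFunLike.congr_fun (com_e R ha (hb.2.2.2 a ha haJ)).eq y
  have hcube : ∀ j ∈ J, ∀ a, a ≠ j → ∀ b ∈ CB H o x J, (∀ y, b • π a y = π a (b • y)) → ∀ y, b • π a y = π a y :=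
    fun j hj a haj b hb hc => cube D (hjo j hj) haj (hsq b hb) (nm R (hjo j hj) (D.xH j (hjo j hj)) (hJ j hj) hb) hc
  rcases hcase with ⟨j, rfl⟩ | ⟨l, m, hlm, lJ, mJ, hlmJ⟩
  · have hj : j ∈ ({j} : Finset ι) := Finset.mem_singleton_self j
    have h1 : ∀ b ∈ CB H o x {j}, ∀ l, l ≠ o → l ≠ j → ∀ a, b • π l a = π l a := fun b hb l hlo hlj =>
      hcube j hj l hlj b hb (hcom b hb l hlo fun h => hlj (Finset.mem_singleton.1 h))
    refine ⟨CB H o x {j}, o, j, hBH, hJ0, (hjo j hj).symm, hsq, BU D, h1, fun b hb l hlo hlj a => ?_,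
      Or.inl ⟨rfl, fun b hb => ⟨cx R (hjo j hj) (D.xH j (hjo j hj)) b hb, fun h => hJ j hj b hb (commute_of_conj h)⟩⟩⟩
    rw [← hcom b hb l hlo fun h => hlj (Finset.mem_singleton.1 h), h1 b hb l hlo hlj]
  · have hl := hjo l lJ
    have hm := hjo m mJ
    have hee : ∀ b ∈ CB H o x J, Commute (DistribMulAction.toAddMonoidEnd Γ A b)
        ((π l : AddMonoid.End A) + (π m : AddMonoid.End A)) := fun b hb => com_lm R D.xH ho hJ lJ mJ hlm hb
    have hcomo : ∀ b ∈ CB H o x J, ∀ a, a ≠ l → a ≠ m → ∀ y, b • π a y = π a (b • y) := by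
      intro b hb a hal ham y
      have haJ : a ∉ J := fun h => (hlmJ a h).elim hal ham
      by_cases hao : a = o
      · rw [hao]
        exact DFunLike.congr_fun (com_o R hlm hl hm (hee b hb) fun a h1 h2 h3 =>
          com_e R h1 (hb.2.2.2 a h1 fun h => (hlmJ a h).elim h2 h3)).eq y
      · exact hcom b hb a hao haJ y
    have h1 : ∀ b ∈ CB H o x J, ∀ a, a ≠ l → a ≠ m → ∀ y, b • π a y = π a y := fun b hb a hal ham =>
      hcube l lJ a hal b hb (hcomo b hb a hal ham)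
    refine ⟨CB H o x J, l, m, hBH, hJ0, hlm, hsq, BU D, h1, fun b hb a hal ham y => ?_, Or.inr ⟨hl, hm, ?_⟩⟩
    · rw [← hcomo b hb a hal ham, h1 b hb a hal ham]
    -- a vector of `π l A`
    obtain ⟨v, hv⟩ : ∃ v, π l v ≠ 0 := by
      by_contra hne
      push Not at hne
      have hx1 : x l = 1 := D.faith _ fun a => by
        have k1 := D.sum a
        rw [← k1, Finset.smul_sum]
        refine Finset.sum_congr rfl fun k _ => ?_
        rcases eq_or_ne k l with rfl | hk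
        · rw [hne, smul_zero]
        · exact D.xt l hl k hk a
      apply hJ0
      rw [Subgroup.eq_bot_iff_forall]
      intro b hb
      refine hJ l lJ b hb ?_
      rw [hx1]; exact Commute.one_right b
    let M : AddSubgroup A :=
      { carrier := {a | π l a + π m a = a}
        add_mem' := fun {a b} ha hb => by
          show π l (a + b) + π m (a + b) = a + b
          have ha' : π l a + π m a = a := ha
          have hb' : π l b + π m b = b := hb
          rw [map_add, map_add]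
          calc _ = (π l a + π m a) + (π l b + π m b) := by abel
            _ = a + b := by rw [ha', hb']
        zero_mem' := by show π l 0 + π m 0 = 0; rw [map_zero, map_zero, add_zero]
        neg_mem' := fun {a} ha => by
          show π l (-a) + π m (-a) = -a
          have ha' : π l a + π m a = a := ha
          rw [map_neg, map_neg, ← neg_add, ha'] }
    have hMm : ∀ a, a ∈ M ↔ π l a + π m a = a := fun a => Iff.rfl
    have hMB : ∀ b ∈ CB H o x J, ∀ a ∈ M, b • a ∈ M := by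
      intro b hb a ha
      rw [hMm] at ha ⊢
      have k : b • (π l a + π m a) = π l (b • a) + π m (b • a) := DFunLike.congr_fun (hee b hb).eq a
      rw [← k, ha]
    have hvM : π l v ∈ M := by
      rw [hMm, D.idem, D.orth m l hlm.symm, add_zero]
    obtain ⟨w, hwM, hw0, hwB⟩ := fix (D.H2.to_le hBH) M (fun a _ => D.two a) hMB hvM hv
    rw [hMm] at hwM
    -- fixed vectors of `B` are mapped to such by `x j`, `j ∈ J`
    have hxB : ∀ j ∈ J, ∀ a : A, (∀ b ∈ CB H o x J, b • a = a) → ∀ b ∈ CB H o x J, b • (x j • a) = x j • a := by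
      intro j hj a ha b hb
      have hjj := hjo j hj
      have k1 := cx R hjj (D.xH j hjj) _ (cx R hjj (D.xH j hjj) b hb)
      have k2 : x j * (x j * b * (x j)⁻¹) * (x j)⁻¹ = (x j)⁻¹ * b * x j := by
        have hi : (x j)⁻¹ = x j * x j := (eq_inv_of_mul_eq_one_left (R.x3 hjj)).symm
        calc x j * (x j * b * (x j)⁻¹) * (x j)⁻¹ = (x j * x j) * b * (x j * x j)⁻¹ := by group
          _ = (x j)⁻¹ * b * x j := by rw [← hi, inv_inv]
      rw [k2] at k1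
      have k3 := ha _ k1
      rw [mul_smul, mul_smul, inv_smul_eq_iff] at k3
      exact k3
    have hπB : ∀ j ∈ J, ∀ a : A, (∀ b ∈ CB H o x J, b • a = a) → ∀ b ∈ CB H o x J, b • π j a = π j a := by
      intro j hj a ha b hb
      have k1 := hxB j hj a ha
      have k2 := hxB j hj _ k1
      rw [← D.px j (hjo j hj) a, smul_add, k1 b hb, k2 b hb]
    obtain ⟨j, hj, hjlm, hj0⟩ : ∃ j ∈ J, (j = l ∨ j = m) ∧ π j w ≠ 0 := by
      by_contra hne
      push Not at hne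
      exact hw0 (by rw [← hwM, hne l lJ (Or.inl rfl), hne m mJ (Or.inr rfl), add_zero])
    let F : AddSubgroup A :=
      { carrier := {a | π j a = a ∧ ∀ b ∈ CB H o x J, b • a = a}
        add_mem' := fun {a b} ha hb => ⟨by rw [map_add, ha.1, hb.1], fun c hc => by
          rw [smul_add, ha.2 c hc, hb.2 c hc]⟩
        zero_mem' := ⟨map_zero _, fun c _ => smul_zero c⟩
        neg_mem' := fun {a} ha => ⟨by rw [map_neg, ha.1], fun c hc => by rw [smul_neg, ha.2 c hc]⟩ }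
    have hFm : ∀ a, a ∈ F ↔ π j a = a ∧ ∀ b ∈ CB H o x J, b • a = a := fun a => Iff.rfl
    have hFU : ∀ u ∈ U, ∀ a ∈ F, u • a ∈ F := by
      intro u hu a ha
      rw [hFm] at ha ⊢
      refine ⟨by rw [← D.Uπ u hu, ha.1], fun b hb => ?_⟩
      have k1 := BU D u⁻¹ (U.inv_mem hu) b hb
      have k2 := ha.2 _ k1
      rw [inv_inv, mul_smul, mul_smul, inv_smul_eq_iff] at k2
      exact k2
    have hwF : π j w ∈ F := by
      rw [hFm]
      exact ⟨D.idem j w, hπB j hj w hwB⟩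
    obtain ⟨z, hzF, hz0, hzU⟩ := fix D.U2 F (fun a _ => D.two a) hFU hwF hj0
    rw [hFm] at hzF
    refine ⟨z, hz0, ?_, hzU, hzF.2⟩
    rcases hjlm with rfl | rfl
    · exact Or.inl hzF.1
    · exact Or.inr hzF.1

end Cfsg.Agent.Omega.ThmC.TwoW
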