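import Cfsg.Agent.Omega.ThmC.TwoNL
import Cfsg.Agent.Omega.ThmC.TwoW

/-!
# THEOREM C, `q = 2`, step (2): `K = W ∩ S`, `W = O₂(C_G(z o))`, and its action on `Ω₁Z(KQ)`
-/

set_option autoImplicit false
set_option linter.unusedSectionVars false

namespace Cfsg.Agent.Omega.ThmC

open scoped Pointwise
open Subgroup Cfsg Cfsg.Agent.MinSimple.VModule
open Cfsg.Agent.ZN (zc o2)
open Cfsg.Agent.Omega.IITwo.Count (conj_mem conj_mem' mem_norm)

universe u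

variable {G : Type u} [Group G]

/-- `O₂(C_G(v))`. -/
def WW (v : G) : Subgroup G := o2 (centralizer {v})

theorem WW_two (v : G) : IsPGroup 2 (WW v) := o2_isPGroup _

theorem WW_le (v : G) : WW v ≤ centralizer {v} := o2_le _

theorem le_nor_WW (v : G) : centralizer {v} ≤ normalizer (WW v : Set G) := le_normalizer_o2 _

/-- membership of `g` in `centralizer {v}`. -/
theorem mem_cs {v g : G} : g ∈ centralizer ({v} : Set G) ↔ g * v = v * g := by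
  rw [mem_centralizer_singleton_iff]

theorem mem_cs' {v g : G} : g ∈ centralizer ({v} : Set G) ↔ g * v * g⁻¹ = v := by
  rw [mem_cs, mul_inv_eq_iff_eq_mul]

namespace Dat

variable {S : Sylow 2 G} {Q : Subgroup G} {ι : Type} {Z : ι → Subgroup G} {x z : ι → G}

section
variable [Finite G] [Finite ι] (D : Dat S Q Z x z) {o : ι}

include D in
theorem x_mem_C {l : ι} (h : l ≠ o) : x l ∈ centralizer ({z o} : Set G) :=
  mem_cs'.mpr (D.triv l o h _ (D.zm o))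

include D in
theorem S0_le_C : S0 (S : Subgroup G) Z ≤ centralizer ({z o} : Set G) := fun s hs =>
  mem_cs.mpr ((D.mem_E.mp (D.z_mem_E o)).2 s hs)

include D in
theorem Q_le_C : Q ≤ centralizer ({z o} : Set G) := D.Q_le_S0.trans D.S0_le_C

include D in
/-- `w ∈ W ∩ S` commutes with `x l`, `l ≠ o`, on `Ω₁Z(Q)`. -/
theorem comm_x {w : G} (hw : w ∈ WW (z o)) (hs : w ∈ (S : Subgroup G)) {l : ι} (hl : l ≠ o) :
    Md.cjE (D.SN hs) * D.X l = D.X l * Md.cjE (D.SN hs) := by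
  set A : MulAut ↥(zc Q) := Md.cjE (D.SN hs) with hA
  -- `A X A⁻¹`
  have h1 : A * D.X l * A⁻¹ = D.X (D.sg w l) ∨ A * D.X l * A⁻¹ = (D.X (D.sg w l))⁻¹ := by
    have hval : ∀ a : Md Q, ((A * D.X l * A⁻¹) • a).val = (w * x l * w⁻¹) * a.val * (w * x l * w⁻¹)⁻¹ := by
      intro a
      have h0 : A • A⁻¹ • a = a := smul_inv_smul _ _
      have h2 : (A⁻¹ • a).val = w⁻¹ * a.val * w := by
        have h3 : w * (A⁻¹ • a).val * w⁻¹ = a.val := congrArg Md.val h0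
        rw [← h3]
        generalize (A⁻¹ • a).val = b
        group
      have h4 : ((A * D.X l * A⁻¹) • a).val = w * (x l * (A⁻¹ • a).val * (x l)⁻¹) * w⁻¹ := by
        rw [mul_smul, mul_smul]; rfl
      rw [h4, h2]
      group
    rcases (D.sg_spec hs l).2 with h | h
    · left
      apply Md.ext_smul
      intro a
      exact Md.ext (by rw [hval, h _ a.val_mem, val_X])
    · right
      apply Md.ext_smul
      intro a
      apply Md.ext
      rw [hval, h _ a.val_mem]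
      have h0 : D.X (D.sg w l) • (D.X (D.sg w l))⁻¹ • a = a := smul_inv_smul _ _
      have h3 : x (D.sg w l) * ((D.X (D.sg w l))⁻¹ • a).val * (x (D.sg w l))⁻¹ = a.val := congrArg Md.val h0
      rw [← h3]
      generalize ((D.X (D.sg w l))⁻¹ • a).val = b
      group
  have hcube : ∀ m, (D.X m) ^ 3 = 1 := fun m => Md.faith (fun a => by
    rw [pow_succ, pow_two, mul_smul, mul_smul]; exact D.X_cube m a)
  -- `C = [X⁻¹, A]`
  have hC3 : ((D.X l)⁻¹ * (A * D.X l * A⁻¹)) ^ 3 = 1 := by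
    rcases h1 with h | h
    · rw [h]
      have hc0 : Commute (D.X l) (D.X (D.sg w l)) := D.X_comm l _
      have hc : Commute (D.X l)⁻¹ (D.X (D.sg w l)) := hc0.inv_left
      rw [hc.mul_pow, inv_pow, hcube, hcube, inv_one, one_mul]
    · rw [h]
      have hc0 : Commute (D.X l) (D.X (D.sg w l)) := D.X_comm l _
      have hc : Commute (D.X l)⁻¹ (D.X (D.sg w l))⁻¹ := hc0.inv_left.inv_right
      rw [hc.mul_pow, inv_pow, inv_pow, hcube, hcube, inv_one, one_mul]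
  have hwl : (x l)⁻¹ * w * x l ∈ WW (z o) := conj_mem' (le_nor_WW _ (D.x_mem_C hl)) hw
  have hc : (x l)⁻¹ * w * x l * w⁻¹ ∈ WW (z o) := mul_mem hwl (inv_mem hw)
  obtain ⟨n, hn⟩ := WW_two (z o) ⟨_, hc⟩
  have hn' : ((x l)⁻¹ * w * x l * w⁻¹) ^ 2 ^ n = 1 := congrArg Subtype.val hn
  have hcN : (x l)⁻¹ * w * x l * w⁻¹ ∈ normalizer (zc Q : Set G) :=
    mul_mem (mul_mem (mul_mem (inv_mem (D.xN l)) (D.SN hs)) (D.xN l)) (inv_mem (D.SN hs))
  have hCe : (D.X l)⁻¹ * (A * D.X l * A⁻¹) = Md.cjE hcN := by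
    have e1 : (⟨(x l)⁻¹ * w * x l * w⁻¹, hcN⟩ : normalizer (zc Q : Set G)) =
        (⟨x l, D.xN l⟩ : normalizer (zc Q : Set G))⁻¹ * (⟨w, D.SN hs⟩ * ⟨x l, D.xN l⟩ * ⟨w, D.SN hs⟩⁻¹) := by
      apply Subtype.ext
      simp [mul_assoc]
    have e2 := congrArg (zc Q).normalizerMonoidHom e1
    simp only [map_mul, map_inv] at e2
    exact e2.symm
  have hCn : ((D.X l)⁻¹ * (A * D.X l * A⁻¹)) ^ 2 ^ n = 1 := by
    rw [hCe]
    have e1 : (⟨(x l)⁻¹ * w * x l * w⁻¹, hcN⟩ : normalizer (zc Q : Set G)) ^ 2 ^ n = 1 :=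
      Subtype.ext (by simpa using hn')
    have e2 := congrArg (zc Q).normalizerMonoidHom e1
    rw [map_pow, map_one] at e2
    exact e2
  have h4 : (D.X l)⁻¹ * (A * D.X l * A⁻¹) = 1 := by
    have h5 : orderOf ((D.X l)⁻¹ * (A * D.X l * A⁻¹)) ∣ Nat.gcd 3 (2 ^ n) :=
      Nat.dvd_gcd (orderOf_dvd_of_pow_eq_one hC3) (orderOf_dvd_of_pow_eq_one hCn)
    have h6 : Nat.gcd 3 (2 ^ n) = 1 := Nat.Coprime.pow_right n (by decide)
    rw [h6, Nat.dvd_one, orderOf_eq_one_iff] at h5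
    exact h5
  have h5 := inv_mul_eq_one.mp h4
  rw [eq_mul_inv_iff_mul_eq] at h5
  exact h5.symm

include D in
theorem comm_x' {w : G} (hw : w ∈ WW (z o)) (hs : w ∈ (S : Subgroup G)) {l : ι} (hl : l ≠ o) {v : G}
    (hv : v ∈ zc Q) : w * (x l * v * (x l)⁻¹) * w⁻¹ = x l * (w * v * w⁻¹) * (x l)⁻¹ := by
  have h := D.comm_x hw hs hl
  have h1 : (Md.cjE (D.SN hs) * D.X l) • Md.mk v hv = (D.X l * Md.cjE (D.SN hs)) • Md.mk v hv := by rw [h]
  rw [mul_smul, mul_smul] at h1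
  exact congrArg Md.val h1

include D in
/-- `W ∩ S ≤ S⁰`. -/
theorem inf_le_S0 : WW (z o) ⊓ (S : Subgroup G) ≤ S0 (S : Subgroup G) Z := by
  intro w hw
  rw [mem_inf] at hw
  rw [D.mem_S0_iff hw.2]
  intro l
  rcases eq_or_ne l o with rfl | hl
  · exact D.sg_of_z hw.2 (mem_cs.mp (WW_le _ hw.1))
  · refine D.sg_eq' hw.2 fun v hv => ?_
    have h1 := D.comm_x' hw.1 hw.2 hl (D.le l hv)
    have h2 := D.comm_x' hw.1 hw.2 hl (conj_mem (D.xN l) (D.le l hv))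
    have h3 : pr (x l) (w * v * w⁻¹) = w * pr (x l) v * w⁻¹ := by
      unfold pr
      rw [← h1, ← h2]; group
    rw [D.pr_self hv] at h3
    have h4 := D.pi_mem l (Md.mk (w * v * w⁻¹) (conj_mem (D.SN hw.2) (D.le l hv)))
    rw [D.val_pi, Md.val_mk, h3] at h4
    exact h4

include D in
/-- `W ∩ C(Ω₁Z(Q)) ≤ Q`. -/
theorem inf_C_le_Q : WW (z o) ⊓ centralizer (zc Q : Set G) ≤ Q := by
  have h1 : centralizer (zc Q : Set G) ≤ normalizer (zc Q : Set G) := centralizer_le_normalizer _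
  have h2 : normalizer (zc Q : Set G) ≤ normalizer (centralizer (zc Q : Set G) : Set G) := by
    intro g hg
    refine mem_norm fun c hc => ?_
    rw [mem_centralizer_iff]
    intro v hv
    have h3 := mem_centralizer_iff.mp hc _ (conj_mem' hg hv)
    calc v * (g * c * g⁻¹) = g * ((g⁻¹ * v * g) * c) * g⁻¹ := by group
      _ = g * (c * (g⁻¹ * v * g)) * g⁻¹ := by rw [h3]
      _ = g * c * g⁻¹ * v := by group
  have h3 : (S : Subgroup G) ⊓ centralizer (zc Q : Set G) ≤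
      normalizer (WW (z o) ⊓ centralizer (zc Q : Set G) : Subgroup G) := by
    intro s hs
    have hsQ := D.SC hs
    refine mem_norm fun w hw => ?_
    rw [mem_inf] at hw hs
    exact mem_inf.mpr ⟨conj_mem (le_nor_WW _ (D.Q_le_C hsQ)) hw.1,
      mul_mem (mul_mem hs.2 hw.2) (inv_mem hs.2)⟩
  have h4 := le_of_normalized S D.SN h1 h2 ((WW_two (z o)).to_le inf_le_left) inf_le_right h3
  exact (le_inf h4 inf_le_right).trans D.SC

end

/-! ### `K`, `KQ`, `W'` -/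

/-- `K Q`, `K = W ∩ S`. -/
def KQ (S : Sylow 2 G) (Q : Subgroup G) (v : G) : Subgroup G := (WW v ⊓ (S : Subgroup G)) ⊔ Q

/-- `W' = N_W(KQ)`. -/
def Wp (S : Sylow 2 G) (Q : Subgroup G) (v : G) : Subgroup G :=
  WW v ⊓ normalizer (KQ S Q v : Set G)

section
variable [Finite G] [Finite ι] (D : Dat S Q Z x z) {o : ι}

include D

theorem K_le_KQ : WW (z o) ⊓ (S : Subgroup G) ≤ KQ S Q (z o) := le_sup_left

theorem Q_le_KQ : Q ≤ KQ S Q (z o) := le_sup_right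

theorem KQ_le_S0 : KQ S Q (z o) ≤ S0 (S : Subgroup G) Z := sup_le D.inf_le_S0 D.Q_le_S0

theorem ZK_le : zc (KQ S Q (z o)) ≤ zc Q := zc_le_of_le D.CQ (D.Q_le_KQ)

theorem E_le_ZK : zc (S0 (S : Subgroup G) Z) ≤ zc (KQ S Q (z o)) :=
  zc_le_of_le (((centralizer_le (D.Q_le_KQ (o := o))).trans D.CQ).trans D.Q_le_KQ) D.KQ_le_S0

theorem mem_ZK {v : G} : v ∈ zc (KQ S Q (z o)) ↔ v ∈ zc Q ∧ ∀ s ∈ KQ S Q (z o), s * v = v * s :=
  mem_zc_iff_of_le D.CQ D.Q_le_KQ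

theorem pr_ZK (l : ι) : ∀ v ∈ zc (KQ S Q (z o)), pr (x l) v ∈ zc (KQ S Q (z o)) := by
  intro v hv
  have h1 := D.mem_ZK.mp hv
  rw [D.mem_ZK]
  refine ⟨pr_mem (D.xN l) h1.1, fun s hs => ?_⟩
  have hs0 := D.KQ_le_S0 hs
  have h2 := D.pr_conj (S0_le hs0) l h1.1
  rw [(D.mem_S0_iff (S0_le hs0)).mp hs0 l] at h2
  have h3 : s * v * s⁻¹ = v := by rw [h1.2 s hs]; group
  rw [h3] at h2
  exact mul_inv_eq_iff_eq_mul.mp h2

/-- `x l` normalises `K`. -/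
theorem x_nor_K {l : ι} (hl : l ≠ o) : x l ∈ normalizer (WW (z o) ⊓ (S : Subgroup G) : Subgroup G) := by
  refine mem_norm fun w hw => ?_
  rw [mem_inf] at hw ⊢
  have h1 : x l * w * (x l)⁻¹ ∈ WW (z o) := conj_mem (le_nor_WW _ (D.x_mem_C hl)) hw.1
  refine ⟨h1, ?_⟩
  have h2 : x l * w * (x l)⁻¹ * w⁻¹ ∈ WW (z o) ⊓ centralizer (zc Q : Set G) := by
    refine mem_inf.mpr ⟨mul_mem h1 (inv_mem hw.1), ?_⟩
    rw [mem_centralizer_iff]
    intro v hv
    -- `w` and `x l` commute on `zc Q`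
    have hv1 : (x l)⁻¹ * (w⁻¹ * v * w) * x l ∈ zc Q := conj_mem' (D.xN l) (conj_mem' (D.SN hw.2) hv)
    have h3 := D.comm_x' hw.1 hw.2 hl hv1
    have h4 : x l * ((x l)⁻¹ * (w⁻¹ * v * w) * x l) * (x l)⁻¹ = w⁻¹ * v * w := by group
    rw [h4] at h3
    have h5 : v = x l * (w * ((x l)⁻¹ * (w⁻¹ * v * w) * x l) * w⁻¹) * (x l)⁻¹ := by
      rw [← h3]; group
    have h6 : v = (x l * w * (x l)⁻¹ * w⁻¹) * v * (x l * w * (x l)⁻¹ * w⁻¹)⁻¹ := by
      calc v = x l * (w * ((x l)⁻¹ * (w⁻¹ * v * w) * x l) * w⁻¹) * (x l)⁻¹ := h5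
        _ = _ := by group
    exact (mul_inv_eq_iff_eq_mul.mp h6.symm).symm
  have h3 := D.QS (D.inf_C_le_Q h2)
  have h4 : x l * w * (x l)⁻¹ = (x l * w * (x l)⁻¹ * w⁻¹) * w := by group
  rw [h4]
  exact mul_mem h3 hw.2

theorem x_nor_KQ {l : ι} (hl : l ≠ o) : x l ∈ normalizer (KQ S Q (z o) : Set G) := by
  refine mem_norm fun k hk => ?_
  have h1 := D.x_nor_K hl
  have h2 := D.xQ l
  have key : KQ S Q (z o) ≤ (KQ S Q (z o)).comap (MulAut.conj (x l)).toMonoidHom := by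
    refine sup_le (fun k hk => ?_) (fun k hk => ?_)
    · exact D.K_le_KQ (conj_mem h1 hk)
    · exact D.Q_le_KQ (conj_mem h2 hk)
  exact key hk

theorem S0_nor_KQ : S0 (S : Subgroup G) Z ≤ normalizer (KQ S Q (z o) : Set G) := by
  intro s hs
  refine mem_norm fun k hk => ?_
  have key : KQ S Q (z o) ≤ (KQ S Q (z o)).comap (MulAut.conj s).toMonoidHom := by
    refine sup_le (fun k hk => ?_) (fun k hk => ?_)
    · rw [mem_inf] at hk
      exact D.K_le_KQ (mem_inf.mpr ⟨conj_mem (le_nor_WW _ (D.S0_le_C hs)) hk.1,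
        mul_mem (mul_mem (S0_le hs) hk.2) (inv_mem (S0_le hs))⟩)
    · exact D.Q_le_KQ (conj_mem (D.SQ (S0_le hs)) hk)
  exact key hk

theorem x_nor_ZK {l : ι} (hl : l ≠ o) : x l ∈ normalizer (zc (KQ S Q (z o)) : Set G) :=
  normalizer_le_normalizer_zc _ (D.x_nor_KQ hl)

theorem S0_nor_ZK : S0 (S : Subgroup G) Z ≤ normalizer (zc (KQ S Q (z o)) : Set G) :=
  fun _ hs => normalizer_le_normalizer_zc _ (D.S0_nor_KQ hs)

omit [Finite G] [Finite ι] D in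
theorem Wp_le : Wp S Q (z o) ≤ WW (z o) := inf_le_left

omit [Finite G] [Finite ι] D in
theorem Wp_nor_ZK : Wp S Q (z o) ≤ normalizer (zc (KQ S Q (z o)) : Set G) :=
  fun _ hs => normalizer_le_normalizer_zc _ hs.2

theorem x_conj_Wp {l : ι} (hl : l ≠ o) {w : G} (hw : w ∈ Wp S Q (z o)) : x l * w * (x l)⁻¹ ∈ Wp S Q (z o) :=
  mem_inf.mpr ⟨conj_mem (le_nor_WW _ (D.x_mem_C hl)) (mem_inf.mp hw).1,
    mul_mem (mul_mem (D.x_nor_KQ hl) (mem_inf.mp hw).2) (inv_mem (D.x_nor_KQ hl))⟩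

theorem S0_conj_Wp {s : G} (hs : s ∈ S0 (S : Subgroup G) Z) {w : G} (hw : w ∈ Wp S Q (z o)) :
    s * w * s⁻¹ ∈ Wp S Q (z o) :=
  mem_inf.mpr ⟨conj_mem (le_nor_WW _ (D.S0_le_C hs)) (mem_inf.mp hw).1,
    mul_mem (mul_mem (D.S0_nor_KQ hs) (mem_inf.mp hw).2) (inv_mem (D.S0_nor_KQ hs))⟩

/-- `W' > K` if `W` is not contained in `S`. -/
theorem exists_Wp (h : ¬ WW (z o) ≤ (S : Subgroup G)) : ∃ w ∈ Wp S Q (z o), w ∉ (S : Subgroup G) := by
  have hQn : Q ≤ normalizer (WW (z o) : Set G) := D.Q_le_C.trans (le_nor_WW _)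
  have hA : IsPGroup 2 ↥(Q ⊔ WW (z o)) :=
    (S.2.to_le D.QS : IsPGroup 2 Q).to_sup_of_normal_right' (WW_two _) hQn
  have hBA : KQ S Q (z o) ≤ Q ⊔ WW (z o) := sup_le (inf_le_left.trans le_sup_right) le_sup_left
  have hne : ¬ (Q ⊔ WW (z o)) ≤ KQ S Q (z o) := fun hle =>
    h ((le_sup_right.trans hle).trans (sup_le inf_le_right D.QS))
  obtain ⟨n, hn, hn1, hn2⟩ := exists_normalizer hA hBA hne
  have h1 : n ∈ (Q : Set G) * (WW (z o) : Set G) := by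
    rw [← coe_mul_of_left_le_normalizer_right Q (WW (z o)) hQn]
    exact hn
  obtain ⟨q, hq, w, hw, rfl⟩ := h1
  have hq1 : q ∈ KQ S Q (z o) := D.Q_le_KQ hq
  have hw2 : w ∈ normalizer (KQ S Q (z o) : Set G) := by
    have := mul_mem (inv_mem (le_normalizer hq1)) hn2
    simpa using this
  refine ⟨w, ⟨hw, hw2⟩, fun hwS => hn1 ?_⟩
  exact mul_mem hq1 (D.K_le_KQ (mem_inf.mpr ⟨hw, hwS⟩))

/-- `C_{W'}(ZK) ≤ K`. -/
theorem Wp_faith {w : G} (hw : w ∈ Wp S Q (z o)) (h : w ∈ centralizer (zc (KQ S Q (z o)) : Set G)) :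
    w ∈ WW (z o) ⊓ (S : Subgroup G) := by
  have h1 : Wp S Q (z o) ⊓ centralizer (zc (KQ S Q (z o)) : Set G) ≤ S0 (S : Subgroup G) Z := by
    refine D.le_S0 ((WW_two (z o)).to_le (inf_le_left.trans Wp_le))
      (inf_le_right.trans (centralizer_le D.E_le_ZK)) ?_
    intro s hs
    refine mem_norm fun w hw => ?_
    rw [mem_inf] at hw ⊢
    refine ⟨D.S0_conj_Wp hs hw.1, ?_⟩
    rw [mem_centralizer_iff]
    intro v hv
    have h3 := mem_centralizer_iff.mp hw.2 _ (conj_mem' (D.S0_nor_ZK hs) hv)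
    calc v * (s * w * s⁻¹) = s * ((s⁻¹ * v * s) * w) * s⁻¹ := by group
      _ = s * (w * (s⁻¹ * v * s)) * s⁻¹ := by rw [h3]
      _ = s * w * s⁻¹ * v := by group
  exact mem_inf.mpr ⟨hw.1, S0_le (h1 (mem_inf.mpr ⟨hw, h⟩))⟩

theorem K_le_C : WW (z o) ⊓ (S : Subgroup G) ≤ centralizer (zc (KQ S Q (z o)) : Set G) :=
  D.K_le_KQ.trans (le_centralizer_zc _)

/-- a 2-element of `N(S⁰) ∩ C(E)` lies in `S⁰`. -/
theorem mem_S0_of {c : G} (hc2 : ∃ n : ℕ, c ^ 2 ^ n = 1)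
    (hcE : c ∈ centralizer (zc (S0 (S : Subgroup G) Z) : Set G))
    (hn : c ∈ normalizer (S0 (S : Subgroup G) Z : Set G)) : c ∈ S0 (S : Subgroup G) Z := by
  have h1 : IsPGroup 2 (zpowers c) := by
    obtain ⟨n, hn⟩ := hc2
    rintro ⟨_, k, rfl⟩
    refine ⟨n, Subtype.ext ?_⟩
    change (c ^ k) ^ 2 ^ n = 1
    rw [← zpow_natCast, ← zpow_mul, mul_comm, zpow_mul, zpow_natCast, hn, one_zpow]
  have h2 : IsPGroup 2 ↥(zpowers c ⊔ S0 (S : Subgroup G) Z) :=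
    h1.to_sup_of_normal_right' (S.2.to_le S0_le) (by rwa [zpowers_le])
  have h3 := D.le_S0 h2 (sup_le (by rwa [zpowers_le]) (le_centralizer_zc _)) (le_sup_right.trans le_normalizer)
  exact h3 (le_sup_left (α := Subgroup G) (mem_zpowers c))

end

end Dat

end Cfsg.Agent.Omega.ThmC
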