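import Mathlib

/-!
# THEOREM C (bb OMEGA 15545), case `q = 2`: the module level

`N` a finite group, `T` a Sylow 2-subgroup, `A` a finite faithful elementary abelian 2-group,
`A = ⨁ C l` (`C l = im (π l)`), `T` permutes the `C l` transitively and faithfully,
`C_(C l)(T_l) = {0, z l}`.

* `NDat.card_le`: `|C l| * |C_A(n)| ≤ |A|` for every 2-element `n ≠ 1`;
* `NDat.eq_one`: a 2-element commuting with all `π l` is `1`;
* `NDat.main`: an involution `t ∈ W ≤ R` supported on two factors is supported on `{o, o*}`, and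
  `t * τ` (`τ = (o o*) ∈ T`) acts as an element of order 3 without fixed points on `C_o ⊕ C_o*`.

(bb OMEGA 16261, recipe of helper732.)
-/

set_option autoImplicit false
set_option linter.unusedSectionVars false
set_option linter.style.haveILetI false

namespace Cfsg.Agent.Omega.ThmC

open Subgroup

/-- The module data of THEOREM C for `q = 2`. -/
structure NDat {N : Type*} [Group N] (T : Sylow 2 N) {A : Type*} [AddCommGroup A]
    [DistribMulAction N A] {ι : Type*} [Fintype ι] (π : ι → A →+ A) (σ : N → ι → ι) (z : ι → A) :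
    Prop where
  two : ∀ a : A, a + a = 0
  faith : ∀ n : N, (∀ a : A, n • a = a) → n = 1
  idem : ∀ l a, π l (π l a) = π l a
  orth : ∀ l m, l ≠ m → ∀ a, π l (π m a) = 0
  sum : ∀ a, ∑ l, π l a = a
  perm : ∀ s ∈ (T : Subgroup N), ∀ l a, s • π l a = π (σ s l) (s • a)
  ker : ∀ s ∈ (T : Subgroup N), (∀ l, σ s l = l) → s = 1
  trans : ∀ l m, ∃ s ∈ (T : Subgroup N), σ s l = m
  zm : ∀ l, π l (z l) = z l
  z0 : ∀ l, z l ≠ 0
  zfix : ∀ l a, π l a = a → (∀ s ∈ (T : Subgroup N), σ s l = l → s • a = a) → a = 0 ∨ a = z l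

namespace NDat

/-! ### Generalities -/

section Gen

variable {N : Type*} [Group N] {A : Type*} [AddCommGroup A] [DistribMulAction N A]

/-- `a ↦ n • a - a`. -/
def mv (n : N) : A →+ A := DistribSMul.toAddMonoidHom A n - AddMonoidHom.id A

theorem mv_apply (n : N) (a : A) : mv n a = n • a - a := rfl

theorem card_mv (n : N) :
    Nat.card (mv (A := A) n).range * Nat.card {a : A // n • a = a} = Nat.card A := by
  have h1 := AddSubgroup.card_mul_index (mv (A := A) n).ker
  rw [AddSubgroup.index_ker] at h1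
  have h2 : Nat.card (mv (A := A) n).ker = Nat.card {a : A // n • a = a} :=
    Nat.card_congr (Equiv.subtypeEquivRight fun a => by
      rw [AddMonoidHom.mem_ker, mv_apply, sub_eq_zero])
  rw [← h1, h2, mul_comm]

theorem card_fix_conj (g n : N) :
    Nat.card {a : A // (g * n * g⁻¹) • a = a} = Nat.card {a : A // n • a = a} := by
  refine Nat.card_congr ⟨fun a => ⟨g⁻¹ • (a : A), ?_⟩, fun a => ⟨g • (a : A), ?_⟩, ?_, ?_⟩
  · have h := a.2
    rw [mul_smul, mul_smul] at h
    rw [eq_inv_smul_iff]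
    exact h
  · rw [mul_smul, mul_smul, inv_smul_smul, a.2]
  · intro a
    exact Subtype.ext (smul_inv_smul g (a : A))
  · intro a
    exact Subtype.ext (inv_smul_smul g (a : A))

variable [Finite A]

theorem card_fix_pos (n : N) : 0 < Nat.card {a : A // n • a = a} := by
  haveI : Nonempty {a : A // n • a = a} := ⟨⟨0, smul_zero n⟩⟩
  exact Nat.card_pos

theorem rk_conj (g n : N) :
    Nat.card (mv (A := A) (g * n * g⁻¹)).range = Nat.card (mv (A := A) n).range := by
  have h1 := card_mv (A := A) n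
  have h2 := card_mv (A := A) (g * n * g⁻¹)
  rw [card_fix_conj, ← h1] at h2
  exact Nat.eq_of_mul_eq_mul_right (card_fix_pos n) h2

end Gen

section Syl

variable {N : Type*} [Group N] [Finite N]

theorem exists_conj (T : Sylow 2 N) {P : Subgroup N} (hP : IsPGroup 2 P) :
    ∃ g : N, ∀ x ∈ P, g * x * g⁻¹ ∈ (T : Subgroup N) := by
  obtain ⟨Q, hQ⟩ := hP.exists_le_sylow
  obtain ⟨g, hg⟩ := MulAction.exists_smul_eq N Q T
  refine ⟨g, fun x hx => ?_⟩
  rw [← hg, Sylow.coe_subgroup_smul]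
  exact Subgroup.smul_mem_pointwise_smul x (MulAut.conj g) (Q : Subgroup N) (hQ hx)

theorem isPGroup_zpowers {n : N} (hn : ∃ k : ℕ, n ^ 2 ^ k = 1) : IsPGroup 2 (zpowers n) := by
  obtain ⟨k, hk⟩ := hn
  rintro ⟨x, i, rfl⟩
  refine ⟨k, Subtype.ext ?_⟩
  show (n ^ i) ^ 2 ^ k = 1
  rw [← zpow_natCast, ← zpow_mul, mul_comm, zpow_mul, zpow_natCast, hk, one_zpow]

end Syl

/-! ### The permutation action -/

section Basic

variable {N : Type*} [Group N] {T : Sylow 2 N} {A : Type*} [AddCommGroup A]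
  [DistribMulAction N A] {ι : Type*} [Fintype ι] {π : ι → A →+ A} {σ : N → ι → ι} {z : ι → A}

theorem ext' (D : NDat T π σ z) {a b : A} (h : ∀ l, π l a = π l b) : a = b := by
  rw [← D.sum a, ← D.sum b]
  exact Finset.sum_congr rfl fun l _ => h l

theorem pi_of_ne (D : NDat T π σ z) {l m : ι} (h : m ≠ l) {a : A} (ha : π l a = a) : π m a = 0 := by
  rw [← ha]
  exact D.orth m l h a

theorem pi_inj (D : NDat T π σ z) {l m : ι} (h : ∀ a, π l a = π m a) : l = m := by
  by_contra hlm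
  have h1 := h (z l)
  rw [D.zm l, D.pi_of_ne (Ne.symm hlm) (D.zm l)] at h1
  exact D.z0 l h1

theorem σ_mul (D : NDat T π σ z) {s s' : N} (hs : s ∈ (T : Subgroup N)) (hs' : s' ∈ (T : Subgroup N))
    (l : ι) : σ (s * s') l = σ s (σ s' l) := by
  apply D.pi_inj
  intro a
  have h1 := D.perm _ (mul_mem hs hs') l ((s * s')⁻¹ • a)
  rw [smul_inv_smul] at h1
  rw [← h1, mul_smul, D.perm s' hs', D.perm s hs, ← mul_smul, smul_inv_smul]

theorem σ_one (D : NDat T π σ z) (l : ι) : σ 1 l = l := by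
  apply D.pi_inj
  intro a
  have h1 := D.perm 1 (one_mem _) l a
  rw [one_smul, one_smul] at h1
  exact h1.symm

/-- The action of `T` on the index set. -/
def φ (D : NDat T π σ z) : (T : Subgroup N) →* Equiv.Perm ι :=
  MonoidHom.toHomPerm
    { toFun := fun s => (σ (s : N) : ι → ι)
      map_one' := funext D.σ_one
      map_mul' := fun s s' => funext (D.σ_mul s.2 s'.2) }

theorem φ_apply (D : NDat T π σ z) (s : (T : Subgroup N)) (l : ι) : D.φ s l = σ s l := rfl

theorem φ_inj (D : NDat T π σ z) : Function.Injective D.φ := by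
  rw [injective_iff_map_eq_one]
  intro s hs
  refine Subtype.ext (D.ker s s.2 fun l => ?_)
  rw [← D.φ_apply, hs]
  rfl

theorem σ_inj (D : NDat T π σ z) {s : N} (hs : s ∈ (T : Subgroup N)) : Function.Injective (σ s) :=
  (D.φ ⟨s, hs⟩).injective

theorem eq_of_σ (D : NDat T π σ z) {s s' : N} (hs : s ∈ (T : Subgroup N))
    (hs' : s' ∈ (T : Subgroup N)) (h : ∀ l, σ s l = σ s' l) : s = s' := by
  have := D.φ_inj (a₁ := ⟨s, hs⟩) (a₂ := ⟨s', hs'⟩) (Equiv.ext h)
  exact congrArg Subtype.val this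

theorem pi_smul_of_ne (D : NDat T π σ z) {s : N} (hs : s ∈ (T : Subgroup N)) {l m : ι}
    (h : m ≠ σ s l) {v : A} (hv : π l v = v) : π m (s • v) = 0 := by
  rw [← hv, D.perm s hs, D.orth _ _ h]

/-- supported on `{a, b}` -/
def SuppG (N : Type*) [Group N] {A : Type*} [AddCommGroup A] [DistribMulAction N A] {ι : Type*}
    (π : ι → A →+ A) (a b : ι) : Subgroup N where
  carrier := {n | ∀ l, l ≠ a → l ≠ b → (∀ v, n • π l v = π l v) ∧ ∀ v, π l (n • v) = π l v}
  one_mem' := fun l _ _ => ⟨fun v => one_smul _ _, fun v => by rw [one_smul]⟩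
  mul_mem' := fun {x y} hx hy l ha hb =>
    ⟨fun v => by rw [mul_smul, (hy l ha hb).1, (hx l ha hb).1],
      fun v => by rw [mul_smul, (hx l ha hb).2, (hy l ha hb).2]⟩
  inv_mem' := fun {x} hx l ha hb =>
    ⟨fun v => by rw [inv_smul_eq_iff, (hx l ha hb).1],
      fun v => by rw [← (hx l ha hb).2, smul_inv_smul]⟩

theorem SuppG_symm (a b : ι) : SuppG N π a b = SuppG N π b a := by
  ext n
  exact ⟨fun h l hb ha => h l ha hb, fun h l hb ha => h l ha hb⟩

theorem mem_SuppG {n : N} {a b : ι} : n ∈ SuppG N π a b ↔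
    ∀ l, l ≠ a → l ≠ b → (∀ v, n • π l v = π l v) ∧ ∀ v, π l (n • v) = π l v := Iff.rfl

theorem conj_SuppG (D : NDat T π σ z) {s : N} (hs : s ∈ (T : Subgroup N)) {n : N} {a b : ι}
    (h : n ∈ SuppG N π a b) : s * n * s⁻¹ ∈ SuppG N π (σ s a) (σ s b) := by
  intro l ha hb
  obtain ⟨m, rfl⟩ : ∃ m, σ s m = l := (D.φ ⟨s, hs⟩).surjective l
  have h1 : m ≠ a := fun h => ha (by rw [h])
  have h2 : m ≠ b := fun h => hb (by rw [h])
  constructor
  · intro v
    have h3 := D.perm s hs m (s⁻¹ • v)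
    rw [smul_inv_smul] at h3
    rw [← h3, mul_smul, mul_smul, inv_smul_smul, (h m h1 h2).1]
  · intro v
    have h3 := D.perm s hs m (s⁻¹ • v)
    rw [smul_inv_smul] at h3
    rw [mul_smul, mul_smul, ← D.perm s hs, (h m h1 h2).2, h3]

theorem smul_of_supp (D : NDat T π σ z) {n : N} {a b : ι} (h : n ∈ SuppG N π a b) {v : A}
    (ha : π a v = 0) (hb : π b v = 0) : n • v = v := by
  conv_lhs => rw [← D.sum v]
  conv_rhs => rw [← D.sum v]
  rw [Finset.smul_sum]
  refine Finset.sum_congr rfl fun l _ => ?_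
  by_cases h1 : l = a
  · rw [h1, ha, smul_zero]
  by_cases h2 : l = b
  · rw [h2, hb, smul_zero]
  exact (h l h1 h2).1 v

/-- `C_a ⊕ C_b` -/
def XX (π : ι → A →+ A) (a b : ι) : AddSubgroup A where
  carrier := {v | ∀ l, l ≠ a → l ≠ b → π l v = 0}
  zero_mem' := fun l _ _ => map_zero _
  add_mem' := fun {x y} hx hy l ha hb => by rw [map_add, hx l ha hb, hy l ha hb, add_zero]
  neg_mem' := fun {x} hx l ha hb => by rw [map_neg, hx l ha hb, neg_zero]

theorem mem_XX {a b : ι} {v : A} : v ∈ XX π a b ↔ ∀ l, l ≠ a → l ≠ b → π l v = 0 := Iff.rfl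

theorem sub_mem_XX {n : N} {a b : ι} (h : n ∈ SuppG N π a b) (v : A) : n • v - v ∈ XX π a b := by
  intro l ha hb
  rw [map_sub, (h l ha hb).2, sub_self]

theorem XX_eq (D : NDat T π σ z) {a b : ι} (hab : a ≠ b) {v : A} (hv : v ∈ XX π a b) :
    π a v + π b v = v := by
  apply D.ext'
  intro l
  rw [map_add]
  by_cases ha : l = a
  · rw [ha, D.idem, D.orth a b hab, add_zero]
  by_cases hb : l = b
  · rw [hb, D.idem, D.orth b a (Ne.symm hab), zero_add]
  rw [D.orth l a ha, D.orth l b hb, hv l ha hb, add_zero]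

theorem add_mem_XX (D : NDat T π σ z) (a b : ι) (v w : A) : π a v + π b w ∈ XX π a b := by
  intro l ha hb
  rw [map_add, D.orth l a ha, D.orth l b hb, add_zero]

theorem pi_mem_XX (D : NDat T π σ z) (a b : ι) (v : A) : π b v ∈ XX π a b := by
  intro l ha hb
  rw [D.orth l b hb]

theorem neg_eq (D : NDat T π σ z) (a : A) : -a = a :=
  neg_eq_of_add_eq_zero_left (D.two a)

theorem invol_fix (D : NDat T π σ z) {n : N} (h2 : n * n = 1) (w : A) :
    n • (n • w - w) = n • w - w := by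
  rw [smul_sub, ← mul_smul, h2, one_smul, ← neg_sub, D.neg_eq]

/-- a transposition of `T` -/
structure Tp (T : Sylow 2 N) (π : ι → A →+ A) (σ : N → ι → ι) (s : N) (a b : ι) : Prop where
  mem : s ∈ (T : Subgroup N)
  ne : a ≠ b
  ab : σ s a = b
  ba : σ s b = a
  off : ∀ l, l ≠ a → l ≠ b → σ s l = l
  supp : s ∈ SuppG N π a b
  sq : s * s = 1

theorem Tp.symm {s : N} {a b : ι} (h : Tp T π σ s a b) : Tp T π σ s b a :=
  ⟨h.mem, h.ne.symm, h.ba, h.ab, fun l hb ha => h.off l ha hb, fun l hb ha => h.supp l ha hb, h.sq⟩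

theorem Tp.ne_one {s : N} {a b : ι} (D : NDat T π σ z) (h : Tp T π σ s a b) : s ≠ 1 := by
  rintro rfl
  exact h.ne ((D.σ_one a).symm.trans h.ab)

theorem Tp.conj (D : NDat T π σ z) {s : N} {a b : ι} (h : Tp T π σ s a b) {r : N}
    (hr : r ∈ (T : Subgroup N)) : Tp T π σ (r * s * r⁻¹) (σ r a) (σ r b) := by
  have hr' : r⁻¹ ∈ (T : Subgroup N) := inv_mem hr
  have h0 : ∀ l, σ (r * s * r⁻¹) (σ r l) = σ r (σ s l) := by
    intro l
    rw [← D.σ_mul (mul_mem (mul_mem hr h.mem) hr') hr, inv_mul_cancel_right, D.σ_mul hr h.mem]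
  refine ⟨mul_mem (mul_mem hr h.mem) hr', fun h1 => h.ne (D.σ_inj hr h1), ?_, ?_, ?_,
    D.conj_SuppG hr h.supp, ?_⟩
  · rw [h0, h.ab]
  · rw [h0, h.ba]
  · intro l ha hb
    obtain ⟨m, rfl⟩ : ∃ m, σ r m = l := (D.φ ⟨r, hr⟩).surjective l
    rw [h0, h.off m (fun h => ha (by rw [h])) (fun h => hb (by rw [h]))]
  · have : r * s * r⁻¹ * (r * s * r⁻¹) = r * (s * s) * r⁻¹ := by group
    rw [this, h.sq, mul_one, mul_inv_cancel]

open Classical in
theorem Tp.φ_eq (D : NDat T π σ z) {s : N} {a b : ι} (h : Tp T π σ s a b) :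
    D.φ ⟨s, h.mem⟩ = Equiv.swap a b := by
  ext l
  rw [D.φ_apply]
  by_cases ha : l = a
  · rw [ha, h.ab, Equiv.swap_apply_left]
  by_cases hb : l = b
  · rw [hb, h.ba, Equiv.swap_apply_right]
  rw [h.off l ha hb, Equiv.swap_apply_of_ne_of_ne ha hb]

theorem Tp.unique (D : NDat T π σ z) {s s' : N} {a b b' : ι} (h : Tp T π σ s a b)
    (h' : Tp T π σ s' a b') : s = s' := by
  classical
  by_cases hb : b = b'
  · subst hb
    have := D.φ_inj ((h.φ_eq D).trans (h'.φ_eq D).symm)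
    exact congrArg Subtype.val this
  · exfalso
    have h3 := (Equiv.Perm.isThreeCycle_swap_mul_swap_same h.ne h'.ne hb).orderOf
    rw [← h.φ_eq D, ← h'.φ_eq D, ← map_mul, orderOf_injective D.φ D.φ_inj] at h3
    obtain ⟨k, hk⟩ := T.isPGroup' (⟨s, h.mem⟩ * ⟨s', h'.mem⟩)
    have h4 := orderOf_dvd_of_pow_eq_one hk
    rw [h3] at h4
    exact absurd (Nat.prime_three.dvd_of_dvd_pow h4) (by norm_num)

theorem Tp.right_unique (D : NDat T π σ z) {s s' : N} {a b b' : ι} (h : Tp T π σ s a b)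
    (h' : Tp T π σ s' a b') : b = b' := by
  have h1 := h.unique D h'
  subst h1
  exact h.ab.symm.trans h'.ab

end Basic

/-! ### Cardinalities -/

section Card

variable {N : Type*} [Group N] {T : Sylow 2 N} {A : Type*} [AddCommGroup A] [Finite A]
  [DistribMulAction N A] {ι : Type*} [Fintype ι] {π : ι → A →+ A} {σ : N → ι → ι} {z : ι → A}

theorem card_C_le (D : NDat T π σ z) (l m : ι) :
    Nat.card {a : A // π l a = a} ≤ Nat.card {a : A // π m a = a} := by
  obtain ⟨s, hs, rfl⟩ := D.trans l m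
  refine Nat.card_le_card_of_injective
    (fun a => ⟨s • (a : A), by rw [← D.perm s hs, a.2]⟩) ?_
  intro a b hab
  have h1 : s • (a : A) = s • (b : A) := congrArg Subtype.val hab
  exact Subtype.ext (smul_left_cancel s h1)

theorem card_C_eq (D : NDat T π σ z) (l m : ι) :
    Nat.card {a : A // π l a = a} = Nat.card {a : A // π m a = a} :=
  le_antisymm (D.card_C_le l m) (D.card_C_le m l)

theorem card_C_pos (l : ι) : 0 < Nat.card {a : A // π l a = a} := by
  haveI : Nonempty {a : A // π l a = a} := ⟨⟨0, map_zero _⟩⟩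
  exact Nat.card_pos

/-- `C_l → im (s - 1)` -/
def inj (s : N) (l : ι) : {a : A // π l a = a} → (mv (A := A) s).range :=
  fun a => ⟨s • (a : A) - a, (a : A), rfl⟩

theorem inj_injective (D : NDat T π σ z) {s : N} (hs : s ∈ (T : Subgroup N)) {l : ι}
    (hl : σ s l ≠ l) : Function.Injective (inj (π := π) (A := A) s l) := by
  intro a b hab
  have h1 : s • (a : A) - a = s • (b : A) - b := congrArg Subtype.val hab
  have h2 := congrArg (π l) h1
  rw [map_sub, map_sub, D.pi_smul_of_ne hs (Ne.symm hl) a.2, D.pi_smul_of_ne hs (Ne.symm hl) b.2,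
    a.2, b.2, zero_sub, zero_sub, neg_inj] at h2
  exact Subtype.ext h2

theorem le_rk_T (D : NDat T π σ z) {s : N} (hs : s ∈ (T : Subgroup N)) (h1 : s ≠ 1) (l : ι) :
    Nat.card {a : A // π l a = a} ≤ Nat.card (mv (A := A) s).range := by
  obtain ⟨m, hm⟩ : ∃ m, σ s m ≠ m := by
    by_contra h
    exact h1 (D.ker s hs fun l => not_not.1 fun hl => h ⟨l, hl⟩)
  exact (D.card_C_le l m).trans (Nat.card_le_card_of_injective _ (D.inj_injective hs hm))

theorem exists_Tp (D : NDat T π σ z) {s : N} (hs : s ∈ (T : Subgroup N)) (h1 : s ≠ 1) (l₀ : ι)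
    (hsm : Nat.card (mv (A := A) s).range ≤ Nat.card {a : A // π l₀ a = a}) :
    ∃ a b, Tp T π σ s a b := by
  obtain ⟨a, ha⟩ : ∃ m, σ s m ≠ m := by
    by_contra h
    exact h1 (D.ker s hs fun l => not_not.1 fun hl => h ⟨l, hl⟩)
  have hbij := (D.inj_injective hs ha).bijective_of_nat_card_le (hsm.trans (D.card_C_le l₀ a))
  have K : ∀ m, m ≠ a → m ≠ σ s a → ∀ w : A, π m (s • w) = π m w := by
    intro m hma hmb w
    obtain ⟨v, hv⟩ := hbij.2 ⟨s • w - w, w, rfl⟩
    have h2 : s • (v : A) - v = s • w - w := congrArg Subtype.val hv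
    have h3 := congrArg (π m) h2
    rw [map_sub, map_sub, D.pi_smul_of_ne hs hmb v.2, D.pi_of_ne hma v.2, sub_zero, eq_comm,
      sub_eq_zero] at h3
    exact h3
  have hoff : ∀ l, l ≠ a → l ≠ σ s a → σ s l = l := by
    intro l hla hlb
    by_contra hl
    have h2 := K l hla hlb (z l)
    rw [D.pi_smul_of_ne hs (Ne.symm hl) (D.zm l), D.zm l] at h2
    exact D.z0 l h2.symm
  have hba : σ s (σ s a) = a := by
    by_contra hb
    by_cases h2 : σ s (σ s a) = σ s a
    · exact ha (D.σ_inj hs h2)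
    · have h3 := hoff _ hb h2
      exact h2 (D.σ_inj hs h3)
  refine ⟨a, σ s a, hs, Ne.symm ha, rfl, hba, hoff, fun l hla hlb => ⟨fun v => ?_, K l hla hlb⟩,
    D.ker _ (mul_mem hs hs) fun l => ?_⟩
  · rw [D.perm s hs, hoff l hla hlb, K l hla hlb]
  · rw [D.σ_mul hs hs]
    by_cases hla : l = a
    · rw [hla, hba]
    by_cases hlb : l = σ s a
    · rw [hlb, hba]
    rw [hoff l hla hlb, hoff l hla hlb]

/-- `(R)`, `≥`: -/
theorem le_rk [Finite N] (D : NDat T π σ z) (l : ι) {n : N} (hn : ∃ k : ℕ, n ^ 2 ^ k = 1)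
    (h1 : n ≠ 1) : Nat.card {a : A // π l a = a} ≤ Nat.card (mv (A := A) n).range := by
  obtain ⟨g, hg⟩ := exists_conj T (isPGroup_zpowers hn)
  have h2 := D.le_rk_T (hg n (mem_zpowers n)) (by
    intro h
    apply h1
    rwa [conj_eq_one_iff] at h) l
  rwa [rk_conj] at h2

/-- `(R)` -/
theorem card_le [Finite N] (D : NDat T π σ z) (l : ι) {n : N} (hn : ∃ k : ℕ, n ^ 2 ^ k = 1)
    (h1 : n ≠ 1) : Nat.card {a : A // π l a = a} * Nat.card {a : A // n • a = a} ≤ Nat.card A := by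
  rw [← card_mv (A := A) n]
  exact Nat.mul_le_mul_right _ (D.le_rk l hn h1)

end Card

/-! ### Small elements -/

section Small

variable {N : Type*} [Group N] {T : Sylow 2 N} {A : Type*} [AddCommGroup A] [Finite A]
  [DistribMulAction N A] {ι : Type*} [Fintype ι] {π : ι → A →+ A} {σ : N → ι → ι} {z : ι → A}

theorem card_XX_le (D : NDat T π σ z) {a b : ι} (hab : a ≠ b) :
    Nat.card (XX π a b) ≤
      Nat.card {v : A // π a v = v} * Nat.card {v : A // π a v = v} := by
  conv_rhs => rw [D.card_C_eq a b]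
  conv_rhs => enter [1]; rw [D.card_C_eq b a]
  rw [← Nat.card_prod]
  refine Nat.card_le_card_of_injective
    (fun v => (⟨π a (v : A), D.idem a _⟩, ⟨π b (v : A), D.idem b _⟩)) ?_
  intro v w hvw
  have h1 : π a (v : A) = π a (w : A) := congrArg (fun x => ((x.1 : {v : A // π a v = v}) : A)) hvw
  have h2 : π b (v : A) = π b (w : A) := congrArg (fun x => ((x.2 : {v : A // π b v = v}) : A)) hvw
  refine Subtype.ext ?_
  rw [← D.XX_eq hab v.2, ← D.XX_eq hab w.2, h1, h2]

/-- restriction of `n - 1` to `C_a ⊕ C_b` -/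
def mvX (n : N) (π : ι → A →+ A) (a b : ι) : XX π a b →+ A := (mv n).comp (XX π a b).subtype

theorem mvX_apply (n : N) (a b : ι) (v : XX π a b) : mvX n π a b v = n • (v : A) - v := rfl

theorem range_mvX (D : NDat T π σ z) {n : N} {a b : ι} (hab : a ≠ b) (h : n ∈ SuppG N π a b) :
    (mvX n π a b).range = (mv (A := A) n).range := by
  ext u
  constructor
  · rintro ⟨v, rfl⟩
    exact ⟨v, rfl⟩
  · rintro ⟨w, rfl⟩
    refine ⟨⟨π a w + π b w, D.add_mem_XX a b w w⟩, ?_⟩
    have h1 : n • (w - (π a w + π b w)) = w - (π a w + π b w) := by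
      apply D.smul_of_supp h
      · rw [map_sub, map_add, D.idem, D.orth a b hab, add_zero, sub_self]
      · rw [map_sub, map_add, D.idem, D.orth b a hab.symm, zero_add, sub_self]
    rw [mvX_apply, mv_apply]
    show n • (π a w + π b w) - (π a w + π b w) = n • w - w
    rw [smul_sub] at h1
    rw [sub_eq_sub_iff_add_eq_add] at h1 ⊢
    rw [h1, add_comm]

/-- `im (n - 1) → C_X(n)` -/
def toKer (D : NDat T π σ z) {n : N} {a b : ι} (h : n ∈ SuppG N π a b) (h2 : n * n = 1) :
    (mv (A := A) n).range → (mvX n π a b).ker :=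
  fun u => ⟨⟨u, by obtain ⟨w, hw⟩ := u.2; rw [← hw]; exact sub_mem_XX h w⟩, by
    obtain ⟨w, hw⟩ := u.2
    rw [AddMonoidHom.mem_ker, mvX_apply]
    show n • (u : A) - (u : A) = 0
    rw [← hw, mv_apply, D.invol_fix h2, sub_self]⟩

theorem toKer_injective (D : NDat T π σ z) {n : N} {a b : ι} (h : n ∈ SuppG N π a b)
    (h2 : n * n = 1) : Function.Injective (D.toKer h h2) := by
  intro u v huv
  have h1 : ((D.toKer h h2 u : (mvX n π a b).ker) : A) = ((D.toKer h h2 v : (mvX n π a b).ker) : A) := by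
    rw [huv]
  exact Subtype.ext h1

theorem card_mvX_le (D : NDat T π σ z) {n : N} {a b : ι} (hab : a ≠ b) (h : n ∈ SuppG N π a b) :
    Nat.card (mv (A := A) n).range * Nat.card (mvX n π a b).ker ≤
      Nat.card {v : A // π a v = v} * Nat.card {v : A // π a v = v} := by
  refine le_trans (le_of_eq ?_) (D.card_XX_le hab)
  have h1 := AddSubgroup.card_mul_index (mvX n π a b).ker
  rw [AddSubgroup.index_ker, D.range_mvX hab h] at h1
  rw [← h1, mul_comm]

theorem rk_le (D : NDat T π σ z) {n : N} {a b : ι} (hab : a ≠ b) (h : n ∈ SuppG N π a b)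
    (h2 : n * n = 1) : Nat.card (mv (A := A) n).range ≤ Nat.card {v : A // π a v = v} := by
  have h1 := Nat.card_le_card_of_injective _ (D.toKer_injective h h2)
  have h3 := D.card_mvX_le hab h
  exact Nat.mul_self_le_mul_self_iff.1 ((Nat.mul_le_mul_left _ h1).trans h3)

theorem exists_of_fix [Finite N] (D : NDat T π σ z) {n : N} {a b : ι} (hab : a ≠ b)
    (h : n ∈ SuppG N π a b) (h2 : n * n = 1) (h1 : n ≠ 1) {v : A} (hv : v ∈ XX π a b)
    (hf : n • v = v) : ∃ w : A, n • w - w = v := by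
  have h3 := D.card_mvX_le hab h
  have h4 : Nat.card {v : A // π a v = v} ≤ Nat.card (mv (A := A) n).range :=
    D.le_rk a ⟨1, by rw [pow_one, pow_two, h2]⟩ h1
  have h5 : Nat.card (mvX n π a b).ker ≤ Nat.card (mv (A := A) n).range := by
    refine le_trans ?_ h4
    have h6 := (Nat.mul_le_mul_right (Nat.card (mvX n π a b).ker) h4).trans h3
    exact Nat.le_of_mul_le_mul_left h6 (card_C_pos a)
  have hbij := (D.toKer_injective h h2).bijective_of_nat_card_le h5
  obtain ⟨⟨u, w, hw⟩, hu⟩ := hbij.2 ⟨⟨v, hv⟩, by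
    rw [AddMonoidHom.mem_ker, mvX_apply]
    exact sub_eq_zero.2 hf⟩
  have h6 : u = v := congrArg (fun x : (mvX n π a b).ker => ((x : XX π a b) : A)) hu
  exact ⟨w, hw.trans h6⟩

/-- (F) in `T` -/
theorem F_T (D : NDat T π σ z) {s s' : N} {a b a' b' : ι} (h : Tp T π σ s a b)
    (h' : Tp T π σ s' a' b') (hne : s ≠ s') :
    a ≠ a' ∧ a ≠ b' ∧ b ≠ a' ∧ b ≠ b' := by
  refine ⟨?_, ?_, ?_, ?_⟩
  · rintro rfl
    exact hne (h.unique D h')
  · rintro rfl
    exact hne (h.unique D h'.symm)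
  · rintro rfl
    exact hne (h.symm.unique D h')
  · rintro rfl
    exact hne (h.symm.unique D h'.symm)

theorem F_aux (D : NDat T π σ z) {s s' : N} {a b a' b' : ι} (h : Tp T π σ s a b)
    (h' : Tp T π σ s' a' b') (hne : s ≠ s') :
    s * s' = s' * s ∧ (∀ v w : A, s • v - v = s' • w - w → s • v = v) ∧
      (∀ u : A, ∃ v w : A, s • v = v ∧ s' • w = w ∧ u = v + w) := by
  obtain ⟨h1, h2, h3, h4⟩ := D.F_T h h' hne
  refine ⟨?_, ?_, ?_⟩
  · have h5 := h'.conj D h.mem
    rw [h.off a' h1.symm h3.symm, h.off b' h2.symm h4.symm] at h5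
    have h6 := h5.unique D h'
    rwa [mul_inv_eq_iff_eq_mul] at h6
  · intro v w hvw
    rw [← sub_eq_zero]
    apply D.ext'
    intro l
    rw [map_zero]
    by_cases ha : l = a
    · rw [hvw]
      exact sub_mem_XX h'.supp w l (ha ▸ h1) (ha ▸ h2)
    by_cases hb : l = b
    · rw [hvw]
      exact sub_mem_XX h'.supp w l (hb ▸ h3) (hb ▸ h4)
    exact sub_mem_XX h.supp v l ha hb
  · intro u
    refine ⟨π a' u + π b' u, u - (π a' u + π b' u), ?_, ?_, (add_sub_cancel _ _).symm⟩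
    · apply D.smul_of_supp h.supp
      · rw [map_add, D.orth a a' h1, D.orth a b' h2, add_zero]
      · rw [map_add, D.orth b a' h3, D.orth b b' h4, add_zero]
    · apply D.smul_of_supp h'.supp
      · rw [map_sub, map_add, D.idem, D.orth a' b' h'.ne, add_zero, sub_self]
      · rw [map_sub, map_add, D.idem, D.orth b' a' h'.ne.symm, zero_add, sub_self]

variable [Finite N]

/-- (F) -/
theorem F (D : NDat T π σ z) (l₀ : ι) {P : Subgroup N} (hP : IsPGroup 2 P) {t t' : N} (ht : t ∈ P)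
    (ht' : t' ∈ P) (h1 : t ≠ 1) (h1' : t' ≠ 1) (hne : t ≠ t')
    (hs : Nat.card (mv (A := A) t).range ≤ Nat.card {a : A // π l₀ a = a})
    (hs' : Nat.card (mv (A := A) t').range ≤ Nat.card {a : A // π l₀ a = a}) :
    t * t' = t' * t ∧ (∀ v w : A, t • v - v = t' • w - w → t • v = v) ∧
      (∀ u : A, ∃ v w : A, t • v = v ∧ t' • w = w ∧ u = v + w) := by
  obtain ⟨g, hg⟩ := exists_conj T hP
  obtain ⟨a, b, hab⟩ := D.exists_Tp (hg t ht) (by
    intro h
    exact h1 (conj_eq_one_iff.1 h)) l₀ (by rwa [rk_conj])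
  obtain ⟨a', b', hab'⟩ := D.exists_Tp (hg t' ht') (by
    intro h
    exact h1' (conj_eq_one_iff.1 h)) l₀ (by rwa [rk_conj])
  obtain ⟨hc, hi, hf⟩ := D.F_aux hab hab' (by
    intro h
    exact hne (by
      have h2 := mul_right_cancel h
      exact mul_left_cancel h2))
  have hact : ∀ (x : N) (v : A), (g * x * g⁻¹) • g • v = g • x • v := by
    intro x v
    rw [← mul_smul, ← mul_smul, inv_mul_cancel_right]
  refine ⟨?_, ?_, ?_⟩
  · have h2 : g * (t * t') * g⁻¹ = g * (t' * t) * g⁻¹ := by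
      calc g * (t * t') * g⁻¹ = (g * t * g⁻¹) * (g * t' * g⁻¹) := by group
        _ = (g * t' * g⁻¹) * (g * t * g⁻¹) := hc
        _ = _ := by group
    exact mul_left_cancel (mul_right_cancel h2)
  · intro v w hvw
    have h2 := hi (g • v) (g • w) (by
      rw [hact, hact, ← smul_sub, ← smul_sub, hvw])
    rw [hact] at h2
    exact smul_left_cancel g h2
  · intro u
    obtain ⟨v, w, hv, hw, huvw⟩ := hf (g • u)
    refine ⟨g⁻¹ • v, g⁻¹ • w, ?_, ?_, ?_⟩
    · apply smul_left_cancel g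
      rw [← hact, smul_inv_smul, hv]
    · apply smul_left_cancel g
      rw [← hact, smul_inv_smul, hw]
    · rw [← smul_add, ← huvw, inv_smul_smul]

/-- (F') -/
theorem uniq (D : NDat T π σ z) {x y : ι} (hxy : x ≠ y) {P : Subgroup N} (hP : IsPGroup 2 P)
    {t t' : N} (ht : t ∈ P) (ht' : t' ∈ P) (h1 : t ≠ 1) (h1' : t' ≠ 1)
    (hs : t ∈ SuppG N π x y) (hs' : t' ∈ SuppG N π x y) (h2 : t * t = 1) (h2' : t' * t' = 1) :
    t = t' := by
  by_contra hne
  obtain ⟨hc, hi, -⟩ := D.F x hP ht ht' h1 h1' hne (D.rk_le hxy hs h2) (D.rk_le hxy hs' h2')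
  obtain ⟨w, hw⟩ : ∃ w : A, t • w ≠ w := by
    by_contra h
    exact h1 (D.faith t fun a => not_not.1 fun ha => h ⟨a, ha⟩)
  by_cases h3 : t' • (t • w - w) = t • w - w
  · obtain ⟨w', hw'⟩ := D.exists_of_fix hxy hs' h2' h1' (sub_mem_XX hs w) h3
    exact hw (hi w w' hw'.symm)
  · have h4 : t • (t' • w - w) - (t' • w - w) = t' • (t • w - w) - (t • w - w) := by
      rw [smul_sub, smul_sub, ← mul_smul, ← mul_smul, hc]
      abel
    have h5 := hi _ _ h4
    rw [h5, sub_self, eq_comm, sub_eq_zero] at h4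
    exact h3 h4

end Small

/-! ### (P1) -/

section P1

variable {N : Type*} [Group N] {T : Sylow 2 N} {A : Type*} [AddCommGroup A]
  [DistribMulAction N A] {ι : Type*} [Fintype ι] {π : ι → A →+ A} {σ : N → ι → ι} {z : ι → A}

/-- the stabiliser of the decomposition -/
def Stb (N : Type*) [Group N] {A : Type*} [AddCommGroup A] [DistribMulAction N A] {ι : Type*}
    (π : ι → A →+ A) : Subgroup N where
  carrier := {n | ∃ ρ : Equiv.Perm ι, ∀ l a, n • π l a = π (ρ l) (n • a)}
  one_mem' := ⟨1, fun l a => by rw [one_smul, one_smul]; rfl⟩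
  mul_mem' := by
    rintro x y ⟨ρ, hρ⟩ ⟨ρ', hρ'⟩
    exact ⟨ρ * ρ', fun l a => by rw [mul_smul, hρ', hρ, ← mul_smul]; rfl⟩
  inv_mem' := by
    rintro x ⟨ρ, hρ⟩
    refine ⟨ρ.symm, fun l a => ?_⟩
    rw [inv_smul_eq_iff, hρ, smul_inv_smul, Equiv.apply_symm_apply]

theorem T_le_Stb (D : NDat T π σ z) : (T : Subgroup N) ≤ Stb N π := fun s hs =>
  ⟨D.φ ⟨s, hs⟩, fun l a => D.perm s hs l a⟩

/-- (P1) -/
theorem eq_one [Finite N] (D : NDat T π σ z) {n : N} (hn : ∃ k : ℕ, n ^ 2 ^ k = 1)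
    (h : ∀ l a, n • π l a = π l (n • a)) : n = 1 := by
  have hnP : n ∈ Stb N π := ⟨1, h⟩
  have h1 : ∃ k : ℕ, (⟨n, hnP⟩ : Stb N π) ^ 2 ^ k = 1 := by
    obtain ⟨k, hk⟩ := hn
    exact ⟨k, Subtype.ext hk⟩
  obtain ⟨g, hg⟩ := exists_conj (T.subtype D.T_le_Stb) (isPGroup_zpowers h1)
  have h2 : (g : N) * n * (g : N)⁻¹ ∈ (T : Subgroup N) := hg _ (mem_zpowers _)
  obtain ⟨ρ, hρ⟩ := g.2
  have h3 : ∀ l a, ((g : N) * n * (g : N)⁻¹) • π l a = π l (((g : N) * n * (g : N)⁻¹) • a) := by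
    intro l a
    obtain ⟨b, rfl⟩ : ∃ b, a = (g : N) • b := ⟨(g : N)⁻¹ • a, (smul_inv_smul _ _).symm⟩
    obtain ⟨m, rfl⟩ : ∃ m, l = ρ m := ⟨ρ.symm l, (Equiv.apply_symm_apply _ _).symm⟩
    rw [← hρ, mul_smul, mul_smul, inv_smul_smul, h, mul_smul, mul_smul, inv_smul_smul, hρ]
  have h4 : (g : N) * n * (g : N)⁻¹ = 1 := by
    refine D.ker _ h2 fun l => ?_
    apply D.pi_inj
    intro a
    have h5 := D.perm _ h2 l (((g : N) * n * (g : N)⁻¹)⁻¹ • a)
    rw [h3, smul_inv_smul] at h5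
    exact h5.symm
  exact conj_eq_one_iff.1 h4

theorem eq_one_of_supp [Finite N] (D : NDat T π σ z) {n : N} (hn : ∃ k : ℕ, n ^ 2 ^ k = 1)
    {x y y' : ι} (hy : y ≠ y') (h : n ∈ SuppG N π x y) (h' : n ∈ SuppG N π x y') : n = 1 := by
  have h0 : ∀ l, l ≠ x → (∀ v, n • π l v = π l v) ∧ ∀ v, π l (n • v) = π l v := by
    intro l hl
    by_cases h1 : l = y
    · exact h' l hl (h1 ▸ hy)
    · exact h l hl h1
  refine D.eq_one hn fun l a => ?_
  by_cases hl : l = x
  · subst hl
    apply D.ext'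
    intro m
    by_cases hm : m = l
    · subst hm
      rw [D.idem]
      have h1 : n • (a - π m a) = a - π m a := by
        apply D.smul_of_supp (a := m) (b := m) (fun k hk _ => h0 k hk)
        · rw [map_sub, D.idem, sub_self]
        · rw [map_sub, D.idem, sub_self]
      have h2 := congrArg (π m) h1
      rw [smul_sub, map_sub, map_sub, D.idem, sub_self, sub_eq_zero] at h2
      exact h2.symm
    · rw [(h0 m hm).2, D.orth m l hm, D.orth m l hm]
  · rw [(h0 l hl).1, (h0 l hl).2]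

end P1

/-! ### The partner -/

section Star

variable {N : Type*} [Group N] {T : Sylow 2 N} {A : Type*} [AddCommGroup A]
  [DistribMulAction N A] {ι : Type*} [Fintype ι] {π : ι → A →+ A} {σ : N → ι → ι} {z : ι → A}

theorem exists_star (D : NDat T π σ z) {s₀ : N} {a₀ b₀ : ι} (h₀ : Tp T π σ s₀ a₀ b₀) :
    ∃ (star : ι → ι) (tt : ι → N), (∀ l, Tp T π σ (tt l) l (star l)) ∧ (∀ l, star l ≠ l) ∧
      (∀ l, star (star l) = l) ∧
      ∀ s ∈ (T : Subgroup N), ∀ l, σ s (star l) = star (σ s l) := by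
  have h1 : ∀ l, ∃ (b : ι) (s : N), Tp T π σ s l b := by
    intro l
    obtain ⟨r, hr, rfl⟩ := D.trans a₀ l
    exact ⟨_, _, h₀.conj D hr⟩
  choose star tt h using h1
  refine ⟨star, tt, h, fun l => (h l).ne.symm, fun l => ?_, fun s hs l => ?_⟩
  · exact (h (star l)).right_unique D (h l).symm
  · exact ((h l).conj D hs).right_unique D (h (σ s l))

end Star

/-! ### A 2-group has fixed points -/

section Fix

variable {N : Type*} [Group N] {A : Type*} [AddCommGroup A] [Finite A] [DistribMulAction N A]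

theorem exists_fixed (h2 : ∀ a : A, a + a = 0) {H : Subgroup N} (hH : IsPGroup 2 H)
    (J : AddSubgroup A) (hJ : ∀ h ∈ H, ∀ v ∈ J, h • v ∈ J) (hne : ∃ v ∈ J, v ≠ 0) :
    ∃ v ∈ J, v ≠ 0 ∧ ∀ h ∈ H, h • v = v := by
  letI : MulAction H J :=
    { smul := fun h v => ⟨(h : N) • (v : A), hJ h h.2 v v.2⟩
      one_smul := fun v => Subtype.ext (one_smul N (v : A))
      mul_smul := fun g h v => Subtype.ext (mul_smul (g : N) (h : N) (v : A)) }
  have hsm : ∀ (h : H) (v : J), ((h • v : J) : A) = (h : N) • (v : A) := fun _ _ => rfl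
  obtain ⟨v, hv, hv0⟩ := hne
  have hdvd : 2 ∣ Nat.card J := by
    have h1 : addOrderOf (⟨v, hv⟩ : J) = 2 := by
      refine addOrderOf_eq_prime ?_ ?_
      · rw [two_nsmul]
        exact Subtype.ext (h2 v)
      · intro h
        exact hv0 (congrArg Subtype.val h)
    rw [← h1]
    exact addOrderOf_dvd_natCard _
  obtain ⟨b, hb, hb0⟩ := hH.exists_fixed_point_of_prime_dvd_card_of_fixed_point J hdvd
    (a := (0 : J)) (fun h => Subtype.ext (by rw [hsm]; exact smul_zero _))
  refine ⟨b, b.2, fun h => hb0 (Subtype.ext h.symm), fun h hh => ?_⟩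
  have h3 := hb ⟨h, hh⟩
  have h4 := congrArg Subtype.val h3
  exact h4

end Fix

/-! ### The main theorem -/

section Main

variable {N : Type*} [Group N] [Finite N] {T : Sylow 2 N} {A : Type*} [AddCommGroup A] [Finite A]
  [DistribMulAction N A] {ι : Type*} [Fintype ι] {π : ι → A →+ A} {σ : N → ι → ι} {z : ι → A}

/-- step (4), main part -/
theorem no_far (D : NDat T π σ z) {x x' y o : ι} {R : Subgroup N} (hR : IsPGroup 2 R)
    (hTR : ∀ s ∈ (T : Subgroup N), σ s o = o → s ∈ R) {tx : N} (htx : Tp T π σ tx x x')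
    (hxo : x ≠ o) (hx'o : x' ≠ o) (hxy : x ≠ y) (hx'y : x' ≠ y) {t : N} (ht : t ∈ R) (ht1 : t ≠ 1)
    (h2 : t * t = 1) (hs : t ∈ SuppG N π x y) : False := by
  have htxR : tx ∈ R := hTR tx htx.mem (htx.off o hxo.symm hx'o.symm)
  have hinv : tx⁻¹ = tx := inv_eq_of_mul_eq_one_left htx.sq
  have hs' : tx * t * tx ∈ SuppG N π x' y := by
    have h := D.conj_SuppG htx.mem hs
    rwa [htx.ab, htx.off y hxy.symm hx'y.symm, hinv] at h
  have ht'R : tx * t * tx ∈ R := mul_mem (mul_mem htxR ht) htxR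
  have h2' : tx * t * tx * (tx * t * tx) = 1 := by
    calc tx * t * tx * (tx * t * tx) = tx * (t * (tx * tx) * t) * tx := by group
      _ = 1 := by rw [htx.sq, mul_one, h2, mul_one, htx.sq]
  have ht1' : tx * t * tx ≠ 1 := by
    intro h
    apply ht1
    have h3 : tx * t * tx⁻¹ = 1 := by rw [hinv, h]
    exact conj_eq_one_iff.1 h3
  have hne : t ≠ tx * t * tx := by
    intro h
    apply ht1
    refine D.eq_one_of_supp ⟨1, by rw [pow_one, pow_two, h2]⟩ htx.ne (x := y)
      (SuppG_symm (N := N) (π := π) x y ▸ hs) ?_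
    rw [← SuppG_symm (N := N) (π := π) x' y, h]
    exact hs'
  obtain ⟨hc, hi, hf⟩ := D.F x hR ht ht'R ht1 ht1' hne (D.rk_le hxy hs h2)
    ((D.rk_le hx'y hs' h2').trans (D.card_C_le x' x))
  have hq : ∀ v, tx • π y v = π y v := fun v => (htx.supp y hxy.symm hx'y.symm).1 v
  have hq' : ∀ v, π y (tx • v) = π y v := fun v => (htx.supp y hxy.symm hx'y.symm).2 v
  -- step a
  have ha : ∀ w : A, (tx * t * tx) • (t • w - w) = t • w - w := by
    intro w
    have h4 : t • ((tx * t * tx) • w - w) - ((tx * t * tx) • w - w) =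
        (tx * t * tx) • (t • w - w) - (t • w - w) := by
      rw [smul_sub, smul_sub, ← mul_smul, ← mul_smul, hc]
      abel
    have h5 := hi _ _ h4
    rw [h5, sub_self, eq_comm, sub_eq_zero] at h4
    exact h4
  -- step b
  have hb : ∀ w : A, π y (t • w - w) = 0 := by
    intro w
    have h3 := D.XX_eq hxy (sub_mem_XX hs w)
    have h4 : (tx * t * tx) • π x (t • w - w) = π x (t • w - w) := (hs' x htx.ne hxy).1 _
    have h6 : (tx * t * tx) • π y (t • w - w) = π y (t • w - w) := by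
      have h5 := ha w
      rw [← h3, smul_add, h4] at h5
      exact add_left_cancel h5
    have h7 : t • π y (t • w - w) = π y (t • w - w) := by
      rw [mul_smul, mul_smul, hq] at h6
      have h8 : tx • tx • t • π y (t • w - w) = tx • π y (t • w - w) := by rw [h6]
      rw [← mul_smul tx tx, htx.sq, one_smul, hq] at h8
      exact h8
    obtain ⟨w', hw'⟩ := D.exists_of_fix hxy hs h2 ht1 (D.pi_mem_XX x y _) h7
    have h8 : t • w' - w' = (tx * t * tx) • (tx • w') - tx • w' := by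
      rw [← mul_smul, mul_assoc, htx.sq, mul_one, mul_smul, ← smul_sub, hw', hq]
    have h9 := hi _ _ h8
    rw [← hw', h9, sub_self]
  -- step c
  have hcc : ∀ v : A, t • v = v → π y v = 0 := by
    intro v hv
    have h3 : t • (v - (π x v + π y v)) = v - (π x v + π y v) := by
      apply D.smul_of_supp hs
      · rw [map_sub, map_add, D.idem, D.orth x y hxy, add_zero, sub_self]
      · rw [map_sub, map_add, D.idem, D.orth y x hxy.symm, zero_add, sub_self]
    have h4 : t • (π x v + π y v) = π x v + π y v := by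
      rw [smul_sub, hv] at h3
      exact sub_right_injective h3
    obtain ⟨w, hw⟩ := D.exists_of_fix hxy hs h2 ht1 (D.add_mem_XX x y v v) h4
    have h5 := hb w
    rw [hw, map_add, D.orth y x hxy.symm, zero_add, D.idem] at h5
    exact h5
  have hcc' : ∀ v : A, (tx * t * tx) • v = v → π y v = 0 := by
    intro v hv
    rw [← hq']
    apply hcc
    have h3 : tx • (tx * t * tx) • v = tx • v := by rw [hv]
    rw [← mul_smul, ← mul_assoc, ← mul_assoc, htx.sq, one_mul, mul_smul] at h3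
    exact h3
  obtain ⟨v, w, hv, hw, huvw⟩ := hf (z y)
  apply D.z0 y
  rw [← D.zm y, huvw, map_add, hcc v hv, hcc' w hw, add_zero]

/-- steps (3) and (4): `p = o` implies `q = o*`; `p, q ≠ o` is impossible -/
theorem near (D : NDat T π σ z) {o : ι} {R : Subgroup N} (hR : IsPGroup 2 R)
    (hTR : ∀ s ∈ (T : Subgroup N), σ s o = o → s ∈ R) (hz : ∀ r ∈ R, r • z o = z o)
    {t : N} (ht : t ∈ R) (ht1 : t ≠ 1) (h2 : t * t = 1) {p q : ι} (hpq : p ≠ q)
    (hs : t ∈ SuppG N π p q)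
    (alt : p = o ∨ (p ≠ o ∧ q ≠ o ∧ ∃ a : A, a ≠ 0 ∧ (π p a = a ∨ π q a = a) ∧ t • a = a))
    {star : ι → ι} {tt : ι → N} (htt : ∀ l, Tp T π σ (tt l) l (star l))
    (hss : ∀ l, star (star l) = l) : p = o ∧ q = star o := by
  rcases alt with rfl | ⟨hpo, hqo, a, ha0, hpa, hta⟩
  · refine ⟨rfl, ?_⟩
    by_contra hq
    have hqs : star q ≠ p := fun h => hq (by rw [← h, hss])
    have hT := htt q
    have hTR' : tt q ∈ R := hTR _ hT.mem (hT.off p hpq hqs.symm)
    have hinv : (tt q)⁻¹ = tt q := inv_eq_of_mul_eq_one_left hT.sq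
    have hs' : tt q * t * tt q ∈ SuppG N π p (star q) := by
      have h := D.conj_SuppG hT.mem hs
      rwa [hT.ab, hT.off p hpq hqs.symm, hinv] at h
    have ht'R : tt q * t * tt q ∈ R := mul_mem (mul_mem hTR' ht) hTR'
    have h2' : tt q * t * tt q * (tt q * t * tt q) = 1 := by
      calc tt q * t * tt q * (tt q * t * tt q) = tt q * (t * (tt q * tt q) * t) * tt q := by group
        _ = 1 := by rw [hT.sq, mul_one, h2, mul_one, hT.sq]
    have ht1' : tt q * t * tt q ≠ 1 := by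
      intro h
      apply ht1
      have h3 : tt q * t * (tt q)⁻¹ = 1 := by rw [hinv, h]
      exact conj_eq_one_iff.1 h3
    have hne : t ≠ tt q * t * tt q := by
      intro h
      apply ht1
      refine D.eq_one_of_supp ⟨1, by rw [pow_one, pow_two, h2]⟩ hT.ne hs ?_
      rw [h]
      exact hs'
    obtain ⟨-, hi, -⟩ := D.F p hR ht ht'R ht1 ht1' hne (D.rk_le hpq hs h2)
      (D.rk_le hqs.symm hs' h2')
    have hzX : z p ∈ XX π p q := by
      intro l hlp hlq
      exact D.pi_of_ne hlp (D.zm p)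
    obtain ⟨w, hw⟩ := D.exists_of_fix hpq hs h2 ht1 hzX (hz t ht)
    have h8 : t • w - w = (tt q * t * tt q) • (tt q • w) - tt q • w := by
      rw [← mul_smul, mul_assoc, hT.sq, mul_one, mul_smul, ← smul_sub, hw, hz _ hTR']
    have h9 := hi _ _ h8
    rw [h9, sub_self] at hw
    exact D.z0 p hw.symm
  · exfalso
    by_cases hqp : star p = q
    · subst hqp
      have hT := htt p
      have hTR' : tt p ∈ R := hTR _ hT.mem (hT.off o hpo.symm hqo.symm)
      have h3 := D.uniq hpq hR ht hTR' ht1 (hT.ne_one D) hs hT.supp h2 hT.sq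
      rw [h3] at hta
      apply ha0
      rcases hpa with h4 | h4
      · have h5 := D.pi_smul_of_ne hT.mem (m := p) (by rw [hT.ab]; exact hpq) h4
        rw [← h4, ← hta, h5]
      · have h5 := D.pi_smul_of_ne hT.mem (m := star p) (by rw [hT.ba]; exact hpq.symm) h4
        rw [← h4, ← hta, h5]
    · by_cases hpo' : star p = o
      · -- then `star q ≠ o`
        have hqo' : star q ≠ o := by
          intro h
          apply hpq
          rw [← hss p, ← hss q, hpo', h]
        have hqp' : star q ≠ p := fun h => hqp (by rw [← h, hss])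
        exact D.no_far hR hTR (htt q) hqo hqo' hpq.symm hqp' ht ht1 h2
          (SuppG_symm (N := N) (π := π) p q ▸ hs)
      · exact D.no_far hR hTR (htt p) hpo hpo' hpq hqp ht ht1 h2 hs

/-- step (5) -/
theorem five (D : NDat T π σ z) {o o' : ι} (hoo : o ≠ o') {t τ : N} (ht1 : t ≠ 1)
    (h2 : t * t = 1) (hs : t ∈ SuppG N π o o') (hτ : Tp T π σ τ o o')
    (hst : ∀ s ∈ (T : Subgroup N), (σ s o = o ↔ σ s o' = o'))
    (hcomm : ∀ s ∈ (T : Subgroup N), σ s o = o → s * t = t * s)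
    (hcommτ : ∀ s ∈ (T : Subgroup N), σ s o = o → s * τ = τ * s)
    (hzo : ∀ s ∈ (T : Subgroup N), σ s o = o → s • z o = z o) (htz : t • z o = z o) :
    (∀ a, π o a + π o' a = a → a + (t * τ) • a + (t * τ) • (t * τ) • a = 0) ∧
      (t * τ) • z o = z o + z o' ∧ (t * τ) • z o' = z o := by
  have hτ1 : τ ≠ 1 := hτ.ne_one D
  have hys : t * τ ∈ SuppG N π o o' := mul_mem hs hτ.supp
  set y := t * τ with hy
  have htinv : t⁻¹ = t := inv_eq_of_mul_eq_one_left h2
  have hτinv : τ⁻¹ = τ := inv_eq_of_mul_eq_one_left hτ.sq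
  have hyinv : y⁻¹ = τ * t := by rw [hy, mul_inv_rev, htinv, hτinv]
  have hty : t * y * t⁻¹ = y⁻¹ := by
    rw [hyinv, htinv, hy, ← mul_assoc, h2, one_mul]
  have hτy : τ * y * τ⁻¹ = y⁻¹ := by
    rw [hyinv, hτinv, hy, ← mul_assoc, mul_assoc, hτ.sq, mul_one]
  -- `y` has odd order
  have hodd : Odd (orderOf y) := by
    rw [← Nat.not_even_iff_odd]
    rintro ⟨k, hk⟩
    have hpos : 0 < orderOf y := orderOf_pos y
    have hk0 : 0 < k := by omega
    have hc2 : y ^ k * y ^ k = 1 := by rw [← pow_add, ← hk, pow_orderOf_eq_one]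
    have hc1 : y ^ k ≠ 1 := by
      intro h
      have := Nat.le_of_dvd hk0 (orderOf_dvd_of_pow_eq_one h)
      omega
    have hcs : y ^ k ∈ SuppG N π o o' := pow_mem hys k
    have hcinv : (y ^ k)⁻¹ = y ^ k := inv_eq_of_mul_eq_one_left hc2
    have key : ∀ u : N, u ≠ 1 → u * u = 1 → u ∈ SuppG N π o o' → u * y * u⁻¹ = y⁻¹ → u = y ^ k := by
      intro u hu1 hu2 hus huy
      have hcu : u * y ^ k * u⁻¹ = y ^ k := by
        rw [← conj_pow, huy, inv_pow, hcinv]
      have hle : zpowers u ≤ normalizer (zpowers (y ^ k) : Set N) := by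
        rw [zpowers_le]
        have hcc : u ∈ centralizer (zpowers (y ^ k) : Set N) := by
          rw [mem_centralizer_iff]
          rintro v ⟨i, rfl⟩
          have hcm : Commute (y ^ k) u := by
            have := eq_mul_inv_iff_mul_eq.1 hcu.symm
            exact this
          exact (hcm.zpow_left i).eq
        exact centralizer_le_normalizer _ hcc
      have hP : IsPGroup 2 (zpowers u ⊔ zpowers (y ^ k) : Subgroup N) :=
        IsPGroup.to_sup_of_normal_right' (isPGroup_zpowers ⟨1, by rw [pow_one, pow_two, hu2]⟩)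
          (isPGroup_zpowers ⟨1, by rw [pow_one, pow_two, hc2]⟩) hle
      exact D.uniq hoo hP (le_sup_left (a := zpowers u) (mem_zpowers u))
        (le_sup_right (a := zpowers u) (mem_zpowers (y ^ k))) hu1 hc1 hus hcs hu2 hc2
    have h3 := key t ht1 h2 hs hty
    have h4 := key τ hτ1 hτ.sq hτ.supp hτy
    apply hc1
    have h5 : y = 1 := by rw [hy, h3, h4, hc2]
    rw [h5, one_pow]
  -- `C_X(T_o)`
  have hV : ∀ v ∈ XX π o o', (∀ s ∈ (T : Subgroup N), σ s o = o → s • v = v) →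
      v = 0 ∨ v = z o ∨ v = z o' ∨ v = z o + z o' := by
    intro v hv hfix
    have h3 : π o v = 0 ∨ π o v = z o := by
      refine D.zfix o _ (D.idem o v) fun s hs' hso => ?_
      rw [D.perm s hs', hso, hfix s hs' hso]
    have h4 : π o' v = 0 ∨ π o' v = z o' := by
      refine D.zfix o' _ (D.idem o' v) fun s hs' hso' => ?_
      rw [D.perm s hs', hso', hfix s hs' ((hst s hs').2 hso')]
    have h5 := D.XX_eq hoo hv
    rcases h3 with h3 | h3 <;> rcases h4 with h4 | h4 <;> rw [h3, h4] at h5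
    · left
      rw [← h5, add_zero]
    · right; right; left
      rw [← h5, zero_add]
    · right; left
      rw [← h5, add_zero]
    · right; right; right
      exact h5.symm
  have hzoX : z o ∈ XX π o o' := fun l hl _ => D.pi_of_ne hl (D.zm o)
  have hzoX' : z o' ∈ XX π o o' := fun l _ hl => D.pi_of_ne hl (D.zm o')
  have hzz : z o ≠ z o' := by
    intro h
    have h3 := D.pi_of_ne hoo (D.zm o')
    rw [← h, D.zm o] at h3
    exact D.z0 o h3
  -- `τ z_o = z_o'`
  have hτz : τ • z o = z o' := by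
    have h3 : π o' (τ • z o) = τ • z o := by
      conv_rhs => rw [← D.zm o]
      rw [D.perm τ hτ.mem, hτ.ab]
    rcases D.zfix o' _ h3 (fun s hs' hso' => by
      have hso := (hst s hs').2 hso'
      rw [← mul_smul, hcommτ s hs' hso, mul_smul, hzo s hs' hso]) with h4 | h4
    · exfalso
      rw [smul_eq_zero_iff_eq] at h4
      exact D.z0 o h4
    · exact h4
  have hτz' : τ • z o' = z o := by rw [← hτz, ← mul_smul, hτ.sq, one_smul]
  have hzo' : ∀ s ∈ (T : Subgroup N), σ s o = o → s • z o' = z o' := by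
    intro s hs' hso
    rw [← hτz, ← mul_smul, hcommτ s hs' hso, mul_smul, hzo s hs' hso]
  have hpow : ∀ v : A, y ^ orderOf y • v = v := fun v => by rw [pow_orderOf_eq_one, one_smul]
  -- `t z_o' = z_o + z_o'`
  have htz' : t • z o' = z o + z o' := by
    have hX : t • z o' ∈ XX π o o' := by
      intro l hl hl'
      rw [(hs l hl hl').2]
      exact hzoX' l hl hl'
    rcases hV _ hX (fun s hs' hso => by
      rw [← mul_smul, hcomm s hs' hso, mul_smul, hzo' s hs' hso]) with h4 | h4 | h4 | h4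
    · exfalso
      rw [smul_eq_zero_iff_eq] at h4
      exact D.z0 o' h4
    · exfalso
      conv_rhs at h4 => rw [← htz]
      exact hzz (smul_left_cancel t h4).symm
    · exfalso
      have h5 : y • z o = z o' := by rw [hy, mul_smul, hτz, h4]
      have h6 : y • z o' = z o := by rw [hy, mul_smul, hτz', htz]
      have h7 : ∀ k : ℕ, y ^ (2 * k) • z o = z o := by
        intro k
        induction k with
        | zero => rw [mul_zero, pow_zero, one_smul]
        | succ k ih => rw [mul_add, mul_one, pow_add, mul_smul, pow_two, mul_smul, h5, h6, ih]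
      obtain ⟨k, hk⟩ := hodd
      have h8 := hpow (z o)
      rw [hk, pow_add, pow_one, mul_smul, h5] at h8
      have h9 : y ^ (2 * k) • z o' = z o' := by
        have h10 : y • (y ^ (2 * k) • z o) = y ^ (2 * k) • (y • z o) := by
          rw [← mul_smul, ← mul_smul, ← pow_succ, ← pow_succ']
        rw [h7, h5] at h10
        exact h10.symm
      exact hzz (h8.symm.trans h9)
    · exact h4
  have hyz : y • z o = z o + z o' := by rw [hy, mul_smul, hτz, htz']
  have hyz' : y • z o' = z o := by rw [hy, mul_smul, hτz', htz]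
  have hy3z : y ^ 3 • z o = z o := by
    rw [pow_succ, pow_two, mul_smul, mul_smul, hyz, smul_add, hyz, hyz', smul_add, smul_add, hyz,
      hyz']
    calc z o + z o' + z o + (z o + z o') = (z o + z o) + z o + (z o' + z o') := by abel
      _ = z o := by rw [D.two, D.two, zero_add, add_zero]
  have hy3z' : y ^ 3 • z o' = z o' := by
    rw [pow_succ, pow_two, mul_smul, mul_smul, hyz', hyz, smul_add, hyz, hyz']
    calc z o + z o' + z o = (z o + z o) + z o' := by abel
      _ = z o' := by rw [D.two, zero_add]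
  have hVy3 : ∀ v, (v = 0 ∨ v = z o ∨ v = z o' ∨ v = z o + z o') → y ^ 3 • v = v := by
    rintro v (rfl | rfl | rfl | rfl)
    · exact smul_zero _
    · exact hy3z
    · exact hy3z'
    · rw [smul_add, hy3z, hy3z']
  -- the group `T_o`
  let To : Subgroup N :=
    { carrier := {s | s ∈ (T : Subgroup N) ∧ σ s o = o}
      one_mem' := ⟨one_mem _, D.σ_one o⟩
      mul_mem' := fun {a b} ha hb => ⟨mul_mem ha.1 hb.1, by rw [D.σ_mul ha.1 hb.1, hb.2, ha.2]⟩
      inv_mem' := fun {a} ha => ⟨inv_mem ha.1, by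
        apply D.σ_inj ha.1
        rw [← D.σ_mul ha.1 (inv_mem ha.1), mul_inv_cancel, D.σ_one, ha.2]⟩ }
  have hTo : IsPGroup 2 To := T.isPGroup'.to_le fun s hs' => hs'.1
  have hcommy : ∀ s ∈ To, s * y = y * s := by
    intro s hs'
    rw [hy, ← mul_assoc, hcomm s hs'.1 hs'.2, mul_assoc, hcommτ s hs'.1 hs'.2, mul_assoc]
  have hToX : ∀ s ∈ To, ∀ v ∈ XX π o o', s • v ∈ XX π o o' := by
    intro s hs' v hv l hl hl'
    obtain ⟨m, rfl⟩ : ∃ m, σ s m = l := (D.φ ⟨s, hs'.1⟩).surjective l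
    rw [← D.perm s hs'.1, hv m (fun h => hl (by rw [h, hs'.2]))
      (fun h => hl' (by rw [h, (hst s hs'.1).1 hs'.2])), smul_zero]
  -- `y ^ 3 = 1` on `A`
  have hy3s : y ^ 3 ∈ SuppG N π o o' := pow_mem hys 3
  have hy3 : ∀ w : A, y ^ 3 • w = w := by
    by_contra hcon
    push Not at hcon
    obtain ⟨w, hw⟩ := hcon
    obtain ⟨v, ⟨w', hw'⟩, hv0, hfix⟩ := exists_fixed D.two hTo (mv (A := A) (y ^ 3)).range (by
      rintro s hs' v ⟨u, rfl⟩
      refine ⟨s • u, ?_⟩
      have hc3 : y ^ 3 * s = s * y ^ 3 := by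
        have : Commute s y := hcommy s hs'
        exact (this.pow_right 3).eq.symm
      rw [mv_apply, mv_apply, ← mul_smul, hc3, mul_smul, smul_sub]) ⟨_, ⟨w, rfl⟩, by
        rw [mv_apply, sub_ne_zero]; exact hw⟩
    rw [mv_apply] at hw'
    have h3 := hVy3 v (hV v (hw' ▸ sub_mem_XX hy3s w') fun s hs' hso => hfix s ⟨hs', hso⟩)
    have h4 : ∀ k : ℕ, (y ^ 3) ^ k • w' = w' + k • v := by
      intro k
      induction k with
      | zero => rw [pow_zero, one_smul, zero_smul, add_zero]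
      | succ k ih =>
        rw [pow_succ', mul_smul, ih, smul_add, ← hw', add_smul, one_smul]
        have h5 : y ^ 3 • (k • (y ^ 3 • w' - w')) = k • (y ^ 3 • w' - w') := by
          rw [smul_comm, hw', h3]
        rw [h5]
        abel
    have h5 := h4 (orderOf y)
    rw [← pow_mul, mul_comm 3, pow_mul, pow_orderOf_eq_one, one_pow, one_smul, eq_comm,
      add_eq_left] at h5
    obtain ⟨k, hk⟩ := hodd
    apply hv0
    rw [hk, add_smul, one_smul, mul_comm, mul_smul, two_smul, D.two, smul_zero, zero_add] at h5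
    exact h5
  -- `C_X(y) = 0`
  have hfixy : ∀ v ∈ XX π o o', y • v = v → v = 0 := by
    intro v hv hyv
    by_contra hv0
    let J : AddSubgroup A :=
      { carrier := {v | v ∈ XX π o o' ∧ y • v = v}
        zero_mem' := ⟨zero_mem _, smul_zero _⟩
        add_mem' := fun {a b} ha hb => ⟨add_mem ha.1 hb.1, by rw [smul_add, ha.2, hb.2]⟩
        neg_mem' := fun {a} ha => ⟨neg_mem ha.1, by rw [smul_neg, ha.2]⟩ }
    obtain ⟨u, hu, hu0, hfix⟩ := exists_fixed D.two hTo J (fun s hs' u hu =>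
      ⟨hToX s hs' u hu.1, by rw [← mul_smul, ← hcommy s hs', mul_smul, hu.2]⟩) ⟨v, ⟨hv, hyv⟩, hv0⟩
    rcases hV u hu.1 (fun s hs' hso => hfix s ⟨hs', hso⟩) with h3 | h3 | h3 | h3
    · exact hu0 h3
    · have h4 := hu.2
      rw [h3, hyz] at h4
      exact D.z0 o' (add_eq_left.1 h4)
    · have h4 := hu.2
      rw [h3, hyz'] at h4
      exact hzz h4
    · have h4 := hu.2
      rw [h3, smul_add, hyz, hyz'] at h4
      exact D.z0 o (add_eq_left.1 h4)
  refine ⟨fun a ha => ?_, hyz, hyz'⟩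
  have haX : a ∈ XX π o o' := ha ▸ D.add_mem_XX o o' a a
  have hyX : ∀ v ∈ XX π o o', y • v ∈ XX π o o' := by
    intro v hv l hl hl'
    rw [(hys l hl hl').2, hv l hl hl']
  apply hfixy _ (add_mem (add_mem haX (hyX a haX)) (hyX _ (hyX a haX)))
  have h3 : y • y • y • a = a := by
    have h4 := hy3 a
    rwa [pow_succ, pow_two, mul_smul, mul_smul] at h4
  rw [smul_add, smul_add, h3]
  abel

/-- helper732's piece (B) -/
theorem main (D : NDat T π σ z) (o : ι) (R W : Subgroup N) (hR : IsPGroup 2 R)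
    (hTR : ∀ s ∈ (T : Subgroup N), σ s o = o → s ∈ R) (hWR : W ≤ R)
    (hTW : ∀ s ∈ (T : Subgroup N), σ s o = o → ∀ w ∈ W, s * w * s⁻¹ ∈ W)
    (hz : ∀ r ∈ R, r • z o = z o) (t : N) (ht : t ∈ W) (ht1 : t ≠ 1) (ht2 : ∀ a : A, t • t • a = a)
    (p q : ι) (hpq : p ≠ q) (hs1 : ∀ l, l ≠ p → l ≠ q → ∀ a, t • π l a = π l a)
    (hs2 : ∀ l, l ≠ p → l ≠ q → ∀ a, π l (t • a) = π l a)
    (alt : p = o ∨ (p ≠ o ∧ q ≠ o ∧ ∃ a : A, a ≠ 0 ∧ (π p a = a ∨ π q a = a) ∧ t • a = a)) :
    ∃ (star : ι → ι) (τ : N), (∀ l, star l ≠ l) ∧ (∀ l, star (star l) = l) ∧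
      (∀ s ∈ (T : Subgroup N), ∀ l, σ s (star l) = star (σ s l)) ∧ τ ∈ (T : Subgroup N) ∧
      σ τ o = star o ∧ τ * τ = 1 ∧ (∀ l, l ≠ o → l ≠ star o → ∀ a, τ • π l a = π l a) ∧
      (∀ l, l ≠ o → l ≠ star o → ∀ a, (t * τ) • π l a = π l a) ∧
      (∀ l, l ≠ o → l ≠ star o → ∀ a, π l ((t * τ) • a) = π l a) ∧
      (∀ a, π o a + π (star o) a = a → a + (t * τ) • a + (t * τ) • (t * τ) • a = 0) ∧
      (∀ s ∈ (T : Subgroup N), σ s o = o → s * (t * τ) = (t * τ) * s) ∧
      τ * (t * τ) * τ = (t * τ)⁻¹ ∧ (t * τ) • z o = z o + z (star o) ∧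
      (t * τ) • z (star o) = z o := by
  have h2 : t * t = 1 := D.faith _ fun a => by rw [mul_smul, ht2]
  have hs : t ∈ SuppG N π p q := fun l hp hq => ⟨hs1 l hp hq, hs2 l hp hq⟩
  obtain ⟨g, hg⟩ := exists_conj T hR
  obtain ⟨a₀, b₀, h₀⟩ := D.exists_Tp (hg t (hWR ht)) (fun h => ht1 (conj_eq_one_iff.1 h)) p
    (by rw [rk_conj]; exact D.rk_le hpq hs h2)
  obtain ⟨star, tt, htt, hne, hss, hst⟩ := D.exists_star h₀
  obtain ⟨rfl, rfl⟩ := D.near hR hTR hz (hWR ht) ht1 h2 hpq hs alt htt hss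
  have hT := htt p
  have hcomm : ∀ s ∈ (T : Subgroup N), σ s p = p → s * t = t * s := by
    intro s hsT hso
    have h3 : s * t * s⁻¹ ∈ SuppG N π p (star p) := by
      have h := D.conj_SuppG hsT hs
      rwa [hst s hsT, hso] at h
    have h4 : s * t * s⁻¹ = t :=
      D.uniq hpq hR (hWR (hTW s hsT hso t ht)) (hWR ht)
        (fun h => ht1 (conj_eq_one_iff.1 h)) ht1 h3 hs (by
          have : s * t * s⁻¹ * (s * t * s⁻¹) = s * (t * t) * s⁻¹ := by group
          rw [this, h2, mul_one, mul_inv_cancel]) h2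
    exact mul_inv_eq_iff_eq_mul.1 h4
  have hcommτ : ∀ s ∈ (T : Subgroup N), σ s p = p → s * tt p = tt p * s := by
    intro s hsT hso
    have h3 := hT.conj D hsT
    rw [hso] at h3
    exact mul_inv_eq_iff_eq_mul.1 (h3.unique D hT)
  have hst' : ∀ s ∈ (T : Subgroup N), (σ s p = p ↔ σ s (star p) = star p) := by
    intro s hsT
    rw [hst s hsT]
    constructor
    · intro h
      rw [h]
    · intro h
      rw [← hss (σ s p), h, hss]
  obtain ⟨h5, h6, h7⟩ := D.five hpq ht1 h2 hs hT hst' hcomm hcommτ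
    (fun s hsT hso => hz s (hTR s hsT hso)) (hz t (hWR ht))
  have htinv : t⁻¹ = t := inv_eq_of_mul_eq_one_left h2
  have hτinv : (tt p)⁻¹ = tt p := inv_eq_of_mul_eq_one_left hT.sq
  have hys : t * tt p ∈ SuppG N π p (star p) := mul_mem hs hT.supp
  refine ⟨star, tt p, hne, hss, hst, hT.mem, hT.ab, hT.sq, fun l hl hl' => (hT.supp l hl hl').1,
    fun l hl hl' => (hys l hl hl').1, fun l hl hl' => (hys l hl hl').2, h5, ?_, ?_, h6, h7⟩
  · intro s hsT hso
    rw [← mul_assoc, hcomm s hsT hso, mul_assoc, hcommτ s hsT hso, mul_assoc]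
  · rw [mul_inv_rev, htinv, hτinv, ← mul_assoc, mul_assoc _ (tt p), hT.sq, mul_one]

end Main

end NDat

end Cfsg.Agent.Omega.ThmC
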