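import Cfsg.Agent.Omega.ThmC.TwoE

/-!
# THEOREM C, `q = 2`: `N_G(E)/C_G(E)` acting on `E` satisfies `TwoN.NDat`
-/

set_option autoImplicit false

namespace Cfsg.Agent.Omega.ThmC

open Subgroup Cfsg Cfsg.Agent.MinSimple.VModule
open Cfsg.Agent.ZN (zc o2)
open Cfsg.Agent.Omega.IITwo.Count (conj_mem conj_mem' mem_norm)

universe u

variable {G : Type u} [Group G]

/-- `N_G(zc X)/C_G(zc X)` as a subgroup of `Aut(zc X)`. -/
def NG (X : Subgroup G) : Subgroup (MulAut ↥(zc X)) := (zc X).normalizerMonoidHom.range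

/-- the image of `g ∈ N_G(zc X)` in `NG X`. -/
def phi {X : Subgroup G} {g : G} (hg : g ∈ normalizer (zc X : Set G)) : ↥(NG X) :=
  (zc X).normalizerMonoidHom.rangeRestrict ⟨g, hg⟩

section phi
variable {X : Subgroup G}

@[simp] theorem coe_phi {g : G} (hg : g ∈ normalizer (zc X : Set G)) : ((phi hg : ↥(NG X)) : MulAut ↥(zc X)) = Md.cjE hg := rfl

theorem val_phi {g : G} (hg : g ∈ normalizer (zc X : Set G)) (a : Md X) :
    (phi hg • a).val = g * a.val * g⁻¹ := rfl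

theorem phi_mul {g h : G} (hg : g ∈ normalizer (zc X : Set G)) (hh : h ∈ normalizer (zc X : Set G)) :
    phi hg * phi hh = phi (mul_mem hg hh) :=
  ((zc X).normalizerMonoidHom.rangeRestrict.map_mul ⟨g, hg⟩ ⟨h, hh⟩).symm

theorem phi_inv {g : G} (hg : g ∈ normalizer (zc X : Set G)) : (phi hg)⁻¹ = phi (inv_mem hg) :=
  ((zc X).normalizerMonoidHom.rangeRestrict.map_inv ⟨g, hg⟩).symm

theorem exists_phi (n : ↥(NG X)) : ∃ (g : G) (hg : g ∈ normalizer (zc X : Set G)), phi hg = n := by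
  obtain ⟨⟨g, hg⟩, h⟩ := (zc X).normalizerMonoidHom.rangeRestrict_surjective n
  exact ⟨g, hg, h⟩

theorem NG_faith {n : ↥(NG X)} (h : ∀ a : Md X, n • a = a) : n = 1 :=
  Subtype.ext (Md.faith h)

theorem phi_eq_one_iff {g : G} (hg : g ∈ normalizer (zc X : Set G)) :
    phi hg = 1 ↔ g ∈ centralizer (zc X : Set G) := by
  rw [mem_centralizer_iff]
  constructor
  · intro h v hv
    have h1 : phi hg • Md.mk v hv = Md.mk v hv := by rw [h, one_smul]
    have h2 := congrArg Md.val h1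
    rw [val_phi, Md.val_mk] at h2
    exact (mul_inv_eq_iff_eq_mul.mp h2).symm
  · intro h
    refine NG_faith fun a => Md.ext ?_
    rw [val_phi, ← h _ a.val_mem]
    group

theorem phi_eq_iff {g h : G} (hg : g ∈ normalizer (zc X : Set G)) (hh : h ∈ normalizer (zc X : Set G)) :
    phi hg = phi hh ↔ ∀ v ∈ zc X, g * v * g⁻¹ = h * v * h⁻¹ := by
  constructor
  · intro he v hv
    have h1 : phi hg • Md.mk v hv = phi hh • Md.mk v hv := by rw [he]
    exact congrArg Md.val h1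
  · intro he
    apply Subtype.ext
    apply Md.ext_smul
    intro a
    exact Md.ext (he _ a.val_mem)

theorem pow_phi {g : G} (hg : g ∈ normalizer (zc X : Set G)) (n : ℕ) : (phi hg) ^ n = phi (pow_mem hg n) :=
  ((zc X).normalizerMonoidHom.rangeRestrict.map_pow ⟨g, hg⟩ n).symm

/-- the image of a subgroup of `N_G(zc X)`. -/
def img (X : Subgroup G) (Y : Subgroup G) : Subgroup ↥(NG X) :=
  (Y.subgroupOf (normalizer (zc X : Set G))).map (zc X).normalizerMonoidHom.rangeRestrict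

theorem mem_img {Y : Subgroup G} {n : ↥(NG X)} :
    n ∈ img X Y ↔ ∃ (g : G) (hg : g ∈ normalizer (zc X : Set G)), g ∈ Y ∧ phi hg = n := by
  constructor
  · rintro ⟨⟨g, hg⟩, h1, h2⟩
    exact ⟨g, hg, h1, h2⟩
  · rintro ⟨g, hg, h1, h2⟩
    exact ⟨⟨g, hg⟩, h1, h2⟩

theorem phi_mem_img {Y : Subgroup G} {g : G} (hg : g ∈ normalizer (zc X : Set G)) (h : g ∈ Y) :
    phi hg ∈ img X Y := mem_img.mpr ⟨g, hg, h, rfl⟩

theorem img_isPGroup {Y : Subgroup G} (hY : IsPGroup 2 Y) : IsPGroup 2 (img X Y) :=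
  (hY.comap_of_injective _ (normalizer (zc X : Set G)).subtype_injective).map _

instance [Finite G] : Finite (MulAut ↥(zc X)) := inferInstance

end phi

namespace Dat

variable {S : Sylow 2 G} {Q : Subgroup G} {ι : Type} {Z : ι → Subgroup G} {x z : ι → G}

section
variable [Finite G] (D : Dat S Q Z x z)

/-- the Sylow 2-subgroup `S/S⁰` of `N`. -/
noncomputable def TT : Sylow 2 ↥(NG (S0 (S : Subgroup G) Z)) :=
  haveI : Fact (Nat.Prime 2) := ⟨Nat.prime_two⟩
  (S.subtype D.S_le_nor_E).mapSurjective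
    (zc (S0 (S : Subgroup G) Z)).normalizerMonoidHom.rangeRestrict_surjective

theorem coe_TT : ((D.TT : Sylow 2 _) : Subgroup ↥(NG (S0 (S : Subgroup G) Z))) =
    img (S0 (S : Subgroup G) Z) S := rfl

theorem mem_TT {n : ↥(NG (S0 (S : Subgroup G) Z))} : n ∈ (D.TT : Subgroup ↥(NG (S0 (S : Subgroup G) Z))) ↔
    ∃ (s : G) (hs : s ∈ (S : Subgroup G)), phi (D.S_le_nor_E hs) = n := by
  rw [coe_TT, mem_img]
  constructor
  · rintro ⟨s, hs, h1, h2⟩
    exact ⟨s, h1, h2⟩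
  · rintro ⟨s, hs, h⟩
    exact ⟨s, D.S_le_nor_E hs, hs, h⟩

variable [Finite ι]

/-- the projections of `E`. -/
abbrev pE (l : ι) : Md (S0 (S : Subgroup G) Z) →+ Md (S0 (S : Subgroup G) Z) := D.pX D.E_le D.pr_E l

/-- `z l ∈ E`. -/
def zE (l : ι) : Md (S0 (S : Subgroup G) Z) := Md.mk (z l) (D.z_mem_E l)

@[simp] theorem val_zE (l : ι) : (D.zE l).val = z l := rfl

theorem pE_zE (l : ι) : D.pE l (D.zE l) = D.zE l := D.pX_eq_iff.mpr (D.zm l)

theorem zE_ne (l : ι) : D.zE l ≠ 0 := fun h => D.z1 l (by simpa using congrArg Md.val h)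

theorem pE_inj {l m : ι} (h : ∀ a, D.pE l a = D.pE m a) : l = m := by
  by_contra hne
  have h1 := h (D.zE l)
  rw [D.pE_zE l, ← D.pE_zE l, D.pX_orth (Ne.symm hne)] at h1
  exact D.zE_ne l (by rw [← D.pE_zE l]; exact h1)

/-- the permutation of the factors of `E` by elements of `N`. -/
noncomputable def sN (n : ↥(NG (S0 (S : Subgroup G) Z))) (l : ι) : ι := by
  classical
  exact if h : ∃ m, ∀ a : Md (S0 (S : Subgroup G) Z), n • D.pE l a = D.pE m (n • a) then h.choose else l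

theorem sN_eq {n : ↥(NG (S0 (S : Subgroup G) Z))} {l m : ι}
    (h : ∀ a : Md (S0 (S : Subgroup G) Z), n • D.pE l a = D.pE m (n • a)) : D.sN n l = m := by
  have h1 : ∃ m, ∀ a : Md (S0 (S : Subgroup G) Z), n • D.pE l a = D.pE m (n • a) := ⟨m, h⟩
  have h2 : D.sN n l = h1.choose := dif_pos h1
  rw [h2]
  apply D.pE_inj
  intro a
  have h3 := h1.choose_spec (n⁻¹ • a)
  rw [h, smul_inv_smul] at h3
  exact h3.symm

theorem phi_pE {s : G} (hs : s ∈ (S : Subgroup G)) (l : ι) (a : Md (S0 (S : Subgroup G) Z)) :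
    phi (D.S_le_nor_E hs) • D.pE l a = D.pE (D.sg s l) (phi (D.S_le_nor_E hs) • a) := by
  apply Md.ext
  rw [val_phi, val_pX, val_pX, val_phi]
  exact D.pr_conj hs l (D.E_le a.val_mem)

theorem sN_phi {s : G} (hs : s ∈ (S : Subgroup G)) (l : ι) :
    D.sN (phi (D.S_le_nor_E hs)) l = D.sg s l := D.sN_eq (D.phi_pE hs l)

/-- `N_G(E)/C_G(E)` on `E`. -/
theorem ndat [Fintype ι] : TwoN.NDat D.TT D.pE D.sN D.zE where
  two := Md.two
  faith _ h := NG_faith h
  idem l a := D.pX_idem l a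
  orth l m h a := D.pX_orth h a
  sum a := D.pX_sum a
  perm := by
    intro n hn l a
    obtain ⟨s, hs, rfl⟩ := D.mem_TT.mp hn
    rw [D.sN_phi hs]
    exact D.phi_pE hs l a
  ker := by
    intro n hn h
    obtain ⟨s, hs, rfl⟩ := D.mem_TT.mp hn
    rw [phi_eq_one_iff]
    apply le_centralizer_zc
    rw [D.mem_S0_iff hs]
    intro l
    rw [← D.sN_phi hs]
    exact h l
  trans := by
    intro l m
    obtain ⟨s, hs, h⟩ := D.trans l m
    refine ⟨phi (D.S_le_nor_E hs), D.mem_TT.mpr ⟨s, hs, rfl⟩, ?_⟩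
    rw [D.sN_phi hs]
    exact D.sg_eq' hs h
  zm l := D.pE_zE l
  z0 l := D.zE_ne l
  zfix := by
    intro l a ha h
    have h1 : a.val ∈ Z l := D.pX_eq_iff.mp ha
    have h2 := D.zfix l a.val h1 (fun s hs hw => ?_)
    · rcases h2 with h2 | h2
      · exact Or.inl (Md.val_eq_one.mp h2)
      · exact Or.inr (Md.ext h2)
    · have h3 := h (phi (D.S_le_nor_E hs)) (D.mem_TT.mpr ⟨s, hs, rfl⟩)
        (by rw [D.sN_phi hs]; exact D.sg_eq' hs hw)
      exact congrArg Md.val h3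

end

end Dat

end Cfsg.Agent.Omega.ThmC
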