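import Cfsg.Agent.MinSimple.Geo
import Cfsg.Agent.Omega.ThmC.TwoData
import Cfsg.Agent.Omega.Half.Basic

/-!
# THEOREM C (#15545), `q = 2`, (7)

`V : ι → Subgroup G` the factors, `p : ι → ι` the partner map (`p = id` allowed), `W v := O₂(C_G(v))`,
`D i := ⟨W v : 1 ≠ v ∈ V i ∪ V (p i)⟩`.  If `W v` centralises `V l` for `1 ≠ v ∈ V i`, `l ∉ {i, p i}`, and the Sylow
2-subgroup `S` permutes the blocks `{V i, V (p i)}` transitively, then `|W z : W z ∩ S| ≤ 2` for `1 ≠ z ∈ V i₀` with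
`N_S(V i₀) ≤ C_S(z)`.
-/

set_option autoImplicit false

namespace Cfsg.Agent.Omega.ThmC.TwoSeven

open Subgroup Cfsg Cfsg.Agent.ZN Cfsg.Agent.MinSimple.Geo

universe u

variable {G : Type u} [Group G] {ι : Type*}

/-- `W v = O₂(C_G(v))` -/
def W (v : G) : Subgroup G := o2 (centralizer {v})

/-- `D i = ⟨W v : 1 ≠ v ∈ V i ∪ V (p i)⟩` -/
def D (V : ι → Subgroup G) (p : ι → ι) (i : ι) : Subgroup G :=
  ⨆ v : {v : G // v ≠ 1 ∧ (v ∈ V i ∨ v ∈ V (p i))}, W v.1

theorem cj_W (g v : G) : cj g (W v) = W (g * v * g⁻¹) := by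
  rw [W, W, cj_o2, cj_centralizer_singleton]

theorem le_D {V : ι → Subgroup G} {p : ι → ι} {i : ι} {v : G} (h1 : v ≠ 1) (hv : v ∈ V i ∨ v ∈ V (p i)) :
    W v ≤ D V p i :=
  le_iSup (fun v : {v : G // v ≠ 1 ∧ (v ∈ V i ∨ v ∈ V (p i))} => W v.1) ⟨v, h1, hv⟩

theorem D_le {V : ι → Subgroup G} {p : ι → ι} {i : ι} {X : Subgroup G}
    (h : ∀ v, v ≠ 1 → (v ∈ V i ∨ v ∈ V (p i)) → W v ≤ X) : D V p i ≤ X :=
  iSup_le fun v => h v.1 v.2.1 v.2.2

theorem cj_D_le {V : ι → Subgroup G} {p : ι → ι} {i j : ι} {s : G} (h1 : cj s (V i) ≤ V j)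
    (h2 : cj s (V (p i)) ≤ V (p j)) : cj s (D V p i) ≤ D V p j := by
  rw [cj_le_iff]
  refine D_le fun v hv1 hv => ?_
  rw [← cj_le_iff, cj_W]
  refine le_D (fun e => hv1 ?_) ?_
  · have : v = s⁻¹ * (s * v * s⁻¹) * s := by group
    rw [this, e]; group
  · rcases hv with hv | hv
    · exact Or.inl (h1 (conj_mem_cj hv))
    · exact Or.inr (h2 (conj_mem_cj hv))

theorem D_p {V : ι → Subgroup G} {p : ι → ι} (hp : ∀ i, p (p i) = i) (i : ι) : D V p (p i) = D V p i := by
  apply le_antisymm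
  · refine D_le fun v h1 hv => le_D h1 ?_
    rw [hp] at hv; exact hv.symm
  · refine D_le fun v h1 hv => le_D h1 ?_
    rw [hp]; exact hv.symm

theorem iSup_le_normalizer {κ : Type*} (N : κ → Subgroup G) (X : Subgroup G) (h : ∀ k, X ≤ normalizer (N k : Set G)) :
    X ≤ normalizer ((⨆ k, N k : Subgroup G) : Set G) := by
  intro x hx
  rw [mem_normalizer_iff_cj]
  change (⨆ k, N k).map _ = _
  rw [Subgroup.map_iSup]
  exact iSup_congr fun k => mem_normalizer_iff_cj.mp (h k hx)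

/-- a join of 2-groups normalising the join, each normalised by it, is a 2-group -/
theorem isPGroup_iSup [Finite G] {κ : Type*} (N : κ → Subgroup G) (h2 : ∀ k, IsPGroup 2 (N k))
    (hn : ∀ k l, N k ≤ normalizer (N l : Set G)) : IsPGroup 2 (⨆ k, N k : Subgroup G) := by
  classical
  have hfin : {X : Subgroup G | ∃ k, X = N k}.Finite := Set.toFinite _
  have key : ∀ F : Finset (Subgroup G), (∀ X ∈ F, ∃ k, X = N k) → IsPGroup 2 (F.sup id : Subgroup G) ∧
      ∀ l, N l ≤ normalizer ((F.sup id : Subgroup G) : Set G) := by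
    intro F
    induction F using Finset.induction_on with
    | empty =>
      intro _
      refine ⟨?_, fun l => ?_⟩
      · rw [Finset.sup_empty]; exact IsPGroup.of_bot
      · rw [Finset.sup_empty]
        intro x _
        rw [mem_normalizer_iff_cj]; exact Subgroup.map_bot _
    | insert X F hX ih =>
      intro hF
      obtain ⟨i1, i2⟩ := ih fun Y hY => hF Y (Finset.mem_insert_of_mem hY)
      obtain ⟨k, rfl⟩ := hF X (Finset.mem_insert_self _ _)
      rw [Finset.sup_insert]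
      refine ⟨?_, fun l => ?_⟩
      · exact IsPGroup.to_sup_of_normal_right' (h2 k) i1 (i2 k)
      · intro x hx
        rw [mem_normalizer_iff_cj]
        change (_ ⊔ _ : Subgroup G).map _ = _
        rw [Subgroup.map_sup]
        exact congrArg₂ _ (mem_normalizer_iff_cj.mp (hn l k hx)) (mem_normalizer_iff_cj.mp (i2 l hx))
  have e : (⨆ k, N k) = hfin.toFinset.sup id := by
    apply le_antisymm
    · refine iSup_le fun k => ?_
      exact Finset.le_sup (f := id) (hfin.mem_toFinset.2 ⟨k, rfl⟩)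
    · refine Finset.sup_le fun X hX => ?_
      obtain ⟨k, rfl⟩ := hfin.mem_toFinset.1 hX
      exact le_iSup N k
  rw [e]
  exact (key _ fun X hX => hfin.mem_toFinset.1 hX).1

/-- `T ≤ A` of index at most 2 -/
theorem card_le_two_mul [Finite G] {A T : Subgroup G}
    (h : ∀ a ∈ A, ∀ b ∈ A, a ∉ T → b ∉ T → a⁻¹ * b ∈ T) : Nat.card A ≤ 2 * Nat.card T := by
  classical
  by_cases hA : A ≤ T
  · have := card_le_of_le hA
    omega
  obtain ⟨a, ha, haT⟩ := SetLike.not_le_iff_exists.1 hA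
  let f : A → T × Bool := fun s =>
    if hs : (s : G) ∈ T then (⟨s, hs⟩, true) else (⟨a⁻¹ * s, h a ha s s.2 haT hs⟩, false)
  have hf : Function.Injective f := by
    intro s s' hss
    simp only [f] at hss
    split_ifs at hss with h1 h2 h2
    · exact Subtype.ext (congrArg (fun x : T × Bool => (x.1 : G)) hss)
    · exact absurd (congrArg Prod.snd hss) (by simp)
    · exact absurd (congrArg Prod.snd hss) (by simp)
    · have := congrArg (fun x : T × Bool => (x.1 : G)) hss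
      exact Subtype.ext (mul_left_cancel this)
  have h1 := Nat.card_le_card_of_injective f hf
  rw [Nat.card_prod, Nat.card_eq_fintype_card (α := Bool), Fintype.card_bool] at h1
  omega

/-- Sylow in an intermediate group -/
theorem exists_cj_le [Finite G] (S : Sylow 2 G) {M X : Subgroup G} (hSM : (S : Subgroup G) ≤ M) (hX : IsPGroup 2 X)
    (hXM : X ≤ M) : ∃ c ∈ M, cj c X ≤ (S : Subgroup G) := by
  have : Fact (Nat.Prime 2) := ⟨Nat.prime_two⟩
  have hQ' : IsPGroup 2 (X.subgroupOf M) := hX.comap_of_injective M.subtype M.subtype_injective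
  obtain ⟨R, hR⟩ := hQ'.exists_le_sylow
  obtain ⟨g, hg⟩ := MulAction.exists_smul_eq M R (S.subtype hSM)
  refine ⟨g, g.2, ?_⟩
  rintro _ ⟨x, hx, rfl⟩
  have h1 : (⟨x, hXM hx⟩ : M) ∈ (R : Subgroup M) := hR (mem_subgroupOf.mpr hx)
  have h2 : (MulAut.conj g) ⟨x, hXM hx⟩ ∈ ((g • R : Sylow 2 M) : Subgroup M) := by
    rw [Sylow.smul_def]
    exact Subgroup.smul_mem_pointwise_smul _ (MulAut.conj g) _ h1
  rw [hg] at h2
  exact h2

section main

set_option linter.unusedSectionVars false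

variable [Finite G] {V : ι → Subgroup G} {p : ι → ι} (S : Sylow 2 G)
  (hp : ∀ i, p (p i) = i)
  (hW : ∀ i l, l ≠ i → l ≠ p i → ∀ v ∈ V i, v ≠ 1 → W v ≤ centralizer (V l : Set G))
  (hS : ∀ s ∈ S, ∀ i, ∃ j, cj s (V i) = V j ∧ cj s (V (p i)) = V (p j))
  (htr : ∀ i j, ∃ s ∈ S, cj s (V i) = V j ∧ cj s (V (p i)) = V (p j))

theorem W_two (v : G) : IsPGroup 2 (W v) := isPGroup_o2 _

include hp hW in
theorem D_le_centralizer {i l : ι} (h1 : l ≠ i) (h2 : l ≠ p i) : D V p i ≤ centralizer (V l : Set G) := by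
  refine D_le fun v hv1 hv => ?_
  rcases hv with hv | hv
  · exact hW i l h1 h2 v hv hv1
  · refine hW (p i) l h2 (fun e => h1 ?_) v hv hv1
    rw [e, hp]

theorem centralizer_le_normalizer_W (v : G) : centralizer {v} ≤ normalizer (W v : Set G) :=
  le_normalizer_o2 _

include hp hW in
theorem D_le_normalizer_W {i l : ι} (h1 : l ≠ i) (h2 : l ≠ p i) {v : G} (hv : v ∈ V l ∨ v ∈ V (p l)) :
    D V p i ≤ normalizer (W v : Set G) := by
  refine le_trans ?_ (centralizer_le_normalizer_W v)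
  have key : ∀ m, (m = l ∨ m = p l) → D V p i ≤ centralizer (V m : Set G) := by
    rintro m (rfl | rfl)
    · exact D_le_centralizer hp hW h1 h2
    · refine D_le_centralizer hp hW (fun e => h2 ?_) (fun e => h1 ?_)
      · rw [← e, hp]
      · rw [← hp l, e, hp]
  intro x hx
  rw [mem_centralizer_singleton_iff]
  rcases hv with hv | hv
  · exact (mem_centralizer_iff.1 (key l (Or.inl rfl) hx) v hv).symm
  · exact (mem_centralizer_iff.1 (key _ (Or.inr rfl) hx) v hv).symm

include hp hW in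
theorem D_le_normalizer_D (i l : ι) : D V p i ≤ normalizer (D V p l : Set G) := by
  by_cases h1 : l = i
  · subst h1; exact le_normalizer
  by_cases h2 : l = p i
  · subst h2; rw [D_p hp]; exact le_normalizer
  exact iSup_le_normalizer _ _ fun v => D_le_normalizer_W hp hW h1 h2 v.2.2

include hp hW in
/-- two equal `D`'s are 2-groups -/
theorem two_of_eq {i l : ι} (h1 : l ≠ i) (h2 : l ≠ p i) (h : D V p l = D V p i) : IsPGroup 2 (D V p l) := by
  refine isPGroup_iSup _ (fun v => W_two _) fun v w => ?_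
  refine (le_D v.2.1 v.2.2).trans ?_
  rw [h]
  exact D_le_normalizer_W hp hW h1 h2 w.2.2

/-- `⟨D i⟩` -/
def DD (V : ι → Subgroup G) (p : ι → ι) : Subgroup G := ⨆ i, D V p i

include hp hW in
theorem DD_le_normalizer (l : ι) : DD V p ≤ normalizer (D V p l : Set G) :=
  iSup_le fun i => D_le_normalizer_D hp hW i l

include hS in
theorem cj_D {s : G} (hs : s ∈ S) (i : ι) : ∃ j, cj s (V i) = V j ∧ cj s (D V p i) = D V p j := by
  obtain ⟨j, h1, h2⟩ := hS s hs i
  refine ⟨j, h1, le_antisymm (cj_D_le h1.le h2.le) ?_⟩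
  have h1' : cj s⁻¹ (V j) ≤ V i := by rw [← h1, cj_inv_cj]
  have h2' : cj s⁻¹ (V (p j)) ≤ V (p i) := by rw [← h2, cj_inv_cj]
  have := cj_D_le (p := p) h1' h2'
  rwa [cj_le_iff, inv_inv] at this

include hS in
theorem S_le_normalizer_DD : (S : Subgroup G) ≤ normalizer (DD V p : Set G) := by
  have key : ∀ s ∈ S, cj s (DD V p) ≤ DD V p := by
    intro s hs
    rw [cj_le_iff]
    refine iSup_le fun i => ?_
    rw [← cj_le_iff]
    obtain ⟨j, -, h⟩ := cj_D (p := p) S hS hs i
    rw [h]; exact le_iSup (D V p) j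
  intro s hs
  rw [mem_normalizer_iff_cj]
  refine le_antisymm (key s hs) ?_
  have := key s⁻¹ (inv_mem hs)
  rwa [cj_le_iff, inv_inv] at this

theorem sylow_eq_of_le {X : Subgroup G} (hX : IsPGroup 2 X) (h : (S : Subgroup G) ≤ X) : X = (S : Subgroup G) :=
  S.is_maximal' hX h

include hp hW hS htr in
/-- **(7).** -/
theorem card_le {i₀ : ι} {z : G} (hz : z ∈ V i₀) (hz1 : z ≠ 1)
    (hT : ∀ s ∈ S, cj s (V i₀) = V i₀ → s ∈ centralizer ({z} : Set G)) :
    Nat.card (W z) ≤ 2 * Nat.card (W z ⊓ (S : Subgroup G) : Subgroup G) := by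
  have : Fact (Nat.Prime 2) := ⟨Nat.prime_two⟩
  by_cases hd : ∀ j, D V p j = D V p i₀ → j = i₀ ∨ j = p i₀
  swap
  · push Not at hd
    obtain ⟨j, hj, h1, h2⟩ := hd
    have h3 := two_of_eq hp hW h1 h2 hj
    have h4 : ∀ l, IsPGroup 2 (D V p l) := by
      intro l
      obtain ⟨s, hs, e1, e2⟩ := htr j l
      have h5 : cj s (D V p j) = D V p l := by
        refine le_antisymm (cj_D_le e1.le e2.le) ?_
        have h1' : cj s⁻¹ (V l) ≤ V j := by rw [← e1, cj_inv_cj]
        have h2' : cj s⁻¹ (V (p l)) ≤ V (p j) := by rw [← e2, cj_inv_cj]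
        have := cj_D_le (p := p) h1' h2'
        rwa [cj_le_iff, inv_inv] at this
      rw [← h5]
      exact h3.map _
    have h5 : IsPGroup 2 (DD V p) := isPGroup_iSup _ h4 fun i l => D_le_normalizer_D hp hW i l
    have h6 : IsPGroup 2 ((S : Subgroup G) ⊔ DD V p : Subgroup G) :=
      IsPGroup.to_sup_of_normal_right' S.isPGroup' h5 (S_le_normalizer_DD S hS)
    have h7 : DD V p ≤ (S : Subgroup G) := by
      have := sylow_eq_of_le S h6 le_sup_left
      exact le_sup_right.trans this.le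
    have h8 : W z ≤ (S : Subgroup G) := ((le_D hz1 (Or.inl hz)).trans (le_iSup (D V p) i₀)).trans h7
    rw [inf_eq_left.2 h8]
    omega
  -- `M := S DD`, `K` the kernel of `M` on the `D`'s
  set N : Subgroup G := ⨅ i, normalizer (D V p i : Set G) with hN
  have hmN : ∀ {g}, g ∈ N ↔ ∀ i, cj g (D V p i) = D V p i := by
    intro g
    rw [hN, mem_iInf]
    exact forall_congr' fun i => mem_normalizer_iff_cj
  have hDN : DD V p ≤ N := le_iInf fun l => DD_le_normalizer hp hW l
  set M : Subgroup G := (S : Subgroup G) ⊔ DD V p with hM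
  have hSM : (S : Subgroup G) ≤ M := le_sup_left
  have hDM : DD V p ≤ M := le_sup_right
  have hMN : M ≤ normalizer (N : Set G) := by
    refine sup_le ?_ (hDN.trans le_normalizer)
    have key : ∀ s ∈ S, cj s N ≤ N := by
      intro s hs g hg
      rw [mem_cj, hmN] at hg
      rw [hmN]
      intro i
      obtain ⟨j, -, h⟩ := cj_D (p := p) S hS (inv_mem hs) i
      have h1 := hg j
      rw [← h, cj_cj] at h1
      have h2 := congrArg (cj s) h1
      rw [cj_cj, cj_cj, mul_inv_cancel, cj_one] at h2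
      have e : s * (s⁻¹ * g * s * s⁻¹) = g := by group
      rwa [e] at h2
    intro s hs
    rw [mem_normalizer_iff_cj]
    refine le_antisymm (key s hs) ?_
    have := key s⁻¹ (inv_mem hs)
    rwa [cj_le_iff, inv_inv] at this
  set K : Subgroup G := M ⊓ N with hK
  have hWK : W z ≤ K :=
    ((le_D hz1 (Or.inl hz)).trans (le_iSup (D V p) i₀)).trans (le_inf hDM hDN)
  set T : Subgroup G := ((S : Subgroup G) ⊓ N) ⊓ centralizer {z} with hTd
  have hTW : T ≤ normalizer (W z : Set G) := inf_le_right.trans (centralizer_le_normalizer_W z)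
  have hT2 : IsPGroup 2 T := S.isPGroup'.to_le (inf_le_left.trans inf_le_left)
  have h2 : IsPGroup 2 (T ⊔ W z : Subgroup G) := IsPGroup.to_sup_of_normal_right' hT2 (W_two z) hTW
  have hTK : T ⊔ W z ≤ K :=
    sup_le (le_inf ((inf_le_left.trans inf_le_left).trans hSM) (inf_le_left.trans inf_le_right)) hWK
  -- `|T W| ≤ |S ⊓ N|`
  have h3 : Nat.card (T ⊔ W z : Subgroup G) ≤ Nat.card ((S : Subgroup G) ⊓ N : Subgroup G) := by
    obtain ⟨c, hc, hc'⟩ := exists_cj_le S hSM h2 (hTK.trans inf_le_left)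
    rw [← card_cj c]
    refine card_le_of_le (le_inf hc' ?_)
    have := cj_mono (g := c) (hTK.trans inf_le_right)
    rwa [mem_normalizer_iff_cj.mp (hMN hc)] at this
  have h4 : Nat.card ((S : Subgroup G) ⊓ N : Subgroup G) ≤ 2 * Nat.card T := by
    have k1 : ∀ s ∈ (S : Subgroup G) ⊓ N, cj s (V i₀) = V i₀ ∨ cj s (V i₀) = V (p i₀) := by
      intro s hs
      obtain ⟨j, e1, e2⟩ := cj_D (p := p) S hS (mem_inf.1 hs).1 i₀
      rw [hmN.1 (mem_inf.1 hs).2 i₀] at e2
      rcases hd j e2.symm with rfl | rfl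
      · exact Or.inl e1
      · exact Or.inr e1
    have k2 : ∀ s ∈ (S : Subgroup G) ⊓ N, cj s (V i₀) = V i₀ → s ∈ T := fun s hs h =>
      mem_inf.2 ⟨hs, hT s (mem_inf.1 hs).1 h⟩
    refine card_le_two_mul fun a ha b hb hna hnb => ?_
    refine k2 _ (mul_mem (inv_mem ha) hb) ?_
    have e1 : cj a (V i₀) = V (p i₀) := (k1 a ha).resolve_left fun h => hna (k2 a ha h)
    have e2 : cj b (V i₀) = V (p i₀) := (k1 b hb).resolve_left fun h => hnb (k2 b hb h)
    rw [← cj_cj, e2, ← e1, cj_inv_cj]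
  have h5 : Nat.card (T ⊔ W z : Subgroup G) * Nat.card (T ⊓ W z : Subgroup G) = Nat.card T * Nat.card (W z) :=
    ZN.Block.card_sup_mul_card_inf hTW
  have h6 : Nat.card (T ⊓ W z : Subgroup G) ≤ Nat.card (W z ⊓ (S : Subgroup G) : Subgroup G) := by
    refine card_le_of_le ?_
    exact le_inf inf_le_right (inf_le_left.trans (inf_le_left.trans inf_le_left))
  have h7 : 0 < Nat.card T := Nat.card_pos
  have h8 : Nat.card T * Nat.card (W z) ≤ Nat.card T * (2 * Nat.card (W z ⊓ (S : Subgroup G) : Subgroup G)) := by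
    calc Nat.card T * Nat.card (W z) = Nat.card (T ⊔ W z : Subgroup G) * Nat.card (T ⊓ W z : Subgroup G) := h5.symm
      _ ≤ (2 * Nat.card T) * Nat.card (W z ⊓ (S : Subgroup G) : Subgroup G) := Nat.mul_le_mul (h3.trans h4) h6
      _ = _ := by ring
  exact Nat.le_of_mul_le_mul_left h8 h7

end main

end Cfsg.Agent.Omega.ThmC.TwoSeven

set_option linter.unusedSectionVars false

namespace Cfsg.Agent.Omega.ThmC

open Subgroup Cfsg Cfsg.Agent.ZN Cfsg.Agent.MinSimple.VModule
open Cfsg.Agent.MinSimple.Geo (cj mem_cj conj_mem_cj cj_cj cj_one cj_inv_cj cj_mono cj_le_iff mem_normalizer_iff_cj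
  cj_eq_of_mem_normalizer)

universe u

variable {G : Type u} [Group G]

namespace Dat

variable {S : Sylow 2 G} {Q : Subgroup G} {ι : Type} {Z : ι → Subgroup G} {x z : ι → G}
  (D : Dat S Q Z x z)
include D

theorem comm {a b : G} (ha : a ∈ zc Q) (hb : b ∈ zc Q) : a * b = b * a :=
  ((ZN.mem_zc.1 ha).2.1 b (ZN.mem_zc.1 hb).1).symm

theorem sq' {a : G} (ha : a ∈ zc Q) : a * a = 1 := by
  rw [← pow_two]; exact (ZN.mem_zc.1 ha).2.2

/-- different factors meet trivially -/
theorem disj {l m : ι} (h : l ≠ m) {v : G} (hl : v ∈ Z l) (hm : v ∈ Z m) : v = 1 := by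
  have h1 := D.three l v hl
  rw [D.triv l m h v hm, D.triv l m h v hm, D.sq' (D.le l hl), one_mul] at h1
  exact h1

theorem conj_inv {s : G} (hs : s ∈ (S : Subgroup G)) {l m : ι} (h : ∀ v ∈ Z l, s * v * s⁻¹ ∈ Z m) :
    ∀ v ∈ Z m, s⁻¹ * v * s ∈ Z l := by
  obtain ⟨n, hn, -⟩ := D.perm s⁻¹ (inv_mem hs) m
  rw [inv_inv] at hn
  have h1 : z l ∈ Z n := by
    have := hn _ (h _ (D.zm l))
    have e : s⁻¹ * (s * z l * s⁻¹) * s = z l := by group
    rwa [e] at this
  have h2 : l = n := by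
    by_contra hne
    exact D.z1 l (D.disj hne (D.zm l) h1)
  subst h2
  exact hn

theorem unique {s : G} {l m n : ι} (h : ∀ v ∈ Z l, s * v * s⁻¹ ∈ Z m) (h' : ∀ v ∈ Z l, s * v * s⁻¹ ∈ Z n) : m = n := by
  by_contra hne
  have := D.disj hne (h _ (D.zm l)) (h' _ (D.zm l))
  apply D.z1 l
  have e : z l = s⁻¹ * (s * z l * s⁻¹) * s := by group
  rw [e, this]; group

/-- `z l` is fixed by `N_S(Z l)` -/
theorem fix [Finite G] (l : ι) : ∀ s ∈ (S : Subgroup G), (∀ w ∈ Z l, s * w * s⁻¹ ∈ Z l) → s * z l * s⁻¹ = z l := by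
  have hZ2 : IsPGroup 2 (Z l) := fun v => ⟨1, Subtype.ext (by
    rw [pow_one, pow_two]; exact D.sq' (D.le l v.2))⟩
  have hne : Z l ≠ ⊥ := fun e => D.z1 l (by have := D.zm l; rw [e] at this; exact mem_bot.1 this)
  obtain ⟨v, hv, hv1, hf⟩ := Half.exists_fixed hZ2 hne
    (T := (S : Subgroup G) ⊓ normalizer (Z l : Set G)) (S.isPGroup'.to_le inf_le_left) inf_le_right
  have hn : ∀ s : G, (∀ w ∈ Z l, s * w * s⁻¹ ∈ Z l) → s ∈ normalizer (Z l : Set G) := by
    intro s hs
    rw [mem_normalizer_iff_cj]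
    refine eq_of_le_of_card_ge ?_ (Cfsg.Agent.MinSimple.Geo.card_cj s _).ge
    rintro _ ⟨w, hw, rfl⟩
    exact hs w hw
  have h1 : v = z l := (D.zfix l v hv fun s hs hsw => hf s (mem_inf.2 ⟨hs, hn s hsw⟩)).resolve_left hv1
  subst h1
  exact fun s hs hsw => hf s (mem_inf.2 ⟨hs, hn s hsw⟩)

/-- `S` permutes the `z l` -/
theorem conj_z [Finite G] {s : G} (hs : s ∈ (S : Subgroup G)) {l m : ι} (h : ∀ v ∈ Z l, s * v * s⁻¹ ∈ Z m) :
    s * z l * s⁻¹ = z m := by
  have hi := D.conj_inv hs h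
  have h1 : s * z l * s⁻¹ = 1 ∨ s * z l * s⁻¹ = z m := by
    refine D.zfix m _ (h _ (D.zm l)) fun t ht htm => ?_
    have h2 := D.fix l (s⁻¹ * t * s) (mul_mem (mul_mem (inv_mem hs) ht) hs) fun w hw => by
      have := hi _ (htm _ (h w hw))
      have e : s⁻¹ * (t * (s * w * s⁻¹) * t⁻¹) * s = s⁻¹ * t * s * w * (s⁻¹ * t * s)⁻¹ := by group
      rwa [e] at this
    calc t * (s * z l * s⁻¹) * t⁻¹ = s * (s⁻¹ * t * s * z l * (s⁻¹ * t * s)⁻¹) * s⁻¹ := by group
      _ = s * z l * s⁻¹ := by rw [h2]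
  refine h1.resolve_left fun e => D.z1 l ?_
  calc z l = s⁻¹ * (s * z l * s⁻¹) * s := by group
    _ = 1 := by rw [e]; group

end Dat

/-- `V l = ⟨z l, (z l)^(x l)⟩` -/
def fourV {ι : Type} (x z : ι → G) (l : ι) : Subgroup G := zpowers (z l) ⊔ zpowers (x l * z l * (x l)⁻¹)

namespace Dat

variable {S : Sylow 2 G} {Q : Subgroup G} {ι : Type} {Z : ι → Subgroup G} {x z : ι → G}
  (D : Dat S Q Z x z)
include D

theorem four_le (l : ι) : fourV x z l ≤ Z l :=
  sup_le (zpowers_le.2 (D.zm l)) (zpowers_le.2 (D.nor l _ (D.zm l)))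

theorem mem_four {l : ι} {v : G} (hv : v ∈ fourV x z l) : v = 1 ∨ v = z l ∨ v = x l * z l * (x l)⁻¹ ∨
    v = x l * (x l * z l * (x l)⁻¹) * (x l)⁻¹ := by
  have ha := D.le l (D.zm l)
  have hb := D.le l (D.nor l _ (D.zm l))
  have hc := D.le l (D.nor l _ (D.nor l _ (D.zm l)))
  have hab : ∀ u ∈ zpowers (z l), ∀ w ∈ zpowers (x l * z l * (x l)⁻¹), u * w = w * u := by
    intro u hu w hw
    exact D.comm (zpowers_le.2 ha hu) (zpowers_le.2 hb hw)
  have h3 := D.three l _ (D.zm l)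
  obtain ⟨u, hu, w, hw, rfl⟩ : ∃ u ∈ zpowers (z l), ∃ w ∈ zpowers (x l * z l * (x l)⁻¹), v = u * w := by
    have : zpowers (z l) ≤ normalizer ((zpowers (x l * z l * (x l)⁻¹) : Subgroup G) : Set G) := by
      intro u hu
      rw [mem_normalizer_iff_cj]
      have : ∀ u ∈ zpowers (z l), cj u (zpowers (x l * z l * (x l)⁻¹)) ≤ zpowers (x l * z l * (x l)⁻¹) := by
        rintro u hu _ ⟨w, hw, rfl⟩
        change u * w * u⁻¹ ∈ _
        rw [hab u hu w hw, mul_inv_cancel_right]
        exact hw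
      refine le_antisymm (this u hu) ?_
      have h := this u⁻¹ (inv_mem hu)
      rwa [cj_le_iff, inv_inv] at h
    have hv' : v ∈ ((zpowers (z l) ⊔ zpowers (x l * z l * (x l)⁻¹) : Subgroup G) : Set G) := hv
    rw [Subgroup.coe_mul_of_left_le_normalizer_right _ _ this] at hv'
    obtain ⟨u, hu, w, hw, h⟩ := Set.mem_mul.1 hv'
    exact ⟨u, hu, w, hw, h.symm⟩
  rw [Cfsg.Agent.MinSimple.Geo.mem_zpowers_iff_of_mul_self (D.sq' ha)] at hu
  rw [Cfsg.Agent.MinSimple.Geo.mem_zpowers_iff_of_mul_self (D.sq' hb)] at hw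
  rcases hu with rfl | rfl <;> rcases hw with rfl | rfl
  · left; simp
  · right; right; left; simp
  · right; left; simp
  · right; right; right
    exact mul_eq_one_iff_eq_inv.1 h3 |>.trans (inv_eq_of_mul_eq_one_left (D.sq' hc))

theorem x_cent {l m : ι} (h : l ≠ m) : x l ∈ centralizer (Z m : Set G) := by
  rw [mem_centralizer_iff]
  intro v hv
  have := D.triv l m h v hv
  calc v * x l = (x l * v * (x l)⁻¹) * x l := by rw [this]
    _ = x l * v := by group

theorem cj_four [Finite G] {s : G} (hs : s ∈ (S : Subgroup G)) {l m : ι} (h : ∀ v ∈ Z l, s * v * s⁻¹ ∈ Z m) :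
    cj s (fourV x z l) ≤ fourV x z m := by
  obtain ⟨n, hn, hx⟩ := D.perm s hs l
  obtain rfl : n = m := D.unique hn h
  have h1 := D.conj_z hs h
  have hzc := D.le n (D.zm n)
  have a1 : z n ∈ fourV x z n := (le_sup_left : zpowers (z n) ≤ fourV x z n) (mem_zpowers _)
  have a2 : x n * z n * (x n)⁻¹ ∈ fourV x z n :=
    (le_sup_right : zpowers (x n * z n * (x n)⁻¹) ≤ fourV x z n) (mem_zpowers _)
  rw [cj_le_iff, fourV, sup_le_iff, zpowers_le, zpowers_le]
  constructor
  · rw [mem_cj, inv_inv, h1]; exact a1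
  · rw [mem_cj, inv_inv]
    have e : s * (x l * z l * (x l)⁻¹) * s⁻¹ = (s * x l * s⁻¹) * (s * z l * s⁻¹) * (s * x l * s⁻¹)⁻¹ := by group
    rw [e, h1]
    rcases hx with hx | hx
    · rw [hx _ hzc]; exact a2
    · rw [hx _ hzc]
      -- `(x n)⁻¹ z n x n = z n · z n ^ (x n)`
      have h3 := D.three n _ (D.nor n _ (D.zm n))
      have h4 := D.three n _ (D.zm n)
      have e2 : (x n)⁻¹ * z n * x n = z n * (x n * z n * (x n)⁻¹) := by
        have h5 : (x n)⁻¹ * (z n * (x n * z n * (x n)⁻¹) * (x n * (x n * z n * (x n)⁻¹) * (x n)⁻¹)) * x n =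
            (x n)⁻¹ * 1 * x n := by rw [h4]
        have h6 : (x n)⁻¹ * (z n * (x n * z n * (x n)⁻¹) * (x n * (x n * z n * (x n)⁻¹) * (x n)⁻¹)) * x n =
            (x n)⁻¹ * z n * x n * (z n * (x n * z n * (x n)⁻¹)) := by group
        have h7 : (x n)⁻¹ * 1 * x n = 1 := by group
        rw [h6, h7] at h5
        rw [mul_eq_one_iff_eq_inv.1 h5]
        have h8 := D.sq' (mul_mem hzc (D.le n (D.nor n _ (D.zm n))))
        exact inv_eq_of_mul_eq_one_left h8
      rw [e2]
      exact mul_mem a1 a2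

theorem cj_four_eq [Finite G] {s : G} (hs : s ∈ (S : Subgroup G)) {l m : ι} (h : ∀ v ∈ Z l, s * v * s⁻¹ ∈ Z m) :
    cj s (fourV x z l) = fourV x z m := by
  refine le_antisymm (D.cj_four hs h) ?_
  have h1 := D.cj_four (inv_mem hs) (l := m) (m := l) (by rw [inv_inv]; exact D.conj_inv hs h)
  rwa [cj_le_iff, inv_inv] at h1

end Dat

/-- **(7) of THEOREM C, `q = 2`.** -/
theorem seven [Finite G] {S : Sylow 2 G} {Q : Subgroup G} {ι : Type} [Finite ι] {Z : ι → Subgroup G}
    {x z : ι → G} (D : Dat S Q Z x z) (star : ι → ι) (hstar : ∀ l, star (star l) = l)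
    (hperm : ∀ s ∈ (S : Subgroup G), ∀ l m, (∀ v ∈ Z l, s * v * s⁻¹ ∈ Z m) →
      ∀ v ∈ Z (star l), s * v * s⁻¹ ∈ Z (star m))
    (hc : ∀ i l, l ≠ i → l ≠ star i → o2 (centralizer {z i}) ≤ centralizer ({z l} : Set G)) :
    ∀ i, ((S : Subgroup G) ⊓ centralizer {z i}).relIndex (o2 (centralizer {z i})) ≤ 2 := by
  intro i
  -- `W (z i)` centralises `V l`
  have h1 : ∀ i l, l ≠ i → l ≠ star i → o2 (centralizer {z i}) ≤ centralizer (fourV x z l : Set G) := by
    intro i l hl hl'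
    have hx : x l ∈ centralizer ({z i} : Set G) := by
      rw [mem_centralizer_singleton_iff]
      exact (mem_centralizer_iff.1 (D.x_cent hl) _ (D.zm i)).symm
    have hn := cj_eq_of_mem_normalizer (ZN.le_normalizer_o2 _ hx)
    have a1 := hc i l hl hl'
    rw [le_centralizer_iff, fourV, sup_le_iff, zpowers_le, zpowers_le]
    constructor
    · rw [mem_centralizer_iff]
      exact fun w hw => mem_centralizer_singleton_iff.1 (a1 hw)
    · rw [mem_centralizer_iff]
      intro w hw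
      have hw' : (x l)⁻¹ * w * x l ∈ o2 (centralizer {z i}) := by
        rw [← mem_cj, hn]; exact hw
      have h2 := mem_centralizer_singleton_iff.1 (a1 hw')
      calc w * (x l * z l * (x l)⁻¹) = x l * ((x l)⁻¹ * w * x l * z l) * (x l)⁻¹ := by group
        _ = x l * (z l * ((x l)⁻¹ * w * x l)) * (x l)⁻¹ := by rw [h2]
        _ = x l * z l * (x l)⁻¹ * w := by group
  have hW : ∀ i l, l ≠ i → l ≠ star i → ∀ v ∈ fourV x z i, v ≠ 1 →
      TwoSeven.W v ≤ centralizer (fourV x z l : Set G) := by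
    intro i l hl hl' v hv hv1
    have key : ∀ g : G, g ∈ centralizer (Z l : Set G) →
        TwoSeven.W (g * z i * g⁻¹) ≤ centralizer (fourV x z l : Set G) := by
      intro g hg
      rw [← TwoSeven.cj_W, cj_le_iff]
      have h2 : g⁻¹ ∈ normalizer ((centralizer (fourV x z l : Set G) : Subgroup G) : Set G) :=
        le_normalizer (inv_mem (centralizer_le (D.four_le l) hg))
      rw [cj_eq_of_mem_normalizer h2]
      exact h1 i l hl hl'
    have hx : x i ∈ centralizer (Z l : Set G) := D.x_cent hl.symm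
    rcases D.mem_four hv with rfl | rfl | rfl | rfl
    · exact absurd rfl hv1
    · have := key 1 (one_mem _)
      simpa using this
    · exact key _ hx
    · have := key (x i * x i) (mul_mem hx hx)
      have e : x i * (x i * z i * (x i)⁻¹) * (x i)⁻¹ = x i * x i * z i * (x i * x i)⁻¹ := by group
      rwa [e]
  have hS : ∀ s ∈ S, ∀ l, ∃ m, cj s (fourV x z l) = fourV x z m ∧
      cj s (fourV x z (star l)) = fourV x z (star m) := by
    intro s hs l
    obtain ⟨m, hm, -⟩ := D.perm s hs l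
    exact ⟨m, D.cj_four_eq hs hm, D.cj_four_eq hs (hperm s hs l m hm)⟩
  have htr : ∀ l m, ∃ s ∈ S, cj s (fourV x z l) = fourV x z m ∧
      cj s (fourV x z (star l)) = fourV x z (star m) := by
    intro l m
    obtain ⟨s, hs, hm⟩ := D.trans l m
    exact ⟨s, hs, D.cj_four_eq hs hm, D.cj_four_eq hs (hperm s hs l m hm)⟩
  have hz : z i ∈ fourV x z i := (le_sup_left : zpowers (z i) ≤ fourV x z i) (mem_zpowers _)
  have h2 := TwoSeven.card_le S hstar hW hS htr hz (D.z1 i) fun s hs h => by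
    obtain ⟨m, hm, -⟩ := D.perm s hs i
    have h3 : m = i := by
      by_contra hne
      have h4 : s * z i * s⁻¹ ∈ fourV x z i := by rw [← h]; exact conj_mem_cj hz
      have h5 := D.disj hne (hm _ (D.zm i)) (D.four_le i h4)
      apply D.z1 i
      calc z i = s⁻¹ * (s * z i * s⁻¹) * s := by group
        _ = 1 := by rw [h5]; group
    subst h3
    have h4 := D.conj_z hs hm
    rw [mem_centralizer_singleton_iff]
    calc s * z m = s * z m * s⁻¹ * s := by group
      _ = z m * s := by rw [h4]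
  have h3 : o2 (centralizer {z i}) ⊓ ((S : Subgroup G) ⊓ centralizer {z i}) =
      o2 (centralizer {z i}) ⊓ (S : Subgroup G) :=
    le_antisymm (le_inf inf_le_left (inf_le_right.trans inf_le_left))
      (le_inf inf_le_left (le_inf inf_le_right (inf_le_left.trans (ZN.o2_le _))))
  have h4 := ZN.Block.card_mul_relIndex' (K := o2 (centralizer {z i}) ⊓ (S : Subgroup G))
    (L := o2 (centralizer {z i})) inf_le_left
  have h5 : ((S : Subgroup G) ⊓ centralizer {z i}).relIndex (o2 (centralizer {z i})) =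
      (o2 (centralizer {z i}) ⊓ (S : Subgroup G)).relIndex (o2 (centralizer {z i})) := by
    rw [← h3, inf_relIndex_left]
  rw [h5]
  have h6 : 0 < Nat.card (o2 (centralizer {z i}) ⊓ (S : Subgroup G) : Subgroup G) := Nat.card_pos
  refine Nat.le_of_mul_le_mul_left ?_ h6
  rw [h4, mul_comm _ 2]
  exact h2

end Cfsg.Agent.Omega.ThmC
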