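import Cfsg.Agent.Omega.ThmC.TwoMod
import Cfsg.Agent.Omega.Half.Basic
import Cfsg.Agent.Omega.IITwo.Count

/-!
# THEOREM C, `q = 2`, step (0)

The module `Md Q = Ω₁Z(Q)`: projections `D.pi l` onto `Z l`, the permutation `D.sg s` of the factors
by `s ∈ S`, the kernel `S0`, the module `E = Ω₁Z(S0)`.
-/

set_option autoImplicit false

namespace Cfsg.Agent.Omega.ThmC

open Subgroup Cfsg Cfsg.Agent.MinSimple.VModule
open Cfsg.Agent.ZN (zc o2)
open Cfsg.Agent.Omega.IITwo.Count (conj_mem conj_mem' mem_norm)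

universe u

variable {G : Type u} [Group G]

/-- the projection `x + x²`. -/
def pr (x v : G) : G := (x * v * x⁻¹) * (x * (x * v * x⁻¹) * x⁻¹)

theorem pr_mem {X : Subgroup G} {x v : G} (hx : x ∈ normalizer (X : Set G)) (hv : v ∈ X) :
    pr x v ∈ X := mul_mem (conj_mem hx hv) (conj_mem hx (conj_mem hx hv))

theorem pr_mul {Y : Subgroup G} {x : G} (hx : x ∈ normalizer (zc Y : Set G)) {v w : G}
    (hv : v ∈ zc Y) (hw : w ∈ zc Y) : pr x (v * w) = pr x v * pr x w := by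
  have h1 := conj_mem hx hv
  have h2 := conj_mem hx hw
  have h3 := conj_mem hx h1
  have hc := zc_comm Y _ h3 _ h2
  unfold pr
  calc x * (v * w) * x⁻¹ * (x * (x * (v * w) * x⁻¹) * x⁻¹)
      = (x * v * x⁻¹) * (x * w * x⁻¹) * ((x * (x * v * x⁻¹) * x⁻¹) * (x * (x * w * x⁻¹) * x⁻¹)) := by
        group
    _ = (x * v * x⁻¹) * ((x * w * x⁻¹) * (x * (x * v * x⁻¹) * x⁻¹)) * (x * (x * w * x⁻¹) * x⁻¹) := by
        group
    _ = (x * v * x⁻¹) * ((x * (x * v * x⁻¹) * x⁻¹) * (x * w * x⁻¹)) * (x * (x * w * x⁻¹) * x⁻¹) := by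
        rw [hc]
    _ = _ := by group

/-- the kernel of `S` on the factors. -/
def S0 (S : Subgroup G) {ι : Type} (Z : ι → Subgroup G) : Subgroup G :=
  S ⊓ ⨅ l, normalizer (Z l : Set G)

theorem mem_S0 {S : Subgroup G} {ι : Type} {Z : ι → Subgroup G} {s : G} :
    s ∈ S0 S Z ↔ s ∈ S ∧ ∀ l, s ∈ normalizer (Z l : Set G) := by
  simp only [S0, mem_inf, mem_iInf]

namespace Dat

variable {S : Sylow 2 G} {Q : Subgroup G} {ι : Type} {Z : ι → Subgroup G} {x z : ι → G}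

section basics
variable (D : Dat S Q Z x z)
include D

theorem xN (l : ι) : x l ∈ normalizer (zc Q : Set G) := normalizer_le_normalizer_zc Q (D.xQ l)

theorem sq {l : ι} {v : G} (hv : v ∈ Z l) : v * v = 1 := by
  have := zc_sq Q v (D.le l hv)
  rwa [pow_two] at this

theorem pr_self {l : ι} {v : G} (hv : v ∈ Z l) : pr (x l) v = v := by
  have h := D.three l v hv
  have h1 := D.nor l v hv
  have h2 := D.nor l _ h1
  unfold pr
  rw [mul_assoc] at h
  rw [← eq_inv_of_mul_eq_one_right h |>.symm]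
  exact inv_eq_of_mul_eq_one_right (D.sq hv)

theorem pr_other {l m : ι} (h : l ≠ m) {v : G} (hv : v ∈ Z m) : pr (x l) v = 1 := by
  unfold pr
  rw [D.triv l m h v hv, D.triv l m h v hv, D.sq hv]

/-- `π l` on `Md Q`. -/
def pi (l : ι) : Md Q →+ Md Q :=
  Md.lft (pr (x l)) (fun _ hv => pr_mem (D.xN l) hv) (fun _ hv _ hw => pr_mul (D.xN l) hv hw)

@[simp] theorem val_pi (l : ι) (a : Md Q) : (D.pi l a).val = pr (x l) a.val := rfl

theorem pi_self {l : ι} {a : Md Q} (ha : a.val ∈ Z l) : D.pi l a = a :=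
  Md.ext (by rw [val_pi, D.pr_self ha])

theorem pi_other {l m : ι} (h : l ≠ m) {a : Md Q} (ha : a.val ∈ Z m) : D.pi l a = 0 :=
  Md.ext (by rw [val_pi, D.pr_other h ha, Md.val_zero])

theorem decomp [Fintype ι] (a : Md Q) : ∃ f : ι → Md Q, (∀ l, (f l).val ∈ Z l) ∧ a = ∑ l, f l := by
  classical
  have key : ∀ v ∈ ⨆ l, Z l, ∃ f : ι → Md Q, (∀ l, (f l).val ∈ Z l) ∧ v = (∑ l, f l).val := by
    intro v hv
    induction hv using iSup_induction' with
    | hp i v hv =>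
      refine ⟨Pi.single i (Md.mk v (D.le i hv)), fun l => ?_, ?_⟩
      · rcases eq_or_ne l i with rfl | h
        · simpa using hv
        · rw [Pi.single_eq_of_ne h]
          simp
      · rw [Finset.sum_pi_single']
        simp
    | h1 => exact ⟨0, fun l => by simp, by simp⟩
    | hmul v w _ _ ihv ihw =>
      obtain ⟨f, hf, hfv⟩ := ihv
      obtain ⟨g, hg, hgv⟩ := ihw
      refine ⟨f + g, fun l => mul_mem (hf l) (hg l), ?_⟩
      rw [hfv, hgv, ← Md.val_add, ← Finset.sum_add_distrib]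
      rfl
  obtain ⟨f, hf, hfv⟩ := key a.val (D.sup a.val_mem)
  exact ⟨f, hf, Md.ext hfv⟩

theorem pi_decomp [Fintype ι] {f : ι → Md Q} (hf : ∀ l, (f l).val ∈ Z l) (l : ι) :
    D.pi l (∑ m, f m) = f l := by
  classical
  rw [map_sum, Finset.sum_eq_single l]
  · exact D.pi_self (hf l)
  · intro m _ hm
    exact D.pi_other hm.symm (hf m)
  · intro h
    exact absurd (Finset.mem_univ l) h

theorem pi_mem [Finite ι] (l : ι) (a : Md Q) : (D.pi l a).val ∈ Z l := by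
  have := Fintype.ofFinite ι
  obtain ⟨f, hf, rfl⟩ := D.decomp a
  rw [D.pi_decomp hf]
  exact hf l

theorem pi_eq_iff [Finite ι] {l : ι} {a : Md Q} : D.pi l a = a ↔ a.val ∈ Z l :=
  ⟨fun h => h ▸ D.pi_mem l a, D.pi_self⟩

theorem pi_idem [Finite ι] (l : ι) (a : Md Q) : D.pi l (D.pi l a) = D.pi l a := D.pi_self (D.pi_mem l a)

theorem pi_orth [Finite ι] {l m : ι} (h : l ≠ m) (a : Md Q) : D.pi l (D.pi m a) = 0 :=
  D.pi_other h (D.pi_mem m a)

theorem pi_sum [Fintype ι] (a : Md Q) : ∑ l, D.pi l a = a := by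
  obtain ⟨f, hf, rfl⟩ := D.decomp a
  exact Finset.sum_congr rfl fun l _ => D.pi_decomp hf l

theorem disjZ {l m : ι} (h : l ≠ m) {v : G} (hv : v ∈ Z l) (hw : v ∈ Z m) : v = 1 := by
  rw [← D.pr_self hv, D.pr_other h hw]

/-- endomorphisms agreeing on the factors agree. -/
theorem hom_ext [Finite ι] {f g : Md Q →+ Md Q} (h : ∀ l, ∀ a : Md Q, a.val ∈ Z l → f a = g a)
    (a : Md Q) : f a = g a := by
  have := Fintype.ofFinite ι
  rw [← D.pi_sum a, map_sum, map_sum]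
  exact Finset.sum_congr rfl fun l _ => h l _ (D.pi_mem l a)

/-- the automorphism `x l` of `zc Q`. -/
def X (l : ι) : MulAut ↥(zc Q) := Md.cjE (D.xN l)

@[simp] theorem val_X (l : ι) (a : Md Q) : (D.X l • a).val = x l * a.val * (x l)⁻¹ := rfl

theorem X_other {l m : ι} (h : l ≠ m) {a : Md Q} (ha : a.val ∈ Z m) : D.X l • a = a :=
  Md.ext (by rw [val_X, D.triv l m h _ ha])

theorem X_mem {l : ι} {a : Md Q} (ha : a.val ∈ Z l) : (D.X l • a).val ∈ Z l := D.nor l _ ha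

theorem X_three {l : ι} {a : Md Q} (ha : a.val ∈ Z l) : a + D.X l • a + D.X l • D.X l • a = 0 :=
  Md.ext (D.three l _ ha)

theorem X_pi (l : ι) (a : Md Q) : D.X l • a + D.X l • D.X l • a = D.pi l a := rfl

theorem X_cube [Finite ι] (l : ι) (a : Md Q) : D.X l • D.X l • D.X l • a = a := by
  let f : Md Q →+ Md Q := DistribSMul.toAddMonoidHom (Md Q) (D.X l * D.X l * D.X l)
  have hf : ∀ a, f a = D.X l • D.X l • D.X l • a := fun a => by
    change (D.X l * D.X l * D.X l) • a = _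
    rw [mul_smul, mul_smul]
  have := D.hom_ext (f := f) (g := AddMonoidHom.id _) (fun m a ha => ?_) a
  · rw [← hf]; exact this
  · rw [hf, AddMonoidHom.id_apply]
    rcases eq_or_ne l m with rfl | h
    · have h1 := D.X_three ha
      have h2 := D.X_three (D.X_mem ha)
      rw [add_assoc] at h1
      have h3 : D.X l • a + D.X l • D.X l • a = a := by
        have := neg_eq_of_add_eq_zero_right h1
        rw [← this, Md.neg_eq]
      have h4 := neg_eq_of_add_eq_zero_right h2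
      rw [Md.neg_eq, h3] at h4
      exact h4.symm
    · rw [D.X_other h ha, D.X_other h ha, D.X_other h ha]

theorem X_comm [Finite ι] (l m : ι) : D.X l * D.X m = D.X m * D.X l := by
  rcases eq_or_ne l m with rfl | hlm
  · rfl
  apply Md.ext_smul
  let f : Md Q →+ Md Q := DistribSMul.toAddMonoidHom (Md Q) (D.X l * D.X m)
  let g : Md Q →+ Md Q := DistribSMul.toAddMonoidHom (Md Q) (D.X m * D.X l)
  intro a
  refine D.hom_ext (f := f) (g := g) (fun i a ha => ?_) a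
  change (D.X l * D.X m) • a = (D.X m * D.X l) • a
  rw [mul_smul, mul_smul]
  rcases eq_or_ne l i with rfl | h
  · rw [D.X_other hlm.symm ha, D.X_other hlm.symm (D.X_mem ha)]
  · rcases eq_or_ne m i with rfl | h'
    · rw [D.X_other h ha, D.X_other h (D.X_mem ha)]
    · rw [D.X_other h ha, D.X_other h' ha, D.X_other h ha]

/-! ### the action of `S` -/

theorem SN [Finite G] : (S : Subgroup G) ≤ normalizer (zc Q : Set G) := by
  intro s hs
  refine mem_norm fun v hv => ?_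
  have hv' := D.sup hv
  clear hv
  induction hv' using iSup_induction' with
  | hp i v hv =>
    obtain ⟨m, hm, -⟩ := D.perm s hs i
    exact D.le m (hm v hv)
  | h1 => simp
  | hmul v w _ _ ihv ihw =>
    have : s * (v * w) * s⁻¹ = (s * v * s⁻¹) * (s * w * s⁻¹) := by group
    rw [this]; exact mul_mem ihv ihw

theorem SQ [Finite G] : (S : Subgroup G) ≤ normalizer (Q : Set G) := by
  intro s hs
  refine mem_norm fun q hq => D.SC (mem_inf.mpr ⟨mul_mem (mul_mem hs (D.QS hq)) (inv_mem hs), ?_⟩)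
  rw [mem_centralizer_iff]
  intro v hv
  have h1 := conj_mem' (D.SN hs) hv
  have h2 : q * (s⁻¹ * v * s) = (s⁻¹ * v * s) * q := (mem_centralizer_iff.mp (zc_le_centralizer Q h1) q hq)
  calc v * (s * q * s⁻¹) = s * ((s⁻¹ * v * s) * q) * s⁻¹ := by group
    _ = s * (q * (s⁻¹ * v * s)) * s⁻¹ := by rw [h2]
    _ = s * q * s⁻¹ * v := by group

/-- the index of the factor `s (Z l) s⁻¹`. -/
noncomputable def sg (_ : Dat S Q Z x z) (s : G) (l : ι) : ι := by
  classical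
  exact if h : ∃ m, (∀ v ∈ Z l, s * v * s⁻¹ ∈ Z m) ∧
      ((∀ v ∈ zc Q, (s * x l * s⁻¹) * v * (s * x l * s⁻¹)⁻¹ = x m * v * (x m)⁻¹) ∨
        (∀ v ∈ zc Q, (s * x l * s⁻¹) * v * (s * x l * s⁻¹)⁻¹ = (x m)⁻¹ * v * x m)) then h.choose else l

theorem sg_spec {s : G} (hs : s ∈ (S : Subgroup G)) (l : ι) :
    (∀ v ∈ Z l, s * v * s⁻¹ ∈ Z (D.sg s l)) ∧
      ((∀ v ∈ zc Q, (s * x l * s⁻¹) * v * (s * x l * s⁻¹)⁻¹ = x (D.sg s l) * v * (x (D.sg s l))⁻¹) ∨
        (∀ v ∈ zc Q, (s * x l * s⁻¹) * v * (s * x l * s⁻¹)⁻¹ = (x (D.sg s l))⁻¹ * v * x (D.sg s l))) := by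
  have h := D.perm s hs l
  have : D.sg s l = h.choose := dif_pos h
  rw [this]
  exact h.choose_spec

theorem sg_eq {s : G} (hs : s ∈ (S : Subgroup G)) {l m : ι} {v : G} (hv : v ∈ Z l) (h1 : v ≠ 1)
    (h : s * v * s⁻¹ ∈ Z m) : D.sg s l = m := by
  by_contra hne
  have := D.disjZ hne ((D.sg_spec hs l).1 v hv) h
  exact h1 (by simpa using this)

theorem sg_eq' {s : G} (hs : s ∈ (S : Subgroup G)) {l m : ι} (h : ∀ v ∈ Z l, s * v * s⁻¹ ∈ Z m) :
    D.sg s l = m := D.sg_eq hs (D.zm l) (D.z1 l) (h _ (D.zm l))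

theorem sg_mul {s t : G} (hs : s ∈ (S : Subgroup G)) (ht : t ∈ (S : Subgroup G)) (l : ι) :
    D.sg (s * t) l = D.sg s (D.sg t l) := by
  refine D.sg_eq' (mul_mem hs ht) fun v hv => ?_
  have := (D.sg_spec hs _).1 _ ((D.sg_spec ht l).1 v hv)
  have h2 : s * t * v * (s * t)⁻¹ = s * (t * v * t⁻¹) * s⁻¹ := by group
  rwa [h2]

theorem sg_one (l : ι) : D.sg 1 l = l := D.sg_eq' (one_mem _) fun v hv => by simpa using hv

theorem sg_inv {s : G} (hs : s ∈ (S : Subgroup G)) {l m : ι} (h : D.sg s l = m) : D.sg s⁻¹ m = l := by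
  rw [← h, ← D.sg_mul (inv_mem hs) hs, inv_mul_cancel, D.sg_one]

theorem sg_inv_mem {s : G} (hs : s ∈ (S : Subgroup G)) {l : ι} {v : G} (hv : v ∈ Z (D.sg s l)) :
    s⁻¹ * v * s ∈ Z l := by
  have := (D.sg_spec (inv_mem hs) (D.sg s l)).1 v hv
  rwa [D.sg_inv hs rfl, inv_inv] at this

theorem mem_nor_iff [Finite G] {s : G} (hs : s ∈ (S : Subgroup G)) {l : ι} :
    s ∈ normalizer (Z l : Set G) ↔ D.sg s l = l := by
  constructor
  · intro h
    exact D.sg_eq' hs fun v hv => conj_mem h hv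
  · intro h
    refine mem_norm fun v hv => ?_
    have := (D.sg_spec hs l).1 v hv
    rwa [h] at this

theorem mem_S0_iff [Finite G] {s : G} (hs : s ∈ (S : Subgroup G)) :
    s ∈ S0 (S : Subgroup G) Z ↔ ∀ l, D.sg s l = l := by
  rw [mem_S0]
  exact ⟨fun h l => (D.mem_nor_iff hs).mp (h.2 l), fun h => ⟨hs, fun l => (D.mem_nor_iff hs).mpr (h l)⟩⟩

/-- `s π_l = π_{s l} s`. -/
theorem pr_conj [Finite ι] [Finite G] {s : G} (hs : s ∈ (S : Subgroup G)) (l : ι) {v : G} (hv : v ∈ zc Q) :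
    s * pr (x l) v * s⁻¹ = pr (x (D.sg s l)) (s * v * s⁻¹) := by
  have := Fintype.ofFinite ι
  obtain ⟨f, hf, hfv⟩ := D.decomp (Md.mk v hv)
  have hsN := D.SN hs
  let g : ι → Md Q := fun m => Md.cjE hsN • f (D.sg s⁻¹ m)
  have hg : ∀ m, (g m).val ∈ Z m := by
    intro m
    have h1 := (D.sg_spec hs (D.sg s⁻¹ m)).1 _ (hf (D.sg s⁻¹ m))
    have h2 : D.sg s (D.sg s⁻¹ m) = m := by
      rw [← D.sg_mul hs (inv_mem hs), mul_inv_cancel, D.sg_one]
    rw [h2] at h1
    exact h1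
  have h3 : Md.cjE hsN • (Md.mk v hv) = ∑ m, g m := by
    rw [hfv, Finset.smul_sum]
    let e : ι ≃ ι := ⟨D.sg s⁻¹, D.sg s, fun m => by
      rw [← D.sg_mul hs (inv_mem hs), mul_inv_cancel, D.sg_one], fun m => by
      rw [← D.sg_mul (inv_mem hs) hs, inv_mul_cancel, D.sg_one]⟩
    exact (Equiv.sum_comp e (fun m => Md.cjE hsN • f m)).symm
  have h4 : D.pi (D.sg s l) (Md.cjE hsN • (Md.mk v hv)) = Md.cjE hsN • D.pi l (Md.mk v hv) := by
    rw [h3, D.pi_decomp hg, hfv, D.pi_decomp hf]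
    change Md.cjE hsN • f (D.sg s⁻¹ (D.sg s l)) = _
    rw [D.sg_inv hs rfl]
  exact (congrArg Md.val h4).symm

/-- `z_l` is fixed by `N_S(Z_l)`. -/
theorem z_fix [Finite G] {s : G} (hs : s ∈ (S : Subgroup G)) {l : ι} (h : D.sg s l = l) :
    s * z l * s⁻¹ = z l := by
  have hV : IsPGroup 2 (Z l) := by
    intro v
    refine ⟨1, Subtype.ext ?_⟩
    have := D.sq v.2
    simpa [pow_two] using this
  have hne : Z l ≠ ⊥ := by
    intro h0
    have := D.zm l
    rw [h0, mem_bot] at this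
    exact D.z1 l this
  obtain ⟨v, hv, hv1, hv2⟩ := Half.exists_fixed (V := Z l)
    (T := (S : Subgroup G) ⊓ normalizer (Z l : Set G)) hV hne (S.2.to_le inf_le_left) inf_le_right
  have h3 := D.zfix l v hv (fun s hs h => hv2 s ⟨hs, mem_norm h⟩)
  rcases h3 with h3 | h3
  · exact absurd h3 hv1
  · rw [← h3]
    exact hv2 s ⟨hs, (D.mem_nor_iff hs).mpr h⟩

theorem z_conj [Finite G] {s : G} (hs : s ∈ (S : Subgroup G)) (l : ι) :
    s * z l * s⁻¹ = z (D.sg s l) := by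
  have h1 := D.zfix (D.sg s l) (s * z l * s⁻¹) ((D.sg_spec hs l).1 _ (D.zm l)) (fun t ht h => ?_)
  · rcases h1 with h1 | h1
    · exact absurd (by simpa using h1) (D.z1 l)
    · exact h1
  · have h2 : D.sg t (D.sg s l) = D.sg s l := D.sg_eq' ht h
    have h3 : s⁻¹ * t * s ∈ (S : Subgroup G) := mul_mem (mul_mem (inv_mem hs) ht) hs
    have h4 : D.sg (s⁻¹ * t * s) l = l := by
      rw [D.sg_mul (mul_mem (inv_mem hs) ht) hs, D.sg_mul (inv_mem hs) ht, h2, D.sg_inv hs rfl]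
    have h5 := D.z_fix h3 h4
    calc t * (s * z l * s⁻¹) * t⁻¹ = s * ((s⁻¹ * t * s) * z l * (s⁻¹ * t * s)⁻¹) * s⁻¹ := by group
      _ = s * z l * s⁻¹ := by rw [h5]

theorem z_inj {l m : ι} (h : z l = z m) : l = m := by
  by_contra hne
  exact D.z1 l (D.disjZ hne (D.zm l) (h ▸ D.zm m))

/-- an element of `S` centralising `z_l` normalises `Z_l`. -/
theorem sg_of_z [Finite G] {s : G} (hs : s ∈ (S : Subgroup G)) {l : ι} (h : s * z l = z l * s) :
    D.sg s l = l := by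
  apply D.z_inj
  rw [← D.z_conj hs l, h]; group

theorem sg_iff_z [Finite G] {s : G} (hs : s ∈ (S : Subgroup G)) {l : ι} :
    D.sg s l = l ↔ s ∈ centralizer ({z l} : Set G) := by
  rw [mem_centralizer_singleton_iff]
  constructor
  · intro h
    have := D.z_fix hs h
    exact (mul_inv_eq_iff_eq_mul.mp this)
  · exact fun h => D.sg_of_z hs h

end basics

end Dat

end Cfsg.Agent.Omega.ThmC
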